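import Mathlib

/-!
Elementary facts about `SL(2, k)` and its action on the projective line, used for Dickson's theorem.
-/

set_option autoImplicit false

open scoped MatrixGroups
open Matrix OnePoint

namespace Cfsg.Agent.PLocalB

variable {k : Type*} [Field k]

/-- The upper unitriangular matrix with entry `a`. -/
def upper (a : k) : SL(2, k) := ⟨!![1, a; 0, 1], by simp [det_fin_two]⟩

/-- The lower unitriangular matrix with entry `a`. -/
def lower (a : k) : SL(2, k) := ⟨!![1, 0; a, 1], by simp [det_fin_two]⟩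

@[simp] theorem coe_upper (a : k) : (upper a : Matrix (Fin 2) (Fin 2) k) = !![1, a; 0, 1] := rfl

@[simp] theorem coe_lower (a : k) : (lower a : Matrix (Fin 2) (Fin 2) k) = !![1, 0; a, 1] := rfl

theorem upper_mul (a b : k) : upper a * upper b = upper (a + b) := by
  apply Subtype.ext
  rw [Matrix.SpecialLinearGroup.coe_mul, coe_upper, coe_upper, coe_upper, Matrix.mul_fin_two]
  simp [add_comm]

theorem lower_mul (a b : k) : lower a * lower b = lower (a + b) := by
  apply Subtype.ext
  rw [Matrix.SpecialLinearGroup.coe_mul, coe_lower, coe_lower, coe_lower, Matrix.mul_fin_two]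
  simp

@[simp] theorem upper_zero : upper (0 : k) = 1 := by
  ext i j; fin_cases i <;> fin_cases j <;> simp [upper]

@[simp] theorem lower_zero : lower (0 : k) = 1 := by
  ext i j; fin_cases i <;> fin_cases j <;> simp [lower]

theorem upper_inv (a : k) : (upper a)⁻¹ = upper (-a) :=
  inv_eq_of_mul_eq_one_right (by rw [upper_mul, add_neg_cancel, upper_zero])

theorem upper_pow (a : k) (m : ℕ) : upper a ^ m = upper (m * a) := by
  induction m with
  | zero => simp
  | succ m ih => rw [pow_succ, ih, upper_mul]; congr 1; push_cast; ring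

theorem lower_pow (a : k) (m : ℕ) : lower a ^ m = lower (m * a) := by
  induction m with
  | zero => simp
  | succ m ih => rw [pow_succ, ih, lower_mul]; congr 1; push_cast; ring

theorem upper_injective : Function.Injective (upper (k := k)) := fun a b h => by
  have := congrArg (fun g : SL(2, k) => g 0 1) h
  simpa [upper] using this

theorem det_entries (g : SL(2, k)) : g 0 0 * g 1 1 - g 0 1 * g 1 0 = 1 := by
  have h := g.2
  rw [det_fin_two] at h
  exact h

/-- The trace of an element of `SL(2, k)`. -/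
def tr (g : SL(2, k)) : k := g 0 0 + g 1 1

theorem tr_mul_comm (g h : SL(2, k)) : tr (g * h) = tr (h * g) := by
  simp [tr, Matrix.mul_apply, Fin.sum_univ_two]; ring

theorem tr_conj (g h : SL(2, k)) : tr (h * g * h⁻¹) = tr g := by
  rw [tr_mul_comm, ← mul_assoc, inv_mul_cancel, one_mul]

/-- An element fixing the point at infinity with lower right data determined. -/
theorem eq_upper_of_entries (g : SL(2, k)) (h10 : g 1 0 = 0) (h00 : g 0 0 = 1) :
    g = upper (g 0 1) := by
  have h := det_entries g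
  rw [h10, h00] at h
  ext i j; fin_cases i <;> fin_cases j
  · simpa [upper] using h00
  · simp [upper]
  · simpa [upper] using h10
  · simp [upper]; linear_combination h

theorem neg_one_entries : ((-1 : SL(2, k)) 0 0 = -1 ∧ (-1 : SL(2, k)) 0 1 = 0) ∧
    ((-1 : SL(2, k)) 1 0 = 0 ∧ (-1 : SL(2, k)) 1 1 = -1) := by
  simp [Matrix.SpecialLinearGroup.coe_neg]

theorem eq_one_of_diag (g : SL(2, k)) (h01 : g 0 1 = 0) (h10 : g 1 0 = 0) (h00 : g 0 0 = 1) :
    g = 1 := by
  rw [eq_upper_of_entries g h10 h00, h01, upper_zero]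

theorem eq_neg_one_of_diag (g : SL(2, k)) (h01 : g 0 1 = 0) (h10 : g 1 0 = 0)
    (h00 : g 0 0 = -1) : g = -1 := by
  have h := det_entries g
  rw [h10, h00, h01] at h
  ext i j; fin_cases i <;> fin_cases j
  · simpa [Matrix.SpecialLinearGroup.coe_neg] using h00
  · simpa [Matrix.SpecialLinearGroup.coe_neg] using h01
  · simpa [Matrix.SpecialLinearGroup.coe_neg] using h10
  · simp [Matrix.SpecialLinearGroup.coe_neg]; linear_combination -h

variable [DecidableEq k]

/-- Möbius action of `SL(2, k)` on the projective line. -/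
@[reducible] def lineAction : MulAction SL(2, k) (OnePoint k) :=
  MulAction.compHom _ (Matrix.SpecialLinearGroup.toGL : SL(2, k) →* GL (Fin 2) k)

attribute [local instance] lineAction

theorem smul_infty_iff (g : SL(2, k)) : g • (∞ : OnePoint k) = ∞ ↔ g 1 0 = 0 := by
  change Matrix.SpecialLinearGroup.toGL g • (∞ : OnePoint k) = ∞ ↔ _
  rw [OnePoint.smul_infty_eq_self_iff]
  rfl

theorem smul_infty_of_ne (g : SL(2, k)) (h : g 1 0 ≠ 0) :
    g • (∞ : OnePoint k) = ((g 0 0 / g 1 0 : k) : OnePoint k) := by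
  change Matrix.SpecialLinearGroup.toGL g • (∞ : OnePoint k) = _
  rw [OnePoint.smul_infty_eq_ite]
  exact if_neg h

theorem smul_coe_eq (g : SL(2, k)) (z : k) :
    g • (z : OnePoint k) = if g 1 0 * z + g 1 1 = 0 then ∞
      else (((g 0 0 * z + g 0 1) / (g 1 0 * z + g 1 1) : k) : OnePoint k) := by
  change Matrix.SpecialLinearGroup.toGL g • (z : OnePoint k) = _
  exact OnePoint.smul_some_eq_ite

theorem upper_smul_coe (a z : k) : upper a • (z : OnePoint k) = ((z + a : k) : OnePoint k) := by
  rw [smul_coe_eq]; simp [upper]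

theorem upper_smul_infty (a : k) : upper a • (∞ : OnePoint k) = ∞ := by
  rw [smul_infty_iff]; simp [upper]

/-- A determinant-one matrix sending `z` to infinity. -/
def toInfty (z : k) : SL(2, k) := ⟨!![0, -1; 1, -z], by simp [det_fin_two]⟩

theorem exists_smul_eq_infty (w : OnePoint k) : ∃ h : SL(2, k), h • w = ∞ := by
  cases w with
  | infty => exact ⟨1, one_smul _ _⟩
  | coe z =>
    refine ⟨toInfty z, ?_⟩
    have e : (toInfty z) 1 0 * z + (toInfty z) 1 1 = 0 := by simp [toInfty]
    exact (smul_coe_eq _ _).trans (if_pos e)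

theorem neg_smul (g : SL(2, k)) (w : OnePoint k) : (-g) • w = g • w := by
  cases w with
  | infty =>
    by_cases h : g 1 0 = 0
    · rw [(smul_infty_iff g).mpr h, smul_infty_iff]; simp [Matrix.SpecialLinearGroup.coe_neg, h]
    · rw [smul_infty_of_ne g h, smul_infty_of_ne _ (by simpa [Matrix.SpecialLinearGroup.coe_neg])]
      simp [Matrix.SpecialLinearGroup.coe_neg, neg_div_neg_eq]
  | coe z =>
    rw [smul_coe_eq, smul_coe_eq]
    have e : (-g) 1 0 * z + (-g) 1 1 = -(g 1 0 * z + g 1 1) := by
      simp [Matrix.SpecialLinearGroup.coe_neg]; ring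
    have e' : (-g) 0 0 * z + (-g) 0 1 = -(g 0 0 * z + g 0 1) := by
      simp [Matrix.SpecialLinearGroup.coe_neg]; ring
    rw [e, e', neg_div_neg_eq]
    by_cases h : g 1 0 * z + g 1 1 = 0
    · rw [if_pos h, if_pos (neg_eq_zero.mpr h)]
    · rw [if_neg h, if_neg (mt neg_eq_zero.mp h)]

theorem neg_one_smul_line (w : OnePoint k) : (-1 : SL(2, k)) • w = w := by
  rw [neg_smul, one_smul]

theorem exists_fixed [IsAlgClosed k] (h2 : (2 : k) ≠ 0) (g : SL(2, k)) :
    ∃ w : OnePoint k, g • w = w := by
  by_cases hc : g 1 0 = 0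
  · exact ⟨∞, (smul_infty_iff g).mpr hc⟩
  · obtain ⟨s, hs⟩ := IsAlgClosed.exists_eq_mul_self ((g 0 0 + g 1 1) ^ 2 - 4)
    refine ⟨(((g 0 0 - g 1 1 + s) / (2 * g 1 0) : k) : OnePoint k), ?_⟩
    have hd := det_entries g
    have e : g 1 0 * ((g 0 0 - g 1 1 + s) / (2 * g 1 0)) + g 1 1 = (g 0 0 + g 1 1 + s) / 2 := by
      field_simp; ring
    have hne : g 1 0 * ((g 0 0 - g 1 1 + s) / (2 * g 1 0)) + g 1 1 ≠ 0 := by
      intro h0
      rw [e, div_eq_zero_iff] at h0
      rcases h0 with h0 | h0
      · have : (4 : k) = 0 := by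
          have hs' : s = -(g 0 0 + g 1 1) := by linear_combination h0
          rw [hs'] at hs
          linear_combination -hs
        exact mul_ne_zero h2 h2 (by linear_combination this)
      · exact h2 h0
    rw [smul_coe_eq, if_neg hne, OnePoint.coe_eq_coe, div_eq_iff hne]
    field_simp
    linear_combination (-(4 : k)) * hd + hs

/-- The fixed points of an upper triangular element other than `±1`. -/
theorem fixed_upper_triangular (g : SL(2, k)) (h10 : g 1 0 = 0) (h1 : g ≠ 1) (h2 : g ≠ -1) :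
    ((g 0 0 + g 1 1) ^ 2 = 4 → ∀ w : OnePoint k, g • w = w → w = ∞) ∧
    ((g 0 0 + g 1 1) ^ 2 ≠ 4 → ∃ z : k, ∀ w : OnePoint k, g • w = w ↔ (w = ∞ ∨ w = (z : OnePoint k))) := by
  have hd := det_entries g
  rw [h10, mul_zero, sub_zero] at hd
  have hd0 : g 1 1 ≠ 0 := fun h => by rw [h, mul_zero] at hd; exact zero_ne_one hd
  have key : ∀ z : k, g • (z : OnePoint k) = (z : OnePoint k) ↔
      (g 0 0 - g 1 1) * z + g 0 1 = 0 := by
    intro z
    rw [smul_coe_eq, if_neg (by simp [h10, hd0]), OnePoint.coe_eq_coe,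
      div_eq_iff (by simp [h10, hd0])]
    simp only [h10, zero_mul, zero_add]
    constructor <;> intro h <;> linear_combination h
  constructor
  · intro ht w hw
    cases w with
    | infty => rfl
    | coe z =>
      exfalso
      have had : g 0 0 = g 1 1 := by
        have : (g 0 0 - g 1 1) ^ 2 = 0 := by linear_combination ht - 4 * hd
        exact sub_eq_zero.mp (pow_eq_zero_iff two_ne_zero |>.mp this)
      have hb : g 0 1 = 0 := by
        have := (key z).mp hw
        rw [had, sub_self, zero_mul, zero_add] at this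
        exact this
      have : g 0 0 * g 0 0 = 1 := by linear_combination hd + g 0 0 * had
      rcases mul_self_eq_one_iff.mp this with h | h
      · exact h1 (eq_one_of_diag g hb h10 h)
      · exact h2 (eq_neg_one_of_diag g hb h10 h)
  · intro ht
    have had : g 0 0 - g 1 1 ≠ 0 := fun h => ht (by linear_combination (g 0 0 - g 1 1) * h + 4 * hd)
    refine ⟨-g 0 1 / (g 0 0 - g 1 1), fun w => ?_⟩
    cases w with
    | infty => simp [(smul_infty_iff g).mpr h10]
    | coe z =>
      rw [key z]
      simp only [OnePoint.coe_ne_infty, false_or, OnePoint.coe_eq_coe]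
      rw [eq_div_iff had]
      constructor <;> intro h <;> linear_combination h

theorem conj_ne_one' {G : Type*} [Group G] {g h : G} (h1 : g ≠ 1) : h * g * h⁻¹ ≠ 1 := by
  intro e
  apply h1
  have := congrArg (fun x => h⁻¹ * x * h) e
  simpa [mul_assoc] using this

omit [DecidableEq k] in
theorem conj_neg_one (h : SL(2, k)) : h * (-1) * h⁻¹ = -1 := by
  rw [mul_neg, mul_one, neg_mul, mul_inv_cancel]

omit [DecidableEq k] in
theorem conj_ne_neg_one {g h : SL(2, k)} (h1 : g ≠ -1) : h * g * h⁻¹ ≠ -1 := by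
  intro e
  apply h1
  calc g = h⁻¹ * (h * g * h⁻¹) * h := by simp [mul_assoc]
    _ = h⁻¹ * (-1) * h⁻¹⁻¹ := by rw [e, inv_inv]
    _ = -1 := conj_neg_one _

theorem smul_conj_fixed {g h : SL(2, k)} {w : OnePoint k} :
    (h * g * h⁻¹) • (h • w) = h • w ↔ g • w = w := by
  rw [mul_smul, mul_smul, inv_smul_smul, smul_left_cancel_iff]

/-- An element other than `±1` with trace `±2` has exactly one fixed point. -/
theorem fixed_parabolic [IsAlgClosed k] (h2 : (2 : k) ≠ 0) (g : SL(2, k)) (h1 : g ≠ 1)
    (hm : g ≠ -1) (ht : tr g ^ 2 = 4) : ∃ w : OnePoint k, ∀ v, g • v = v ↔ v = w := by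
  obtain ⟨w, hw⟩ := exists_fixed h2 g
  obtain ⟨h, hh⟩ := exists_smul_eq_infty w
  have h10 : (h * g * h⁻¹) 1 0 = 0 := by
    rw [← smul_infty_iff, ← hh, smul_conj_fixed]; exact hw
  have hu := (fixed_upper_triangular _ h10 (conj_ne_one' h1) (conj_ne_neg_one hm)).1
    (by rw [← ht, ← tr_conj g h]; rfl)
  refine ⟨w, fun v => ⟨fun hv => ?_, fun hv => hv ▸ hw⟩⟩
  have := hu (h • v) (smul_conj_fixed.mpr hv)
  rw [← hh] at this
  exact smul_left_cancel h this

/-- An element other than `±1` with trace not `±2` has exactly two fixed points. -/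
theorem fixed_semisimple [IsAlgClosed k] (h2 : (2 : k) ≠ 0) (g : SL(2, k)) (h1 : g ≠ 1)
    (hm : g ≠ -1) (ht : tr g ^ 2 ≠ 4) :
    ∃ w w' : OnePoint k, w ≠ w' ∧ ∀ v, g • v = v ↔ (v = w ∨ v = w') := by
  obtain ⟨w, hw⟩ := exists_fixed h2 g
  obtain ⟨h, hh⟩ := exists_smul_eq_infty w
  have h10 : (h * g * h⁻¹) 1 0 = 0 := by
    rw [← smul_infty_iff, ← hh, smul_conj_fixed]; exact hw
  obtain ⟨z, hz⟩ := (fixed_upper_triangular _ h10 (conj_ne_one' h1) (conj_ne_neg_one hm)).2
    (by rw [← tr_conj g h] at ht; exact ht)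
  refine ⟨w, h⁻¹ • (z : OnePoint k), ?_, fun v => ?_⟩
  · intro e
    rw [e, smul_inv_smul] at hh
    exact OnePoint.coe_ne_infty z hh
  · rw [← smul_conj_fixed (h := h), hz (h • v), ← hh, smul_left_cancel_iff, eq_inv_smul_iff]

end Cfsg.Agent.PLocalB
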