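import Mathlib
import Cfsg.Agent.PLocalB.SL2Basic

/-!
Dickson: a finite subgroup of `SL(2, k)` in odd characteristic `p` whose `p`-elements do not all fix
one line contains a conjugate of `SL(2, p)`.
-/

set_option autoImplicit false
set_option linter.unusedSectionVars false
set_option linter.style.haveILetI false

open scoped MatrixGroups
open Matrix OnePoint MulAction

namespace Cfsg.Agent.PLocalB

/-- The arithmetic of the orbit equation. -/
theorem orbit_arith (q d e n : ℕ) (hq : 3 ≤ q) (hd1 : 1 ≤ d) (hd : d ≤ q - 1) (hn : q ∣ n - 1)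
    (hn1 : q + 1 ≤ n) (heq : e * (n * (q - 2) + 2) = q * d * n) :
    n = q + 1 ∨ (q = 3 ∧ n = 10 ∧ d = 2 ∧ e = 5) := by
  obtain ⟨m, hm⟩ := hn
  have hn' : n = q * m + 1 := by
    generalize q * m = t at hm
    omega
  have hm1 : 1 ≤ m := by
    rcases Nat.eq_zero_or_pos m with h | h
    · subst h; simp at hn'; omega
    · exact h
  have he0 : 1 ≤ e := by
    rcases Nat.eq_zero_or_pos e with h | h
    · subst h
      simp at heq
      rcases heq with h | h | h <;> omega
    · exact h
  obtain ⟨r, rfl⟩ : ∃ r, q = r + 2 := ⟨q - 2, by omega⟩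
  have hr : r + 2 - 2 = r := by omega
  rw [hr] at heq
  have hd' : d ≤ r + 1 := by omega
  have hlt : e * r < (r + 2) * d := by
    by_contra hle
    have : (r + 2) * d * n ≤ e * r * n := Nat.mul_le_mul_right n (Nat.not_lt.mp hle)
    have : (r + 2) * d * n = e * r * n + 2 * e := by rw [← heq]; ring
    omega
  obtain ⟨Δ, hΔ⟩ : ∃ Δ, (r + 2) * d = e * r + Δ := ⟨(r + 2) * d - e * r, by omega⟩
  have hΔ1 : 1 ≤ Δ := by omega
  have h2e : Δ * n = 2 * e := by
    have : (r + 2) * d * n = e * r * n + 2 * e := by rw [← heq]; ring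
    rw [hΔ, add_mul] at this
    omega
  have her : e * r ≤ (r + 2) * (r + 1) - 1 := by
    have : (r + 2) * d ≤ (r + 2) * (r + 1) := Nat.mul_le_mul_left _ hd'
    omega
  have he4 : e ≤ r + 4 := by
    by_contra hc
    have : (r + 5) * r ≤ e * r := Nat.mul_le_mul_right r (by omega)
    have h1 : (r + 2) * (r + 1) = r * r + 3 * r + 2 := by ring
    have h2 : (r + 5) * r = r * r + 5 * r := by ring
    omega
  rcases Nat.lt_or_ge m 2 with h | h
  · left
    have : m = 1 := by omega
    subst this
    omega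
  rcases Nat.lt_or_ge m 3 with h3 | h3
  · exfalso
    have : m = 2 := by omega
    subst this
    have hD : Δ < 2 := by
      by_contra hc
      have : 2 * n ≤ Δ * n := Nat.mul_le_mul_right n (by omega)
      omega
    have : Δ = 1 := by omega
    subst this
    omega
  · have h5 : n ≤ 2 * e := by
      rw [← h2e]
      exact Nat.le_mul_of_pos_left n (by omega)
    have h4 : (r + 2) * 3 ≤ (r + 2) * m := Nat.mul_le_mul_left _ h3
    have hr1 : r = 1 := by omega
    subst hr1
    have hm3 : m = 3 := by omega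
    subst hm3
    have : e = 5 := by omega
    subst this
    right
    refine ⟨rfl, by omega, ?_, rfl⟩
    have : Δ = 1 := by omega
    omega

section
variable {k : Type*} [Field k] [DecidableEq k] {p : ℕ} [Fact p.Prime] [CharP k p]

attribute [local instance] lineAction

omit [DecidableEq k] in
theorem two_ne_zero_char (hp : p ≠ 2) : (2 : k) ≠ 0 := by
  intro h
  have : ((2 : ℕ) : k) = 0 := by exact_mod_cast h
  rw [CharP.cast_eq_zero_iff k p] at this
  exact hp ((Nat.prime_dvd_prime_iff_eq (Fact.out : p.Prime) Nat.prime_two).mp this)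

omit [DecidableEq k] in
theorem upper_pow_char (a : k) : upper a ^ p = 1 := by
  rw [upper_pow, CharP.cast_eq_zero k p, zero_mul, upper_zero]

omit [DecidableEq k] [Fact p.Prime] [CharP k p] in
theorem neg_ne_self (h2 : (2 : k) ≠ 0) (g : SL(2, k)) : -g ≠ g := by
  intro h
  have key : ∀ i j, g i j = 0 := by
    intro i j
    have := congrArg (fun m : SL(2, k) => m i j) h
    simp [Matrix.SpecialLinearGroup.coe_neg] at this
    have h' : (2 : k) * g i j = 0 := by linear_combination -this
    exact (mul_eq_zero.mp h').resolve_left h2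
  have hd := det_entries g
  simp [key] at hd

omit [DecidableEq k] [Fact p.Prime] [CharP k p] in
theorem upper_ne_neg_one (h2 : (2 : k) ≠ 0) (a : k) : upper a ≠ -1 := by
  intro h
  have := congrArg (fun m : SL(2, k) => m 0 0) h
  simp [upper, Matrix.SpecialLinearGroup.coe_neg] at this
  exact h2 (by linear_combination this)

/-- A `p`-element fixing infinity is upper unitriangular. -/
theorem upper_of_pow (g : SL(2, k)) (h10 : g 1 0 = 0) {i : ℕ} (hg : g ^ (p ^ i) = 1) :
    g = upper (g 0 1) := by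
  refine eq_upper_of_entries g h10 ?_
  have key : ∀ j : ℕ, (g ^ j) 1 0 = 0 ∧ (g ^ j) 0 0 = g 0 0 ^ j := by
    intro j
    induction j with
    | zero => simp
    | succ j ih =>
      rw [pow_succ, Matrix.SpecialLinearGroup.coe_mul]
      simp only [Matrix.mul_apply, Fin.sum_univ_two, ih.1, ih.2, h10, pow_succ, mul_zero, zero_mul,
        add_zero, and_self]
  have h1 : g 0 0 ^ (p ^ i) = 1 := by
    rw [← (key _).2, hg]
    simp
  have : (g 0 0 - 1) ^ (p ^ i) = 0 := by
    rw [sub_pow_char_pow, h1, one_pow, sub_self]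
  exact sub_eq_zero.mp (pow_eq_zero_iff (pow_ne_zero i (Fact.out : p.Prime).ne_zero) |>.mp this)

theorem pow_char_of_tr_two [IsAlgClosed k] (hp : p ≠ 2) (g : SL(2, k)) (ht : tr g = 2) :
    g ^ p = 1 := by
  obtain ⟨w, hw⟩ := exists_fixed (two_ne_zero_char (k := k) hp) g
  obtain ⟨h, hh⟩ := exists_smul_eq_infty w
  have h10 : (h * g * h⁻¹) 1 0 = 0 := by
    rw [← smul_infty_iff, ← hh, smul_conj_fixed]; exact hw
  have hd := det_entries (h * g * h⁻¹)
  rw [h10, mul_zero, sub_zero] at hd
  have ht' : (h * g * h⁻¹) 0 0 + (h * g * h⁻¹) 1 1 = 2 := by rw [← ht, ← tr_conj g h]; rfl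
  have h00 : (h * g * h⁻¹) 0 0 = 1 := by
    have : ((h * g * h⁻¹) 0 0 - 1) ^ 2 = 0 := by
      linear_combination (h * g * h⁻¹) 0 0 * ht' - hd
    exact sub_eq_zero.mp (pow_eq_zero_iff two_ne_zero |>.mp this)
  have h1 : (h * g * h⁻¹) ^ p = 1 := by
    rw [eq_upper_of_entries _ h10 h00, upper_pow_char]
  rwa [conj_pow, conj_eq_one_iff] at h1

variable (G : Subgroup SL(2, k))

/-- The translations contained in `G`. -/
def transl : AddSubgroup k where
  carrier := {a | upper a ∈ G}
  zero_mem' := by simp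
  add_mem' := fun {a b} ha hb => by
    change upper (a + b) ∈ G
    rw [← upper_mul]; exact mul_mem ha hb
  neg_mem' := fun {a} ha => by
    change upper (-a) ∈ G
    rw [← upper_inv]; exact inv_mem ha

omit [DecidableEq k] [Fact p.Prime] [CharP k p] in
theorem mem_transl {a : k} : a ∈ transl G ↔ upper a ∈ G := Iff.rfl

omit [DecidableEq k] [Fact p.Prime] [CharP k p] in
theorem transl_finite [Finite G] : Finite (transl G) :=
  Finite.of_injective (fun a : transl G => (⟨upper a.1, a.2⟩ : G)) fun a b h =>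
    Subtype.ext (upper_injective (congrArg Subtype.val h))

theorem three_le_card_transl [Finite G] (hp : p ≠ 2) (hx : upper (1 : k) ∈ G) :
    3 ≤ Nat.card (transl G) := by
  haveI := transl_finite G
  have h1 : addOrderOf (⟨1, hx⟩ : transl G) = p := by
    refine addOrderOf_eq_prime ?_ fun h => one_ne_zero (congrArg Subtype.val h)
    ext; simp [CharP.cast_eq_zero k p]
  have h2 : p ∣ Nat.card (transl G) := h1 ▸ addOrderOf_dvd_natCard _
  have h3 := Nat.le_of_dvd Nat.card_pos h2
  have h4 := (Fact.out : p.Prime).two_le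
  omega

theorem coe_pow_eq_one {g : G} {m : ℕ} (h : g ^ m = 1) : (g : SL(2, k)) ^ m = 1 := by
  simpa using congrArg Subtype.val h

theorem orbit_finite [Finite G] (w : OnePoint k) : Finite (orbit G w) :=
  Finite.Set.finite_range _

/-- Every `p`-element of `G` has a fixed point in the orbit of infinity. -/
theorem exists_orbit_fixed [Finite G] (hp : p ≠ 2) (hx : upper (1 : k) ∈ G) (g : G) {i : ℕ}
    (hg : g ^ (p ^ i) = 1) : ∃ w ∈ orbit G (∞ : OnePoint k), g • w = w := by
  have h2 := two_ne_zero_char (k := k) hp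
  have hxp : IsPGroup p (Subgroup.zpowers (⟨upper 1, hx⟩ : G)) := by
    refine IsPGroup.of_card (n := 1) ?_
    rw [Nat.card_zpowers, pow_one]
    refine orderOf_eq_prime (Subtype.ext (by simp [upper_pow_char])) fun h => ?_
    exact one_ne_zero (upper_injective (show upper (1 : k) = upper 0 by simpa using congrArg Subtype.val h))
  obtain ⟨Q, hQ⟩ := hxp.exists_le_sylow
  have hxQ : (⟨upper 1, hx⟩ : G) ∈ (Q : Subgroup G) := hQ (Subgroup.mem_zpowers _)
  have hQfix : ∀ y ∈ (Q : Subgroup G), y • (∞ : OnePoint k) = ∞ := by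
    haveI : Nontrivial (Q : Subgroup G) := by
      refine ⟨⟨⟨_, hxQ⟩, 1, fun h => ?_⟩⟩
      exact one_ne_zero (upper_injective (show upper (1 : k) = upper 0 by
        simpa using congrArg (fun t : (Q : Subgroup G) => ((t : G) : SL(2, k))) h))
    haveI := Q.2.center_nontrivial
    obtain ⟨z, hz⟩ := exists_ne (1 : Subgroup.center (Q : Subgroup G))
    have hzc : ∀ y : (Q : Subgroup G), ((y : G) : SL(2, k)) * ((z.1 : G) : SL(2, k)) =
        ((z.1 : G) : SL(2, k)) * ((y : G) : SL(2, k)) := fun y => by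
      have := Subgroup.mem_center_iff.mp z.2 y
      simpa using congrArg (fun t : (Q : Subgroup G) => ((t : G) : SL(2, k))) this
    have hu1 : ∀ v : OnePoint k, upper (1 : k) • v = v → v = ∞ :=
      (fixed_upper_triangular (upper (1 : k)) (by simp [upper])
        (fun h => one_ne_zero (upper_injective (h.trans upper_zero.symm)))
        (upper_ne_neg_one h2 _)).1 (by simp [upper]; ring)
    have hz10 : ((z.1 : G) : SL(2, k)) 1 0 = 0 := by
      rw [← smul_infty_iff]
      apply hu1
      rw [← mul_smul, hzc ⟨⟨_, hx⟩, hxQ⟩, mul_smul, upper_smul_infty]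
    obtain ⟨j, hj⟩ := Q.2 z.1
    have hze := upper_of_pow ((z.1 : G) : SL(2, k)) hz10 (i := j)
      (by simpa using congrArg (fun t : (Q : Subgroup G) => ((t : G) : SL(2, k))) hj)
    have hne1 : ((z.1 : G) : SL(2, k)) ≠ 1 := fun h => hz (Subtype.ext (Subtype.ext (Subtype.ext h)))
    have hu : ∀ v : OnePoint k, ((z.1 : G) : SL(2, k)) • v = v → v = ∞ :=
      (fixed_upper_triangular _ hz10 hne1 (by rw [hze]; exact upper_ne_neg_one h2 _)).1
        (by rw [hze]; simp [upper]; ring)
    intro y hy
    change (y : SL(2, k)) • (∞ : OnePoint k) = ∞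
    apply hu
    rw [← mul_smul, ← hzc ⟨y, hy⟩, mul_smul, (smul_infty_iff _).mpr hz10]
  have hgp : IsPGroup p (Subgroup.zpowers g) := by
    obtain ⟨j, -, hj⟩ := (Nat.dvd_prime_pow (Fact.out : p.Prime)).mp (orderOf_dvd_of_pow_eq_one hg)
    exact IsPGroup.of_card (n := j) (by rw [Nat.card_zpowers, hj])
  obtain ⟨P, hP⟩ := hgp.exists_le_sylow
  obtain ⟨h, rfl⟩ := MulAction.exists_smul_eq G Q P
  refine ⟨h • ∞, mem_orbit _ _, ?_⟩
  have hgm : h⁻¹ * g * h ∈ (Q : Subgroup G) := by
    have := hP (Subgroup.mem_zpowers g)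
    rw [Sylow.coe_subgroup_smul, Subgroup.mem_pointwise_smul_iff_inv_smul_mem] at this
    simpa [MulAut.conj_apply, mul_assoc] using this
  have := hQfix _ hgm
  rw [mul_smul, mul_smul, inv_smul_eq_iff] at this
  exact this

/-- The `0,0` entry on the stabilizer of infinity. -/
def diagEntry : stabilizer G (∞ : OnePoint k) →* k where
  toFun b := (b.1 : SL(2, k)) 0 0
  map_one' := by simp
  map_mul' a b := by
    have hb : (b.1 : SL(2, k)) 1 0 = 0 := (smul_infty_iff _).mp b.2
    simp [Matrix.mul_apply, Fin.sum_univ_two, hb]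

theorem diagEntry_apply (b : stabilizer G (∞ : OnePoint k)) :
    diagEntry G b = (b.1 : SL(2, k)) 0 0 := rfl

theorem diag_fiber_card [Finite G] (b₀ : stabilizer G (∞ : OnePoint k)) :
    Nat.card {b : stabilizer G (∞ : OnePoint k) // diagEntry G b = diagEntry G b₀} =
      Nat.card (transl G) := by
  symm
  refine Nat.card_congr (Equiv.ofBijective
    (fun a : transl G => ⟨b₀ * ⟨⟨upper a.1, a.2⟩, upper_smul_infty _⟩, ?_⟩) ⟨?_, ?_⟩)
  · rw [map_mul]
    refine Eq.trans (congrArg (diagEntry G b₀ * ·) ?_) (mul_one _)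
    show (upper a.1) 0 0 = 1
    simp [upper]
  · intro a b h
    have h' := mul_left_cancel (congrArg Subtype.val h)
    exact Subtype.ext (upper_injective
      (congrArg (fun t : stabilizer G (∞ : OnePoint k) => ((t : G) : SL(2, k))) h'))
  · rintro ⟨b, hb⟩
    have h10 : ((b₀⁻¹ * b : stabilizer G (∞ : OnePoint k)).1 : SL(2, k)) 1 0 = 0 :=
      (smul_infty_iff _).mp (b₀⁻¹ * b).2
    have h00 : diagEntry G (b₀⁻¹ * b) = 1 := by
      rw [map_mul, hb, ← map_mul, inv_mul_cancel, map_one]
    have e := eq_upper_of_entries _ h10 h00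
    refine ⟨⟨((b₀⁻¹ * b : stabilizer G (∞ : OnePoint k)).1 : SL(2, k)) 0 1, ?_⟩, ?_⟩
    · rw [mem_transl, ← e]; exact (b₀⁻¹ * b).1.2
    · apply Subtype.ext
      change b₀ * _ = b
      rw [eq_comm, ← inv_mul_eq_iff_eq_mul]
      exact Subtype.ext (Subtype.ext e)

theorem card_stabilizer_infty [Finite G] (hp : p ≠ 2) (hneg : (-1 : SL(2, k)) ∈ G)
    (hx : upper (1 : k) ∈ G) :
    ∃ d : ℕ, d ≤ Nat.card (transl G) - 1 ∧
      Nat.card (stabilizer G (∞ : OnePoint k)) = 2 * Nat.card (transl G) * d := by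
  classical
  haveI := transl_finite G
  have h2 := two_ne_zero_char (k := k) hp
  haveI : Fintype (stabilizer G (∞ : OnePoint k)) := Fintype.ofFinite _
  let χ : stabilizer G (∞ : OnePoint k) →* kˣ := (diagEntry G).toHomUnits
  have hm : (-1 : SL(2, k)) • (∞ : OnePoint k) = ∞ := neg_one_smul_line _
  have hχ : χ ⟨⟨-1, hneg⟩, hm⟩ = -1 := by
    apply Units.ext
    simp [χ, MonoidHom.coe_toHomUnits, diagEntry_apply, Matrix.SpecialLinearGroup.coe_neg]
  have hev : 2 ∣ Nat.card χ.range := by
    have h1 : orderOf (-1 : kˣ) = 2 := by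
      refine orderOf_eq_prime (by simp) fun h => ?_
      have := congrArg Units.val h
      simp at this
      exact h2 (by linear_combination -this)
    have h3 := orderOf_dvd_natCard (⟨-1, _, hχ⟩ : χ.range)
    rwa [← Subgroup.orderOf_coe, h1] at h3
  obtain ⟨d, hd⟩ := hev
  refine ⟨d, ?_, ?_⟩
  · let A : Finset k := (Set.toFinite (transl G : Set k)).toFinset.erase 0
    haveI : Finite χ.range := inferInstanceAs (Finite (Set.range χ))
    let C : Finset kˣ := (Set.toFinite (χ.range : Set kˣ)).toFinset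
    have hA : A.card = Nat.card (transl G) - 1 := by
      rw [Finset.card_erase_of_mem (by simp), ← Set.ncard_eq_toFinset_card _]
      rw [← Nat.card_coe_set_eq]; rfl
    have hC : C.card = 2 * d := by
      rw [← hd, ← Set.ncard_eq_toFinset_card _, ← Nat.card_coe_set_eq]; rfl
    have hmap : ∀ c ∈ C, (c : k) ^ 2 ∈ A := by
      intro c hc
      simp only [C, Set.Finite.mem_toFinset, SetLike.mem_coe, MonoidHom.mem_range] at hc
      obtain ⟨b, rfl⟩ := hc
      simp only [A, Finset.mem_erase, Set.Finite.mem_toFinset, SetLike.mem_coe, ne_eq,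
        pow_eq_zero_iff two_ne_zero, Units.ne_zero, not_false_eq_true, true_and, mem_transl]
      have hb : (b.1 : SL(2, k)) 1 0 = 0 := (smul_infty_iff _).mp b.2
      have key : (b.1 : SL(2, k)) * upper 1 = upper ((χ b : k) ^ 2) * (b.1 : SL(2, k)) := by
        have hd' := det_entries (b.1 : SL(2, k))
        rw [hb, mul_zero, sub_zero] at hd'
        ext i j
        fin_cases i <;> fin_cases j <;>
          simp [χ, MonoidHom.coe_toHomUnits, diagEntry_apply, Matrix.mul_apply, Fin.sum_univ_two, hb]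
        linear_combination -((b.1 : SL(2, k)) 0 0) * hd'
      rw [show upper ((χ b : k) ^ 2) = (b.1 : SL(2, k)) * upper 1 * (b.1 : SL(2, k))⁻¹ by
        rw [key, mul_inv_cancel_right]]
      exact mul_mem (mul_mem b.1.2 hx) (inv_mem b.1.2)
    have hfib : ∀ a ∈ C.image (fun c : kˣ => (c : k) ^ 2),
        (C.filter fun c : kˣ => (c : k) ^ 2 = a).card ≤ 2 := by
      intro a ha
      obtain ⟨c, -, rfl⟩ := Finset.mem_image.mp ha
      refine (Finset.card_le_card (t := ({c, -c} : Finset kˣ)) ?_).trans Finset.card_le_two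
      intro x hx'
      obtain ⟨-, hx''⟩ := Finset.mem_filter.mp hx'
      rcases sq_eq_sq_iff_eq_or_eq_neg.mp hx'' with h | h
      · simp [Units.ext h]
      · have : x = -c := Units.ext (by simpa using h)
        simp [this]
    have h3 := Finset.card_le_mul_card_image C 2 hfib
    have h4 := Finset.card_le_card (Finset.image_subset_iff.mpr hmap)
    omega
  · have hker : Nat.card χ.ker = Nat.card (transl G) := by
      rw [← diag_fiber_card G 1]
      refine Nat.card_congr (Equiv.subtypeEquivRight fun b => ?_)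
      rw [map_one, MonoidHom.mem_ker, Units.ext_iff]
      rfl
    rw [Subgroup.card_eq_card_quotient_mul_card_subgroup χ.ker,
      Nat.card_congr (QuotientGroup.quotientKerEquivRange χ).toEquiv, hd, hker]
    ring

/-- The orbit of infinity minus infinity is acted on freely by the translations. -/
theorem card_orbit_congr [Finite G] (hp : p ≠ 2) (hx : upper (1 : k) ∈ G)
    (hmove : ∃ g ∈ G, g 1 0 ≠ 0) :
    Nat.card (transl G) ∣ Nat.card (orbit G (∞ : OnePoint k)) - 1 ∧
      Nat.card (transl G) + 1 ≤ Nat.card (orbit G (∞ : OnePoint k)) := by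
  classical
  haveI := transl_finite G
  haveI := orbit_finite G (∞ : OnePoint k)
  let S : Set k := {z | (z : OnePoint k) ∈ orbit G (∞ : OnePoint k)}
  have hcard : Nat.card (orbit G (∞ : OnePoint k)) = Nat.card S + 1 := by
    haveI : Finite S := Finite.of_injective
      (fun z : S => (⟨(z.1 : OnePoint k), z.2⟩ : orbit G (∞ : OnePoint k)))
      fun a b h => Subtype.ext (OnePoint.coe_eq_coe.mp (congrArg Subtype.val h))
    rw [Nat.card_coe_set_eq, Nat.card_coe_set_eq]
    have e : orbit G (∞ : OnePoint k) = insert ∞ ((fun z : k => (z : OnePoint k)) '' S) := by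
      ext w
      cases w with
      | infty => simp
      | coe z => simp [S]
    rw [e, Set.ncard_insert_of_notMem (by simp) (Set.toFinite _),
      Set.ncard_image_of_injective _ OnePoint.coe_injective]
  haveI : Finite S := Finite.of_injective
      (fun z : S => (⟨(z.1 : OnePoint k), z.2⟩ : orbit G (∞ : OnePoint k)))
      fun a b h => Subtype.ext (OnePoint.coe_eq_coe.mp (congrArg Subtype.val h))
  have hinv : ∀ z ∈ S, ∀ a ∈ transl G, z + a ∈ S := by
    intro z hz a ha
    change ((z + a : k) : OnePoint k) ∈ orbit G (∞ : OnePoint k)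
    rw [← upper_smul_coe]
    exact mem_orbit_of_mem_orbit (⟨upper a, ha⟩ : G) hz
  let A := transl G
  let T : Set (k ⧸ A) := (QuotientAddGroup.mk : k → k ⧸ A) '' S
  have hT : Finite T := Finite.Set.finite_image S _
  have e : S ≃ A × T := by
    refine Equiv.trans (Equiv.setCongr ?_) (QuotientAddGroup.preimageMkEquivAddSubgroupProdSet A T)
    ext z
    refine ⟨fun hz => ⟨z, hz, rfl⟩, ?_⟩
    rintro ⟨y, hy, hyz⟩
    have := hinv y hy _ (QuotientAddGroup.eq.mp hyz)
    simpa using this
  obtain ⟨g, hg, hg0⟩ := hmove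
  have hne : Nonempty S := ⟨⟨g 0 0 / g 1 0, ⟨⟨g, hg⟩, smul_infty_of_ne g hg0⟩⟩⟩
  have hT0 : 0 < Nat.card T := by
    haveI : Nonempty T := ⟨(e hne.some).2⟩
    exact Nat.card_pos
  rw [hcard, Nat.card_congr e, Nat.card_prod, Nat.add_sub_cancel]
  exact ⟨dvd_mul_right _ _, Nat.add_le_add_right (Nat.le_mul_of_pos_right _ hT0) 1⟩

end

end Cfsg.Agent.PLocalB
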