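import Mathlib
import Cfsg.Agent.PLocalB.Dickson

/-!
The orbit equation for a finite subgroup of `SL(2, k)` acting on the projective line.
-/

set_option autoImplicit false
set_option linter.unusedSectionVars false
set_option linter.style.haveILetI false

open scoped MatrixGroups
open Matrix OnePoint MulAction Finset

namespace Cfsg.Agent.PLocalB

variable {k : Type*} [Field k] [DecidableEq k] [IsAlgClosed k] {p : ℕ} [Fact p.Prime] [CharP k p]
  (G : Subgroup SL(2, k)) [Fintype G]

attribute [local instance] lineAction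

/-- Decidable equality of points of the projective line. -/
noncomputable local instance lineDecEq : DecidableEq (OnePoint k) := Classical.decEq _

/-- The elements of `G` other than `±1`. -/
noncomputable def nonCentral : Finset G :=
  univ.filter fun g : G => (g : SL(2, k)) ≠ 1 ∧ (g : SL(2, k)) ≠ -1

theorem mem_nonCentral {g : G} : g ∈ nonCentral G ↔ (g : SL(2, k)) ≠ 1 ∧ (g : SL(2, k)) ≠ -1 := by
  simp [nonCentral]

theorem mem_nonCentral_conj {g h : G} (hg : g ∈ nonCentral G) : h * g * h⁻¹ ∈ nonCentral G := by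
  rw [mem_nonCentral] at hg ⊢
  exact ⟨conj_ne_one' hg.1, conj_ne_neg_one hg.2⟩

/-- The points fixed by an element of `G` other than `±1`. -/
def specialPts : Set (OnePoint k) := {w | ∃ g ∈ nonCentral G, g • w = w}

theorem smul_mem_specialPts {w : OnePoint k} (hw : w ∈ specialPts G) (h : G) :
    h • w ∈ specialPts G := by
  obtain ⟨g, hg, hgw⟩ := hw
  exact ⟨h * g * h⁻¹, mem_nonCentral_conj G hg, by rw [mul_smul, mul_smul, inv_smul_smul, hgw]⟩

theorem fixed_finite (hp : p ≠ 2) {g : G} (hg : g ∈ nonCentral G) :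
    {w : OnePoint k | g • w = w}.Finite := by
  obtain ⟨h1, hm⟩ := (mem_nonCentral G).mp hg
  have h2 := two_ne_zero_char (k := k) hp
  by_cases ht : tr (g : SL(2, k)) ^ 2 = 4
  · obtain ⟨w, hw⟩ := fixed_parabolic h2 _ h1 hm ht
    exact (Set.finite_singleton w).subset fun v hv => (hw v).mp hv
  · obtain ⟨w, w', -, hw⟩ := fixed_semisimple h2 _ h1 hm ht
    exact ((Set.finite_singleton w').insert w).subset fun v hv => (hw v).mp hv

theorem specialPts_finite (hp : p ≠ 2) : (specialPts G).Finite := by
  have : specialPts G = ⋃ g ∈ (nonCentral G : Set G), {w : OnePoint k | g • w = w} := by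
    ext w; simp [specialPts]
  rw [this]
  exact (nonCentral G).finite_toSet.biUnion fun g hg => fixed_finite G hp hg

/-- Number of elements other than `±1` fixing `w`. -/
noncomputable def fixCount (w : OnePoint k) : ℕ := ((nonCentral G).filter fun g => g • w = w).card

theorem fixCount_add_two (hp : p ≠ 2) (hneg : (-1 : SL(2, k)) ∈ G) (w : OnePoint k) :
    fixCount G w + 2 = Nat.card (stabilizer G w) := by
  classical
  have h2 := two_ne_zero_char (k := k) hp
  let m : G := ⟨-1, hneg⟩
  have e : (univ.filter fun g : G => g • w = w) =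
      insert 1 (insert m ((nonCentral G).filter fun g => g • w = w)) := by
    ext g
    simp only [mem_filter, Finset.mem_univ, true_and, Finset.mem_insert, mem_nonCentral]
    constructor
    · intro h
      by_cases h1 : (g : SL(2, k)) = 1
      · exact Or.inl (Subtype.ext h1)
      by_cases hm : (g : SL(2, k)) = -1
      · exact Or.inr (Or.inl (Subtype.ext hm))
      exact Or.inr (Or.inr ⟨⟨h1, hm⟩, h⟩)
    · rintro (rfl | rfl | h)
      · exact one_smul _ _
      · exact neg_one_smul_line _
      · exact h.2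
  have hc : (univ.filter fun g : G => g • w = w).card = Nat.card (stabilizer G w) := by
    rw [Nat.card_eq_fintype_card, ← Fintype.card_subtype]
    rfl
  rw [← hc, e, card_insert_of_notMem, card_insert_of_notMem]
  · rfl
  · simp [mem_nonCentral, m]
  · simp only [Finset.mem_insert, mem_filter, mem_nonCentral]
    rintro (h | h)
    · exact neg_ne_self h2 (1 : SL(2, k)) (congrArg Subtype.val h).symm
    · exact h.1.1 rfl

theorem card_orbit_mul_stab (w : OnePoint k) :
    Nat.card (orbit G w) * Nat.card (stabilizer G w) = Nat.card G := by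
  classical
  haveI := orbit_finite G w
  haveI := Fintype.ofFinite (orbit G w)
  simp only [Nat.card_eq_fintype_card]
  exact card_orbit_mul_card_stabilizer_eq_card_group G w

theorem stabilizer_card_eq {v w : OnePoint k} (h : v ∈ orbit G w) :
    Nat.card (stabilizer G v) = Nat.card (stabilizer G w) := by
  haveI := orbit_finite G w
  have h1 := card_orbit_mul_stab G v
  rw [orbit_eq_iff.mpr h, ← card_orbit_mul_stab G w] at h1
  haveI : Nonempty (orbit G w) := ⟨⟨w, mem_orbit_self w⟩⟩
  exact Nat.eq_of_mul_eq_mul_left Nat.card_pos h1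

theorem four_le_stabilizer (hp : p ≠ 2) (hneg : (-1 : SL(2, k)) ∈ G) {w : OnePoint k}
    (hw : w ∈ specialPts G) : 4 ≤ Nat.card (stabilizer G w) := by
  classical
  obtain ⟨g, hg, hgw⟩ := hw
  have h2 := two_ne_zero_char (k := k) hp
  obtain ⟨h1, hm⟩ := (mem_nonCentral G).mp hg
  let m : G := ⟨-(g : SL(2, k)), by simpa using mul_mem hneg g.2⟩
  have hmm : m ∈ nonCentral G := by
    rw [mem_nonCentral]
    refine ⟨fun h => hm ?_, fun h => h1 ?_⟩
    · rw [← neg_neg (g : SL(2, k))]; exact congrArg Neg.neg h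
    · exact neg_inj.mp h
  have hmw : m • w = w := by
    change (-(g : SL(2, k))) • w = w
    rw [neg_smul]; exact hgw
  have : 2 ≤ fixCount G w := by
    rw [fixCount, ← Nat.lt_iff_add_one_le, one_lt_card]
    exact ⟨g, mem_filter.mpr ⟨hg, hgw⟩, m, mem_filter.mpr ⟨hmm, hmw⟩,
      fun h => neg_ne_self h2 _ (congrArg Subtype.val h).symm⟩
  have := fixCount_add_two G hp hneg w
  omega

/-- The elements other than `±1` of trace `±2`. -/
noncomputable def parabolics : Finset G :=
  (nonCentral G).filter fun g => tr (g : SL(2, k)) ^ 2 = 4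

theorem parabolic_unique_orbit_fixed (hp : p ≠ 2) (hneg : (-1 : SL(2, k)) ∈ G)
    (hx : upper (1 : k) ∈ G) {g : G} (hg : g ∈ parabolics G) :
    ∃ w ∈ orbit G (∞ : OnePoint k), ∀ v : OnePoint k, g • v = v ↔ v = w := by
  have h2 := two_ne_zero_char (k := k) hp
  obtain ⟨hg', ht⟩ := mem_filter.mp hg
  obtain ⟨h1, hm⟩ := (mem_nonCentral G).mp hg'
  obtain ⟨w, hw⟩ := fixed_parabolic h2 _ h1 hm ht
  refine ⟨w, ?_, hw⟩
  have : tr (g : SL(2, k)) = 2 ∨ tr (g : SL(2, k)) = -2 :=
    sq_eq_sq_iff_eq_or_eq_neg.mp (by rw [ht]; norm_num)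
  rcases this with h | h
  · obtain ⟨v, hv, hgv⟩ := exists_orbit_fixed G hp hx g (i := 1)
      (Subtype.ext (by simpa using pow_char_of_tr_two hp _ h))
    rwa [(hw v).mp hgv] at hv
  · have ht2 : tr (-(g : SL(2, k))) = 2 := by
      have : tr (-(g : SL(2, k))) = -tr (g : SL(2, k)) := by
        simp [tr, Matrix.SpecialLinearGroup.coe_neg]; ring
      rw [this, h, neg_neg]
    obtain ⟨v, hv, hgv⟩ := exists_orbit_fixed G hp hx
      ⟨-(g : SL(2, k)), by simpa using mul_mem hneg g.2⟩ (i := 1)
      (Subtype.ext (by simpa using pow_char_of_tr_two hp _ ht2))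
    have : g • v = v := by
      change (g : SL(2, k)) • v = v
      rw [← neg_smul]; exact hgv
    rwa [(hw v).mp this] at hv

/-- In the stabilizer of infinity exactly `2 q` elements have trace `±2`. -/
theorem card_unipotent_stabilizer (hp : p ≠ 2) (hneg : (-1 : SL(2, k)) ∈ G) :
    Nat.card {b : stabilizer G (∞ : OnePoint k) // diagEntry G b = 1 ∨ diagEntry G b = -1} =
      2 * Nat.card (transl G) := by
  have h2 := two_ne_zero_char (k := k) hp
  have hdis : Disjoint {b : stabilizer G (∞ : OnePoint k) | diagEntry G b = 1}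
      {b | diagEntry G b = -1} := by
    rw [Set.disjoint_left]
    intro b hb hb'
    simp only [Set.mem_setOf_eq] at hb hb'
    exact h2 (by linear_combination hb' - hb)
  change Nat.card ↥({b : stabilizer G (∞ : OnePoint k) | diagEntry G b = 1} ∪
    {b | diagEntry G b = -1}) = _
  rw [Nat.card_coe_set_eq, Set.ncard_union_eq hdis]
  rw [← Nat.card_coe_set_eq, ← Nat.card_coe_set_eq]
  have e1 := diag_fiber_card G 1
  rw [map_one] at e1
  have e2 := diag_fiber_card G ⟨⟨-1, hneg⟩, neg_one_smul_line (∞ : OnePoint k)⟩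
  have e3 : diagEntry G ⟨⟨-1, hneg⟩, neg_one_smul_line (∞ : OnePoint k)⟩ = -1 := by
    change (-1 : SL(2, k)) 0 0 = -1
    simp [Matrix.SpecialLinearGroup.coe_neg]
  rw [e3] at e2
  rw [two_mul]
  exact congrArg₂ (· + ·) e1 e2

theorem parabolic_at_infty (hp : p ≠ 2) (hneg : (-1 : SL(2, k)) ∈ G) :
    ((parabolics G).filter fun g => g • (∞ : OnePoint k) = ∞).card + 2 =
      2 * Nat.card (transl G) := by
  classical
  have h2 := two_ne_zero_char (k := k) hp
  rw [← card_unipotent_stabilizer G hp hneg]
  let m : G := ⟨-1, hneg⟩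
  have hiff : ∀ g : G, g • (∞ : OnePoint k) = ∞ →
      (tr (g : SL(2, k)) ^ 2 = 4 ↔ (g : SL(2, k)) 0 0 = 1 ∨ (g : SL(2, k)) 0 0 = -1) := by
    intro g hg
    have h10 : (g : SL(2, k)) 1 0 = 0 := (smul_infty_iff _).mp hg
    have hd := det_entries (g : SL(2, k))
    rw [h10, mul_zero, sub_zero] at hd
    rw [← mul_self_eq_one_iff, tr]
    constructor
    · intro h
      have : ((g : SL(2, k)) 0 0 - (g : SL(2, k)) 1 1) ^ 2 = 0 := by linear_combination h - 4 * hd
      have := sub_eq_zero.mp (pow_eq_zero_iff two_ne_zero |>.mp this)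
      linear_combination hd + (g : SL(2, k)) 0 0 * this
    · intro h
      have : (g : SL(2, k)) 1 1 = (g : SL(2, k)) 0 0 := by
        linear_combination (g : SL(2, k)) 0 0 * hd - (g : SL(2, k)) 1 1 * h
      rw [this]; linear_combination 4 * h
  have e : (univ.filter fun g : G => g • (∞ : OnePoint k) = ∞ ∧ tr (g : SL(2, k)) ^ 2 = 4) =
      insert 1 (insert m ((parabolics G).filter fun g => g • (∞ : OnePoint k) = ∞)) := by
    ext g
    simp only [parabolics, mem_filter, Finset.mem_univ, true_and, Finset.mem_insert, mem_nonCentral]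
    constructor
    · intro h
      by_cases h1 : (g : SL(2, k)) = 1
      · exact Or.inl (Subtype.ext h1)
      by_cases hm : (g : SL(2, k)) = -1
      · exact Or.inr (Or.inl (Subtype.ext hm))
      exact Or.inr (Or.inr ⟨⟨⟨h1, hm⟩, h.2⟩, h.1⟩)
    · rintro (rfl | rfl | h)
      · exact ⟨one_smul _ _, by simp [tr]; norm_num⟩
      · exact ⟨neg_one_smul_line _, by simp [m, tr, Matrix.SpecialLinearGroup.coe_neg]; norm_num⟩
      · exact ⟨h.2, h.1.2⟩
  have hc : (univ.filter fun g : G => g • (∞ : OnePoint k) = ∞ ∧ tr (g : SL(2, k)) ^ 2 = 4).card =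
      Nat.card {b : stabilizer G (∞ : OnePoint k) // diagEntry G b = 1 ∨ diagEntry G b = -1} := by
    rw [← Fintype.card_subtype, ← Nat.card_eq_fintype_card]
    refine Nat.card_congr ?_
    exact
      { toFun := fun g => ⟨⟨g.1, g.2.1⟩, (hiff g.1 g.2.1).mp g.2.2⟩
        invFun := fun b => ⟨b.1.1, b.1.2, (hiff b.1.1 b.1.2).mpr b.2⟩
        left_inv := fun g => rfl
        right_inv := fun b => rfl }
  rw [← hc, e, card_insert_of_notMem, card_insert_of_notMem]
  · simp [parabolics, mem_nonCentral, m]
  · simp only [parabolics, Finset.mem_insert, mem_filter, mem_nonCentral]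
    rintro (h | h)
    · exact neg_ne_self h2 (1 : SL(2, k)) (congrArg Subtype.val h).symm
    · exact h.1.1.1 rfl

theorem card_parabolics (hp : p ≠ 2) (hneg : (-1 : SL(2, k)) ∈ G) (hx : upper (1 : k) ∈ G) :
    (parabolics G).card + 2 * Nat.card (orbit G (∞ : OnePoint k)) =
      Nat.card (orbit G (∞ : OnePoint k)) * (2 * Nat.card (transl G)) := by
  classical
  haveI := orbit_finite G (∞ : OnePoint k)
  let O := (Set.toFinite (orbit G (∞ : OnePoint k))).toFinset
  have hO : O.card = Nat.card (orbit G (∞ : OnePoint k)) := by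
    rw [← Set.ncard_eq_toFinset_card _, Nat.card_coe_set_eq]
  have key : (parabolics G).card =
      ∑ w ∈ O, ((parabolics G).filter fun g => g • w = w).card := by
    simp only [card_filter]
    rw [sum_comm, card_eq_sum_ones]
    refine sum_congr rfl fun g hg => ?_
    rw [← card_filter]
    obtain ⟨w, hwO, hw⟩ := parabolic_unique_orbit_fixed G hp hneg hx hg
    rw [eq_comm, card_eq_one]
    refine ⟨w, ?_⟩
    ext v
    simp only [mem_filter, hw, Finset.mem_singleton, O,
      Set.Finite.mem_toFinset, and_iff_right_iff_imp]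
    rintro rfl; exact hwO
  have hconst : ∀ w ∈ O, ((parabolics G).filter fun g => g • w = w).card + 2 =
      2 * Nat.card (transl G) := by
    intro w hw
    rw [← parabolic_at_infty G hp hneg]
    obtain ⟨h, rfl⟩ := (Set.Finite.mem_toFinset _).mp hw
    congr 1
    refine card_nbij' (fun g => h⁻¹ * g * h) (fun g => h * g * h⁻¹) ?_ ?_ ?_ ?_
    · intro g hg
      simp only [mem_coe, parabolics, mem_filter] at hg ⊢
      refine ⟨⟨?_, ?_⟩, by rw [mul_smul, mul_smul, hg.2, inv_smul_smul]⟩
      · simpa using mem_nonCentral_conj G (h := h⁻¹) hg.1.1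
      · have := tr_conj (g : SL(2, k)) ((h⁻¹ : G) : SL(2, k))
        simp only [InvMemClass.coe_inv, inv_inv] at this
        simpa [this] using hg.1.2
    · intro g hg
      simp only [mem_coe, parabolics, mem_filter] at hg ⊢
      refine ⟨⟨mem_nonCentral_conj G hg.1.1, ?_⟩, by rw [mul_smul, mul_smul, inv_smul_smul, hg.2]⟩
      simpa [tr_conj] using hg.1.2
    · intro g _; simp [mul_assoc]
    · intro g _; simp [mul_assoc]
  calc (parabolics G).card + 2 * Nat.card (orbit G (∞ : OnePoint k))
      = ∑ w ∈ O, (((parabolics G).filter fun g => g • w = w).card + 2) := by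
        rw [key, sum_add_distrib, sum_const, smul_eq_mul, hO, mul_comm 2]
    _ = _ := by rw [sum_congr rfl hconst, sum_const, smul_eq_mul, hO]

theorem sum_fixCount (hp : p ≠ 2) {X : Finset (OnePoint k)} (hX : ↑X = specialPts G) :
    ∑ w ∈ X, fixCount G w + (parabolics G).card = 2 * (nonCentral G).card := by
  classical
  have h2 := two_ne_zero_char (k := k) hp
  have hmem : ∀ w, w ∈ X ↔ w ∈ specialPts G := fun w => by rw [← hX]; exact mem_coe.symm
  unfold fixCount
  simp only [parabolics, card_filter]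
  rw [sum_comm, ← sum_add_distrib, mul_comm, ← smul_eq_mul, ← sum_const]
  refine sum_congr rfl fun g hg => ?_
  rw [← card_filter]
  obtain ⟨h1, hm⟩ := (mem_nonCentral G).mp hg
  by_cases ht : tr (g : SL(2, k)) ^ 2 = 4
  · obtain ⟨w, hw⟩ := fixed_parabolic h2 _ h1 hm ht
    have e : X.filter (fun v => g • v = v) = {w} := by
      ext v
      simp only [mem_filter, Finset.mem_singleton, hmem]
      exact ⟨fun h => (hw v).mp h.2, fun h => ⟨⟨g, hg, (hw v).mpr h⟩, (hw v).mpr h⟩⟩
    rw [if_pos ht, e]; rfl
  · obtain ⟨w, w', hne, hw⟩ := fixed_semisimple h2 _ h1 hm ht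
    have e : X.filter (fun v => g • v = v) = {w, w'} := by
      ext v
      simp only [mem_filter, Finset.mem_insert, Finset.mem_singleton, hmem]
      exact ⟨fun h => (hw v).mp h.2, fun h => ⟨⟨g, hg, (hw v).mpr h⟩, (hw v).mpr h⟩⟩
    rw [if_neg ht, e, card_pair hne]

/-- The data of the exceptional case `G/±1 ≅ A₅`, `p = 3`. -/
def IsExceptional : Prop :=
  Nat.card (transl G) = 3 ∧ Nat.card G = 120 ∧ Nat.card (orbit G (∞ : OnePoint k)) = 10 ∧
    Nat.card (stabilizer G (∞ : OnePoint k)) = 12 ∧
    ∀ w ∈ specialPts G, w ∉ orbit G (∞ : OnePoint k) → Nat.card (stabilizer G w) = 10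

theorem orbit_dichotomy (hp : p ≠ 2) (hneg : (-1 : SL(2, k)) ∈ G) (hx : upper (1 : k) ∈ G)
    (hmove : ∃ g ∈ G, g 1 0 ≠ 0) :
    Nat.card (orbit G (∞ : OnePoint k)) = Nat.card (transl G) + 1 ∨ IsExceptional G := by
  classical
  have h2 := two_ne_zero_char (k := k) hp
  have hq := three_le_card_transl G hp hx
  obtain ⟨d, hd, hB⟩ := card_stabilizer_infty G hp hneg hx
  obtain ⟨hdiv, hn1⟩ := card_orbit_congr G hp hx hmove
  have hGn := card_orbit_mul_stab G (∞ : OnePoint k)
  have hpar := card_parabolics G hp hneg hx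
  let X := (specialPts_finite G hp).toFinset
  have hX : ↑X = specialPts G := Set.Finite.coe_toFinset _
  have hsum := sum_fixCount G hp hX
  have hGpos : 0 < Nat.card G := Nat.card_pos
  have hd1 : 1 ≤ d := by
    rcases Nat.eq_zero_or_pos d with h | h
    · subst h; rw [mul_zero] at hB; rw [hB, mul_zero] at hGn; omega
    · exact h
  have hNC : (nonCentral G).card + 2 = Nat.card G := by
    have e : (univ : Finset G) = insert 1 (insert ⟨-1, hneg⟩ (nonCentral G)) := by
      ext g
      simp only [Finset.mem_univ, Finset.mem_insert, mem_nonCentral, true_iff]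
      by_cases h1 : (g : SL(2, k)) = 1
      · exact Or.inl (Subtype.ext h1)
      by_cases hm : (g : SL(2, k)) = -1
      · exact Or.inr (Or.inl (Subtype.ext hm))
      exact Or.inr (Or.inr ⟨h1, hm⟩)
    rw [Nat.card_eq_fintype_card, ← card_univ, e, card_insert_of_notMem, card_insert_of_notMem]
    · simp [mem_nonCentral]
    · simp only [Finset.mem_insert, mem_nonCentral]
      rintro (h | h)
      · exact neg_ne_self h2 (1 : SL(2, k)) (congrArg Subtype.val h).symm
      · exact h.1 rfl
  let orbF : OnePoint k → Finset (OnePoint k) := fun w =>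
    haveI := orbit_finite G w
    (Set.toFinite (orbit G w)).toFinset
  have hmemF : ∀ v w, v ∈ orbF w ↔ v ∈ orbit G w := fun v w => Set.Finite.mem_toFinset _
  have hinf : (∞ : OnePoint k) ∈ specialPts G := by
    refine ⟨⟨upper 1, hx⟩, ?_, upper_smul_infty _⟩
    rw [mem_nonCentral]
    exact ⟨fun h => one_ne_zero (upper_injective (h.trans upper_zero.symm)), upper_ne_neg_one h2 _⟩
  have hsub : ∀ w ∈ specialPts G, orbF w ⊆ X := by
    intro w hw v hv
    obtain ⟨h, rfl⟩ := (hmemF v w).mp hv
    exact (Set.Finite.mem_toFinset _).mpr (smul_mem_specialPts G hw h)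
  have hcardF : ∀ w, (orbF w).card = Nat.card (orbit G w) := fun w => by
    haveI := orbit_finite G w
    simp only [orbF]
    rw [← Set.ncard_eq_toFinset_card _, Nat.card_coe_set_eq]
  have horb : ∀ w, ∑ v ∈ orbF w, fixCount G v + 2 * Nat.card (orbit G w) = Nat.card G := by
    intro w
    have e : ∀ v ∈ orbF w, fixCount G v + 2 = Nat.card (stabilizer G w) := fun v hv => by
      rw [fixCount_add_two G hp hneg, stabilizer_card_eq G ((hmemF v w).mp hv)]
    have := sum_congr rfl e
    rw [sum_add_distrib, sum_const, sum_const, smul_eq_mul, smul_eq_mul, hcardF] at this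
    rw [mul_comm 2, this, card_orbit_mul_stab]
  have hhalf : ∀ w ∈ specialPts G, 4 * Nat.card (orbit G w) ≤ Nat.card G := fun w hw => by
    rw [← card_orbit_mul_stab G w, mul_comm 4]
    exact Nat.mul_le_mul_left _ (four_le_stabilizer G hp hneg hw)
  have hOeq := horb (∞ : OnePoint k)
  generalize hn' : Nat.card (orbit G (∞ : OnePoint k)) = n at *
  generalize hq' : Nat.card (transl G) = q at *
  generalize hG' : Nat.card G = g at *
  generalize hb' : Nat.card (stabilizer G (∞ : OnePoint k)) = b at *
  have hnq2 : n * (2 * q) = 2 * (n * q) := by ring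
  have hnq3 : 3 * n ≤ n * q := by rw [mul_comm 3]; exact Nat.mul_le_mul_left n hq
  have hnq4 : n * q ≤ n * (q * d) := Nat.mul_le_mul_left _ (Nat.le_mul_of_pos_right q hd1)
  have hg2 : g = 2 * (n * (q * d)) := by rw [← hGn, hB]; ring
  by_cases hex : ∃ w ∈ specialPts G, w ∉ orbit G (∞ : OnePoint k)
  swap
  · exfalso
    push Not at hex
    have e : X = orbF (∞ : OnePoint k) := by
      refine subset_antisymm (fun v hv => ?_) (hsub _ hinf)
      exact (hmemF _ _).mpr (hex v ((Set.Finite.mem_toFinset _).mp hv))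
    rw [e] at hsum
    omega
  obtain ⟨w, hwS, hwO⟩ := hex
  have hdis : Disjoint (orbF (∞ : OnePoint k)) (orbF w) := by
    rw [disjoint_left]
    intro v hv hv'
    apply hwO
    rw [← orbit_eq_iff, ← orbit_eq_iff.mpr ((hmemF v w).mp hv'),
      orbit_eq_iff.mpr ((hmemF v _).mp hv)]
  have hw4 := hhalf w hwS
  have hwsum := horb w
  have hall : X = orbF (∞ : OnePoint k) ∪ orbF w := by
    refine subset_antisymm ?_ (union_subset (hsub _ hinf) (hsub _ hwS))
    by_contra hne
    obtain ⟨v, hvX, hv⟩ := not_subset.mp hne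
    rw [mem_union, not_or] at hv
    have hvS := (Set.Finite.mem_toFinset _).mp hvX
    have hd1' : Disjoint (orbF (∞ : OnePoint k) ∪ orbF w) (orbF v) := by
      rw [disjoint_left]
      intro u hu hu'
      have e := orbit_eq_iff.mpr ((hmemF u v).mp hu')
      rcases mem_union.mp hu with h | h
      · exact hv.1 ((hmemF v _).mpr (by
          rw [← orbit_eq_iff, ← e, orbit_eq_iff.mpr ((hmemF u _).mp h)]))
      · exact hv.2 ((hmemF v _).mpr (by
          rw [← orbit_eq_iff, ← e, orbit_eq_iff.mpr ((hmemF u _).mp h)]))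
    have hle := sum_le_sum_of_subset (f := fun x => fixCount G x)
      (union_subset (union_subset (hsub _ hinf) (hsub _ hwS)) (hsub _ hvS))
    rw [sum_union hd1', sum_union hdis] at hle
    have := hhalf v hvS
    have := horb v
    omega
  rw [hall, sum_union hdis] at hsum
  generalize hm' : Nat.card (orbit G w) = m at *
  have hmeq : m + 2 * n = n * q + 2 := by omega
  have hms := card_orbit_mul_stab G w
  rw [hm', hG'] at hms
  have hev : 2 ∣ Nat.card (stabilizer G w) := by
    have h1 : orderOf (⟨⟨-1, hneg⟩, neg_one_smul_line w⟩ : stabilizer G w) = 2 := by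
      refine orderOf_eq_prime (Subtype.ext (Subtype.ext (by simp))) fun h => ?_
      exact neg_ne_self h2 (1 : SL(2, k))
        (congrArg (fun t : stabilizer G w => ((t : G) : SL(2, k))) h)
    have h3 := orderOf_dvd_natCard (⟨⟨-1, hneg⟩, neg_one_smul_line w⟩ : stabilizer G w)
    rwa [h1] at h3
  obtain ⟨e, he⟩ := hev
  have heq : e * (n * (q - 2) + 2) = q * d * n := by
    have h1 : n * (q - 2) + 2 = m := by rw [Nat.mul_sub, mul_comm n 2]; omega
    have h3 : 2 * (e * m) = 2 * (q * d * n) := by
      calc 2 * (e * m) = m * Nat.card (stabilizer G w) := by rw [he]; ring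
        _ = g := hms
        _ = _ := by rw [hg2]; ring
    rw [h1]
    omega
  rcases orbit_arith q d e n hq hd1 hd hdiv hn1 heq with h | ⟨rfl, rfl, rfl, rfl⟩
  · exact Or.inl h
  · refine Or.inr ⟨hq', ?_, hn', ?_, fun v hvS hvO => ?_⟩
    · omega
    · omega
    · have : v ∈ orbF w := by
        have hvX : v ∈ X := (Set.Finite.mem_toFinset _).mpr hvS
        rw [hall, mem_union] at hvX
        exact hvX.resolve_left fun h => hvO ((hmemF _ _).mp h)
      rw [stabilizer_card_eq G ((hmemF _ _).mp this), he]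

end Cfsg.Agent.PLocalB
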