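import Mathlib
import Cfsg.Agent.PLocalB.DicksonCount

/-!
Dickson's theorem: the finite group generated by two transvections with different centres contains a
conjugate of `SL(2, p)`.
-/

set_option autoImplicit false
set_option linter.unusedSectionVars false
set_option linter.style.haveILetI false

open scoped MatrixGroups
open Matrix OnePoint MulAction Finset

namespace Cfsg.Agent.PLocalB

section Prime

variable {p : ℕ} [Fact p.Prime]

theorem upper_mem_of_one {H : Subgroup SL(2, ZMod p)} (h : upper (1 : ZMod p) ∈ H) (a : ZMod p) :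
    upper a ∈ H := by
  have := Subgroup.pow_mem H h a.val
  rwa [upper_pow, mul_one, ZMod.natCast_zmod_val] at this

theorem lower_mem_of_one {H : Subgroup SL(2, ZMod p)} (h : lower (1 : ZMod p) ∈ H) (a : ZMod p) :
    lower a ∈ H := by
  have := Subgroup.pow_mem H h a.val
  rwa [lower_pow, mul_one, ZMod.natCast_zmod_val] at this

theorem eq_top_of_upper_lower {H : Subgroup SL(2, ZMod p)} (hu : upper (1 : ZMod p) ∈ H)
    (hl : lower (1 : ZMod p) ∈ H) : H = ⊤ := by
  refine eq_top_iff.mpr fun A _ => Matrix.SL2.transvection_induction (fun A => A ∈ H) ?_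
    (fun _ _ => mul_mem) A
  intro i j h c
  fin_cases i <;> fin_cases j <;> first | exact absurd rfl h | skip
  · have e : Matrix.SpecialLinearGroup.transvection h c = upper c := by
      ext a b
      fin_cases a <;> fin_cases b <;>
        simp [Matrix.SpecialLinearGroup.transvection_coe, upper, Matrix.transvection, Matrix.one_apply,
          Matrix.single_apply]
    rw [e]; exact upper_mem_of_one hu c
  · have e : Matrix.SpecialLinearGroup.transvection h c = lower c := by
      ext a b
      fin_cases a <;> fin_cases b <;>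
        simp [Matrix.SpecialLinearGroup.transvection_coe, lower, Matrix.transvection, Matrix.one_apply,
          Matrix.single_apply]
    rw [e]; exact lower_mem_of_one hl c

end Prime

variable {k : Type*} [Field k] [IsAlgClosed k] {p : ℕ} [Fact p.Prime] [CharP k p]

/-- The embedding of `SL(2, p)` given by the prime field. -/
noncomputable def primeEmb (p : ℕ) (k : Type*) [Field k] [CharP k p] :
    SL(2, ZMod p) →* SL(2, k) :=
  Matrix.SpecialLinearGroup.map (ZMod.castHom dvd_rfl k)

theorem primeEmb_apply (A : SL(2, ZMod p)) (i j : Fin 2) :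
    (primeEmb p k A) i j = ZMod.castHom dvd_rfl k (A i j) := rfl

theorem primeEmb_upper_one : primeEmb p k (upper 1) = upper (1 : k) := by
  ext i j
  rw [primeEmb_apply, coe_upper, coe_upper]
  fin_cases i <;> fin_cases j <;> simp

theorem primeEmb_lower_one : primeEmb p k (lower 1) = lower (1 : k) := by
  ext i j
  rw [primeEmb_apply, coe_lower, coe_lower]
  fin_cases i <;> fin_cases j <;> simp

/-- A diagonal element of determinant one. -/
def diagOne (s : k) (hs : s ≠ 0) : SL(2, k) := ⟨!![s, 0; 0, s⁻¹], by simp [det_fin_two, hs]⟩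

@[simp] theorem coe_diagOne (s : k) (hs : s ≠ 0) :
    (diagOne s hs : Matrix (Fin 2) (Fin 2) k) = !![s, 0; 0, s⁻¹] := rfl

theorem primeEmb_injective : Function.Injective (primeEmb p k) := by
  intro A B h
  ext i j
  have := congrArg (fun M : SL(2, k) => M i j) h
  simp [primeEmb] at this
  exact (ZMod.castHom dvd_rfl k).injective (by simpa using this)

/-- `G` contains a conjugate of the prime field `SL(2, p)`. -/
def ContainsPrimeSL (p : ℕ) {k : Type*} [Field k] [CharP k p] (G : Subgroup SL(2, k)) : Prop :=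
  ∃ t : SL(2, k), ∀ M : SL(2, ZMod p), t⁻¹ * primeEmb p k M * t ∈ G

theorem containsPrimeSL_of_entry (G : Subgroup SL(2, k)) (h1 : upper (1 : k) ∈ G) {a : k}
    (ha : upper a ∈ G) {h : SL(2, k)} (hh : h ∈ G) (he : a * h 1 0 ^ 2 = 1) :
    ContainsPrimeSL p G := by
  obtain ⟨s, hs⟩ := IsAlgClosed.exists_eq_mul_self (a⁻¹)
  have ha0 : a ≠ 0 := fun h0 => by rw [h0, zero_mul] at he; exact zero_ne_one he
  have hs0 : s ≠ 0 := fun h0 => by rw [h0, mul_zero] at hs; exact inv_ne_zero ha0 hs
  have hc : h 1 0 ≠ 0 := fun h0 => by rw [h0] at he; simp at he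
  let D : SL(2, k) := diagOne s hs0
  let t : SL(2, k) := D * upper (-(h 0 0 / h 1 0))
  have hsa : s * s * a = 1 := by rw [← hs, inv_mul_cancel₀ ha0]
  have e1 : t * upper a = upper 1 * t := by
    have eD : D * upper a = upper 1 * D := by
      apply Subtype.ext
      simp only [D, Matrix.SpecialLinearGroup.coe_mul, coe_diagOne, coe_upper, Matrix.mul_fin_two]
      have : s * a = s⁻¹ := eq_inv_of_mul_eq_one_right (by rw [← mul_assoc]; exact hsa)
      simp [this]
    simp only [t]
    rw [mul_assoc, upper_mul, add_comm, ← upper_mul, ← mul_assoc, eD, mul_assoc]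
  have e2 : (t * h) * upper 1 = lower (-1) * (t * h) := by
    have hd := det_entries h
    have eM : ((t * h : SL(2, k)) : Matrix (Fin 2) (Fin 2) k) =
        !![0, -(s / h 1 0); s⁻¹ * h 1 0, s⁻¹ * h 1 1] := by
      simp only [t, D, Matrix.SpecialLinearGroup.coe_mul, coe_diagOne, coe_upper, Matrix.mul_fin_two]
      rw [Matrix.eta_fin_two (h : Matrix (Fin 2) (Fin 2) k), Matrix.mul_fin_two]
      simp only [Matrix.cons_val', Matrix.cons_val_zero, Matrix.cons_val_one, Matrix.of_apply,
        mul_one, mul_zero, zero_mul, add_zero, zero_add, Matrix.empty_val',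
        Matrix.cons_val_fin_one]
      ext i j
      fin_cases i <;> fin_cases j <;> simp
      · field_simp; ring
      · field_simp
        linear_combination -hd
    apply Subtype.ext
    simp only [Matrix.SpecialLinearGroup.coe_mul, coe_upper, coe_lower] at eM ⊢
    rw [eM]
    simp only [Matrix.mul_fin_two]
    have : s⁻¹ * h 1 0 = s / h 1 0 := by
      field_simp
      linear_combination (s * s) * he - (h 1 0 ^ 2) * hsa
    ext i j
    fin_cases i <;> fin_cases j <;> simp [this]
  refine ⟨t, fun M => ?_⟩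
  let H : Subgroup SL(2, ZMod p) :=
    G.comap ((MulAut.conj t⁻¹).toMonoidHom.comp (primeEmb p k))
  have hH : ∀ N, N ∈ H ↔ t⁻¹ * primeEmb p k N * t ∈ G := fun N => by simp [H]
  suffices H = ⊤ from (hH M).mp (this ▸ Subgroup.mem_top M)
  apply eq_top_of_upper_lower
  · rw [hH, primeEmb_upper_one, mul_assoc, ← e1, inv_mul_cancel_left]
    exact ha
  · rw [hH, primeEmb_lower_one]
    have e2' : t⁻¹ * lower (-1 : k) * t = h * upper 1 * h⁻¹ := by
      rw [eq_mul_inv_iff_mul_eq]
      calc t⁻¹ * lower (-1) * t * h = t⁻¹ * (lower (-1) * (t * h)) := by simp only [mul_assoc]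
        _ = h * upper 1 := by rw [← e2]; simp only [mul_assoc, inv_mul_cancel_left]
    have e3 : t⁻¹ * lower (1 : k) * t = (t⁻¹ * lower (-1 : k) * t)⁻¹ := by
      have : lower (1 : k) = (lower (-1 : k))⁻¹ :=
        eq_inv_of_mul_eq_one_left (by rw [lower_mul, add_neg_cancel, lower_zero])
      rw [this]; simp [mul_assoc]
    rw [e3, e2']
    exact inv_mem (mul_mem (mul_mem hh h1) (inv_mem hh))

section Count

variable [DecidableEq k]

attribute [local instance] lineAction

theorem containsPrimeSL_of_orbit (G : Subgroup SL(2, k)) [Fintype G] (hx : upper (1 : k) ∈ G)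
    (hmove : ∃ g ∈ G, g 1 0 ≠ 0)
    (hn : Nat.card (orbit G (∞ : OnePoint k)) = Nat.card (transl G) + 1) :
    ContainsPrimeSL p G := by
  classical
  haveI := transl_finite G
  haveI := orbit_finite G (∞ : OnePoint k)
  obtain ⟨h, hh, hc⟩ := hmove
  set z : k := h 0 0 / h 1 0 with hz
  have hzmem : (z : OnePoint k) ∈ orbit G (∞ : OnePoint k) :=
    ⟨⟨h, hh⟩, smul_infty_of_ne h hc⟩
  let f : Option (transl G) → orbit G (∞ : OnePoint k) := fun o =>
    o.elim ⟨∞, mem_orbit_self _⟩ fun a => ⟨((z + a.1 : k) : OnePoint k), by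
      rw [← upper_smul_coe]
      exact mem_orbit_of_mem_orbit (⟨upper a.1, a.2⟩ : G) hzmem⟩
  haveI := Fintype.ofFinite (transl G)
  haveI := Fintype.ofFinite (orbit G (∞ : OnePoint k))
  have hf : Function.Surjective f := by
    refine (Function.Injective.bijective_of_nat_card_le ?_ ?_).2
    · rintro (_ | a) (_ | b) e
      · rfl
      · exact absurd (congrArg Subtype.val e) (OnePoint.infty_ne_coe _)
      · exact absurd (congrArg Subtype.val e) (OnePoint.coe_ne_infty _)
      · exact congrArg Option.some (Subtype.ext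
          (add_left_cancel (OnePoint.coe_eq_coe.mp (congrArg Subtype.val e))))
    · rw [hn]; simp [Nat.card_eq_fintype_card]
  let u : SL(2, k) := h * upper 1 * h⁻¹
  have hu : u ∈ G := mul_mem (mul_mem hh hx) (inv_mem hh)
  have hu10 : u 1 0 = -(h 1 0) ^ 2 := by
    simp only [u, Matrix.SpecialLinearGroup.coe_mul, Matrix.SpecialLinearGroup.coe_inv, coe_upper,
      Matrix.adjugate_fin_two, Matrix.mul_apply, Fin.sum_univ_two]
    simp
    ring
  have hu00 : u 0 0 = 1 - h 0 0 * h 1 0 := by
    simp only [u, Matrix.SpecialLinearGroup.coe_mul, Matrix.SpecialLinearGroup.coe_inv, coe_upper,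
      Matrix.adjugate_fin_two, Matrix.mul_apply, Fin.sum_univ_two]
    simp
    linear_combination det_entries h
  have hu0 : u 1 0 ≠ 0 := by rw [hu10]; simp [hc]
  obtain ⟨o, ho⟩ := hf ⟨_, mem_orbit (∞ : OnePoint k) (⟨u, hu⟩ : G)⟩
  have he := congrArg Subtype.val ho
  have hinf : ((⟨u, hu⟩ : G) • (∞ : OnePoint k)) = ((u 0 0 / u 1 0 : k) : OnePoint k) :=
    smul_infty_of_ne u hu0
  simp only [hinf] at he
  cases o with
  | none => simp [f] at he
  | some a =>
    simp only [f, Option.elim, OnePoint.coe_eq_coe] at he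
    refine containsPrimeSL_of_entry G hx (a := -a.1) (neg_mem a.2) hh ?_
    rw [hu10, hu00, hz] at he
    field_simp at he
    linear_combination -he

theorem order_four_of_exceptional (G : Subgroup SL(2, k)) [Fintype G] (hp : p ≠ 2)
    (hneg : (-1 : SL(2, k)) ∈ G) (hE : IsExceptional G) (g : G) (hg : g ^ 8 = 1) :
    g ^ 4 = 1 := by
  have h2 := two_ne_zero_char (k := k) hp
  by_cases hnc : (g : SL(2, k)) = 1 ∨ (g : SL(2, k)) = -1
  · rcases hnc with h | h <;> exact Subtype.ext (by simp [h, Even.neg_one_pow (by decide : Even 4)])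
  rw [not_or] at hnc
  obtain ⟨w, hw⟩ := exists_fixed h2 (g : SL(2, k))
  have hgw : g ∈ stabilizer G w := hw
  have hwS : w ∈ specialPts G := ⟨g, (mem_nonCentral G).mpr hnc, hw⟩
  have hdvd : orderOf g ∣ Nat.card (stabilizer G w) := by
    have h3 := orderOf_dvd_natCard (⟨g, hgw⟩ : stabilizer G w)
    rwa [Subgroup.orderOf_mk] at h3
  obtain ⟨-, -, -, hB, hother⟩ := hE
  have h8 : orderOf g ∣ 8 := orderOf_dvd_of_pow_eq_one hg
  rw [← orderOf_dvd_iff_pow_eq_one]
  by_cases hO : w ∈ orbit G (∞ : OnePoint k)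
  · rw [stabilizer_card_eq G hO, hB] at hdvd
    exact (Nat.dvd_gcd hdvd h8).trans (by norm_num)
  · rw [hother w hwS hO] at hdvd
    exact (Nat.dvd_gcd hdvd h8).trans (by norm_num)

end Count

theorem cayley_two (g : SL(2, k)) :
    (g : Matrix (Fin 2) (Fin 2) k) * (g : Matrix (Fin 2) (Fin 2) k) =
      tr g • (g : Matrix (Fin 2) (Fin 2) k) - 1 := by
  have hd := det_entries g
  ext i j
  fin_cases i <;> fin_cases j <;>
    simp [tr, Matrix.mul_apply, Fin.sum_univ_two]
  · linear_combination -hd
  · ring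
  · ring
  · linear_combination -hd

theorem sq_eq_neg_one_iff (h2 : (2 : k) ≠ 0) (g : SL(2, k)) : g * g = -1 ↔ tr g = 0 := by
  have h := cayley_two g
  constructor
  · intro e
    have e' : (g : Matrix (Fin 2) (Fin 2) k) * g = -1 := by
      rw [← Matrix.SpecialLinearGroup.coe_mul, e]; simp [Matrix.SpecialLinearGroup.coe_neg]
    rw [e'] at h
    have h0 : tr g • (g : Matrix (Fin 2) (Fin 2) k) = 0 := by
      rw [sub_eq_add_neg] at h
      exact add_eq_right.mp h.symm
    by_contra ht
    have hg0 := (smul_eq_zero.mp h0).resolve_left ht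
    have hd := det_entries g
    simp [hg0] at hd
  · intro ht
    rw [ht, zero_smul, zero_sub] at h
    exact Subtype.ext (by simpa [Matrix.SpecialLinearGroup.coe_neg] using h)

theorem sq_eq_one_imp (h2 : (2 : k) ≠ 0) (g : SL(2, k)) (e : g * g = 1) : g = 1 ∨ g = -1 := by
  have hinv : g⁻¹ = g := inv_eq_of_mul_eq_one_right e
  have key : ∀ i j, (g⁻¹ : SL(2, k)) i j = g i j := by rw [hinv]; simp
  have h01 := key 0 1
  have h10 := key 1 0
  have h00 := key 0 0
  simp [Matrix.adjugate_fin_two] at h01 h10 h00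
  have a01 : g 0 1 = 0 :=
    (mul_eq_zero.mp (show (2 : k) * g 0 1 = 0 by linear_combination -h01)).resolve_left h2
  have a10 : g 1 0 = 0 :=
    (mul_eq_zero.mp (show (2 : k) * g 1 0 = 0 by linear_combination -h10)).resolve_left h2
  have hd := det_entries g
  rw [a10, mul_zero, sub_zero, h00] at hd
  rcases mul_self_eq_one_iff.mp hd with h | h
  · exact Or.inl (eq_one_of_diag g a01 a10 h)
  · exact Or.inr (eq_neg_one_of_diag g a01 a10 h)

end Cfsg.Agent.PLocalB
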