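import Mathlib
import Cfsg.Agent.PLocalB.DicksonMain

/-!
Dickson's theorem in the form: a finite subgroup of `SL(2, k)`, `k` algebraically closed of odd
characteristic `p`, containing two unipotent elements with distinct fixed lines contains a conjugate
of `SL(2, p)`.
-/

set_option autoImplicit false
set_option linter.unusedSectionVars false
set_option linter.style.haveILetI false

open scoped MatrixGroups
open Matrix OnePoint MulAction Finset

namespace Cfsg.Agent.PLocalB

variable {k : Type*} [Field k] [IsAlgClosed k] {p : ℕ} [Fact p.Prime] [CharP k p]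

section Exceptional

variable [DecidableEq k]

attribute [local instance] lineAction

/-- Decidable equality of points of the projective line. -/
noncomputable local instance lineDecEq' : DecidableEq (OnePoint k) := Classical.decEq _

variable (G : Subgroup SL(2, k)) [Fintype G]

/-- Elements of `G` of trace zero. -/
noncomputable def traceZero : Finset G := univ.filter fun g : G => tr (g : SL(2, k)) = 0

theorem mem_traceZero {g : G} : g ∈ traceZero G ↔ tr (g : SL(2, k)) = 0 := by simp [traceZero]

theorem traceZero_orderOf (hp : p ≠ 2) {t : G} (ht : tr (t : SL(2, k)) = 0) :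
    orderOf t = 4 := by
  have h2 := two_ne_zero_char (k := k) hp
  have h := (sq_eq_neg_one_iff h2 _).mpr ht
  haveI : Fact (Nat.Prime 2) := ⟨Nat.prime_two⟩
  refine orderOf_eq_prime_pow (p := 2) (n := 1) (fun e => ?_) (Subtype.ext ?_)
  · have := congrArg Subtype.val e
    simp [pow_two, h] at this
    exact neg_ne_self h2 (1 : SL(2, k)) this
  · simp only [SubmonoidClass.coe_pow, OneMemClass.coe_one]
    rw [show (2 : ℕ) ^ (1 + 1) = 2 + 2 from rfl, pow_add, pow_two, h, neg_mul_neg, one_mul]

theorem traceZero_mem_nonCentral (hp : p ≠ 2) {t : G} (ht : tr (t : SL(2, k)) = 0) :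
    t ∈ nonCentral G := by
  rw [mem_nonCentral]
  have h2 := two_ne_zero_char (k := k) hp
  constructor <;> intro h <;> rw [h] at ht <;>
    simp [tr, Matrix.SpecialLinearGroup.coe_neg] at ht
  · exact h2 (by linear_combination ht)
  · exact h2 (by linear_combination -ht)

theorem traceZero_fixed_mem_orbit (hp : p ≠ 2) (hE : IsExceptional G) {t : G}
    (ht : tr (t : SL(2, k)) = 0) {v : OnePoint k} (hv : t • v = v) :
    v ∈ orbit G (∞ : OnePoint k) := by
  by_contra hO
  obtain ⟨-, -, -, -, hother⟩ := hE
  have hvS : v ∈ specialPts G := ⟨t, traceZero_mem_nonCentral G hp ht, hv⟩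
  have h3 := orderOf_dvd_natCard (⟨t, hv⟩ : stabilizer G v)
  rw [← Subgroup.orderOf_coe, hother v hvS hO] at h3
  rw [show orderOf ((⟨t, hv⟩ : stabilizer G v) : G) = 4 from traceZero_orderOf G hp ht] at h3
  norm_num at h3

theorem traceZero_at_infty (hp : p ≠ 2) (hneg : (-1 : SL(2, k)) ∈ G) (hx : upper (1 : k) ∈ G)
    (hE : IsExceptional G) :
    ((traceZero G).filter fun g => g • (∞ : OnePoint k) = ∞).card = 6 := by
  classical
  have h2 := two_ne_zero_char (k := k) hp
  obtain ⟨hq, -, -, hB, -⟩ := hE
  haveI : Fintype (stabilizer G (∞ : OnePoint k)) := Fintype.ofFinite _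
  let χ : stabilizer G (∞ : OnePoint k) →* kˣ := (diagEntry G).toHomUnits
  have hker : Nat.card χ.ker = 3 := by
    rw [← hq, ← diag_fiber_card G 1]
    refine Nat.card_congr (Equiv.subtypeEquivRight fun b => ?_)
    rw [map_one, MonoidHom.mem_ker, Units.ext_iff]
    rfl
  have hr : Nat.card χ.range = 4 := by
    have := Subgroup.card_eq_card_quotient_mul_card_subgroup χ.ker
    rw [Nat.card_congr (QuotientGroup.quotientKerEquivRange χ).toEquiv, hB, hker] at this
    omega
  have h4 : ∀ b, diagEntry G b ^ 4 = 1 := by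
    intro b
    have := pow_card_eq_one' (G := χ.range) (x := ⟨χ b, b, rfl⟩)
    rw [hr] at this
    have := congrArg (fun u : χ.range => ((u : kˣ) : k)) this
    simpa [χ, MonoidHom.coe_toHomUnits] using this
  have hiff : ∀ b : stabilizer G (∞ : OnePoint k),
      (tr ((b : G) : SL(2, k)) = 0 ↔ ¬ (diagEntry G b = 1 ∨ diagEntry G b = -1)) := by
    intro b
    have h10 : ((b : G) : SL(2, k)) 1 0 = 0 := (smul_infty_iff _).mp b.2
    have hd := det_entries ((b : G) : SL(2, k))
    rw [h10, mul_zero, sub_zero] at hd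
    rw [← mul_self_eq_one_iff]
    have hb := h4 b
    rw [diagEntry_apply] at hb ⊢
    rw [tr]
    constructor
    · intro ht h1
      have : (2 : k) = 0 := by
        linear_combination ((b : G) : SL(2, k)) 0 0 * ht - h1 - hd
      exact h2 this
    · intro h1
      have hm : ((b : G) : SL(2, k)) 0 0 * ((b : G) : SL(2, k)) 0 0 = -1 :=
        (mul_self_eq_one_iff.mp (by linear_combination hb :
          (((b : G) : SL(2, k)) 0 0 * ((b : G) : SL(2, k)) 0 0) *
            (((b : G) : SL(2, k)) 0 0 * ((b : G) : SL(2, k)) 0 0) = 1)).resolve_left h1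
      linear_combination -((b : G) : SL(2, k)) 0 0 * hd + ((b : G) : SL(2, k)) 1 1 * hm
  have e : ((traceZero G).filter fun g => g • (∞ : OnePoint k) = ∞).card =
      Nat.card {b : stabilizer G (∞ : OnePoint k) // ¬ (diagEntry G b = 1 ∨ diagEntry G b = -1)} := by
    rw [traceZero, filter_filter, ← Fintype.card_subtype, ← Nat.card_eq_fintype_card]
    exact Nat.card_congr
      { toFun := fun g => ⟨⟨g.1, g.2.2⟩, (hiff ⟨g.1, g.2.2⟩).mp g.2.1⟩
        invFun := fun b => ⟨b.1.1, (hiff b.1).mpr b.2, b.1.2⟩
        left_inv := fun g => rfl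
        right_inv := fun b => rfl }
  have h1 := card_unipotent_stabilizer G hp hneg
  rw [hq] at h1
  have h12 : Fintype.card (stabilizer G (∞ : OnePoint k)) = 12 := by
    rw [← Nat.card_eq_fintype_card]; exact hB
  rw [e, Nat.card_eq_fintype_card, Fintype.card_subtype_compl, h12,
    ← Nat.card_eq_fintype_card, h1]

theorem card_traceZero (hp : p ≠ 2) (hneg : (-1 : SL(2, k)) ∈ G) (hx : upper (1 : k) ∈ G)
    (hE : IsExceptional G) : (traceZero G).card = 30 := by
  classical
  have h2 := two_ne_zero_char (k := k) hp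
  haveI := orbit_finite G (∞ : OnePoint k)
  let O := (Set.toFinite (orbit G (∞ : OnePoint k))).toFinset
  have hO : O.card = 10 := by
    rw [← Set.ncard_eq_toFinset_card _, ← Nat.card_coe_set_eq]; exact hE.2.2.1
  have key : ∑ w ∈ O, ((traceZero G).filter fun g => g • w = w).card =
      2 * (traceZero G).card := by
    simp only [card_filter]
    rw [sum_comm, mul_comm, ← smul_eq_mul, ← sum_const]
    refine sum_congr rfl fun g hg => ?_
    rw [← card_filter]
    have ht := (mem_traceZero G).mp hg
    obtain ⟨h1, hm⟩ := (mem_nonCentral G).mp (traceZero_mem_nonCentral G hp ht)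
    obtain ⟨w, w', hne, hw⟩ := fixed_semisimple h2 _ h1 hm (by
      rw [ht]; intro h; exact mul_ne_zero h2 h2 (by linear_combination -h))
    have e : O.filter (fun v => g • v = v) = {w, w'} := by
      ext v
      simp only [mem_filter, Finset.mem_insert, Finset.mem_singleton, O, Set.Finite.mem_toFinset]
      exact ⟨fun h => (hw v).mp h.2,
        fun h => ⟨traceZero_fixed_mem_orbit G hp hE ht ((hw v).mpr h), (hw v).mpr h⟩⟩
    rw [e, card_pair hne]
  have hconst : ∀ w ∈ O, ((traceZero G).filter fun g => g • w = w).card = 6 := by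
    intro w hw
    rw [← traceZero_at_infty G hp hneg hx hE]
    obtain ⟨h, rfl⟩ := (Set.Finite.mem_toFinset _).mp hw
    refine card_nbij' (fun g => h⁻¹ * g * h) (fun g => h * g * h⁻¹) ?_ ?_ ?_ ?_
    · intro g hg
      simp only [mem_coe, mem_filter, mem_traceZero] at hg ⊢
      refine ⟨?_, by rw [mul_smul, mul_smul, hg.2, inv_smul_smul]⟩
      have := tr_conj (g : SL(2, k)) ((h⁻¹ : G) : SL(2, k))
      simp only [InvMemClass.coe_inv, inv_inv] at this
      simpa [this] using hg.1
    · intro g hg
      simp only [mem_coe, mem_filter, mem_traceZero] at hg ⊢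
      refine ⟨?_, by rw [mul_smul, mul_smul, inv_smul_smul, hg.2]⟩
      simpa [tr_conj] using hg.1
    · intro g _; simp [mul_assoc]
    · intro g _; simp [mul_assoc]
  rw [sum_congr rfl hconst, sum_const, smul_eq_mul, hO] at key
  omega

/-- The elements commuting with `t` up to sign. -/
def signCentralizer (t : G) : Subgroup G where
  carrier := {g | (g : SL(2, k)) * t = t * g ∨ (g : SL(2, k)) * t = -((t : SL(2, k)) * g)}
  one_mem' := Or.inl (by simp)
  mul_mem' := by
    rintro a b (ha | ha) (hb | hb) <;>
      simp only [Set.mem_setOf_eq, Subgroup.coe_mul]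
    · exact Or.inl (by rw [mul_assoc, hb, ← mul_assoc, ha, mul_assoc])
    · exact Or.inr (by rw [mul_assoc, hb, mul_neg, ← mul_assoc, ha, mul_assoc])
    · exact Or.inr (by rw [mul_assoc, hb, ← mul_assoc, ha, neg_mul, mul_assoc])
    · exact Or.inl (by rw [mul_assoc, hb, mul_neg, ← mul_assoc, ha, neg_mul, neg_neg, mul_assoc])
  inv_mem' := by
    rintro a (ha | ha) <;> simp only [Set.mem_setOf_eq, InvMemClass.coe_inv]
    · left
      rw [inv_mul_eq_iff_eq_mul, ← mul_assoc, ha, mul_inv_cancel_right]
    · right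
      rw [inv_mul_eq_iff_eq_mul, mul_neg, ← mul_assoc, ha, neg_mul, mul_inv_cancel_right, neg_neg]

theorem mem_signCentralizer {t g : G} : g ∈ signCentralizer G t ↔
    (g : SL(2, k)) * t = t * g ∨ (g : SL(2, k)) * t = -((t : SL(2, k)) * g) := Iff.rfl

theorem self_mem_signCentralizer (t : G) : t ∈ signCentralizer G t := Or.inl rfl

theorem signCentralizer_card_le (hp : p ≠ 2) (hp3 : p = 3) (hE : IsExceptional G) {t : G}
    (ht : tr (t : SL(2, k)) = 0) : Nat.card (signCentralizer G t) ≤ 8 := by
  classical
  subst hp3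
  have h2 := two_ne_zero_char (k := k) hp
  obtain ⟨h1, hm⟩ := (mem_nonCentral G).mp (traceZero_mem_nonCentral G hp ht)
  obtain ⟨w, w', hne, hw⟩ := fixed_semisimple h2 _ h1 hm (by
    rw [ht]; intro h; exact mul_ne_zero h2 h2 (by linear_combination -h))
  let H := signCentralizer G t
  have hwO := traceZero_fixed_mem_orbit G hp hE ht ((hw w).mpr (Or.inl rfl))
  have horb : ∀ g : H, g • w = w ∨ g • w = w' := by
    rintro ⟨g, hg | hg⟩
    · refine (hw _).mp ?_
      change (t : SL(2, k)) • (g : SL(2, k)) • w = (g : SL(2, k)) • w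
      rw [← mul_smul, ← hg, mul_smul, (hw w).mpr (Or.inl rfl)]
    · refine (hw _).mp ?_
      change (t : SL(2, k)) • (g : SL(2, k)) • w = (g : SL(2, k)) • w
      have e : (t : SL(2, k)) * g = -((g : SL(2, k)) * t) := by rw [hg, neg_neg]
      rw [← mul_smul, e, neg_smul, mul_smul, (hw w).mpr (Or.inl rfl)]
  haveI : Fintype (orbit H w) := @Fintype.ofFinite _ (Finite.Set.finite_range _)
  haveI : Fintype H := Fintype.ofFinite _
  have horb2 : Nat.card (orbit H w) ≤ 2 := by
    rw [Nat.card_coe_set_eq]
    refine (Set.ncard_le_ncard (t := {w, w'}) ?_ ((Set.finite_singleton w').insert w)).trans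
      (by rw [Set.ncard_pair hne])
    rintro _ ⟨g, rfl⟩
    simpa using horb g
  have hmul : Nat.card (orbit H w) * Nat.card (stabilizer H w) = Nat.card H := by
    simp only [Nat.card_eq_fintype_card]
    exact card_orbit_mul_card_stabilizer_eq_card_group H w
  let K : Subgroup G := (stabilizer H w).map H.subtype
  have hK : Nat.card K = Nat.card (stabilizer H w) :=
    Nat.card_congr ((stabilizer H w).equivMapOfInjective _ H.subtype_injective).symm.toEquiv
  have hKw : K ≤ stabilizer G w := by
    rintro _ ⟨g, hg, rfl⟩; exact hg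
  have hd := Subgroup.card_dvd_of_le hKw
  rw [stabilizer_card_eq G hwO, hE.2.2.2.1] at hd
  have hKfix : ∀ g ∈ K, g • w' = w' := by
    rintro _ ⟨g, hg, rfl⟩
    have hfix : (t : SL(2, k)) • ((g : G) : SL(2, k)) • w' = ((g : G) : SL(2, k)) • w' := by
      rcases g.2 with hg' | hg'
      · rw [← mul_smul, ← hg', mul_smul, (hw w').mpr (Or.inr rfl)]
      · have e : (t : SL(2, k)) * (g : G) = -(((g : G) : SL(2, k)) * t) := by rw [hg', neg_neg]
        rw [← mul_smul, e, neg_smul, mul_smul, (hw w').mpr (Or.inr rfl)]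
    rcases (hw _).mp hfix with h | h
    · exfalso
      have e : ((g : G) : SL(2, k)) • w = w := hg
      exact hne (smul_left_cancel _ (e.trans h.symm))
    · exact h
  have h3 : ¬ 3 ∣ Nat.card K := by
    intro h3
    obtain ⟨g, hg⟩ := exists_prime_orderOf_dvd_card' 3 h3
    have hg1 : (g : G) ≠ 1 := by
      intro e
      have : g = 1 := Subtype.ext e
      rw [this, orderOf_one] at hg
      omega
    have hpow : ((g : G) : SL(2, k)) ^ 3 = 1 := by
      have := congrArg (fun u : K => ((u : G) : SL(2, k))) (hg ▸ pow_orderOf_eq_one g)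
      simpa using this
    have hne1 : ((g : G) : SL(2, k)) ≠ 1 := fun e => hg1 (Subtype.ext e)
    have hne2 : ((g : G) : SL(2, k)) ≠ -1 := fun e => by
      rw [e] at hpow
      rw [Odd.neg_one_pow (by decide : Odd 3)] at hpow
      exact neg_ne_self h2 (1 : SL(2, k)) hpow
    obtain ⟨h, hh⟩ := exists_smul_eq_infty w
    have h10 : (h * ((g : G) : SL(2, k)) * h⁻¹) 1 0 = 0 := by
      rw [← smul_infty_iff, ← hh, smul_conj_fixed]; exact hKw g.2
    have hu := upper_of_pow (p := 3) (h * ((g : G) : SL(2, k)) * h⁻¹) h10 (i := 1)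
      (by rw [pow_one, conj_pow, hpow, mul_one, mul_inv_cancel])
    have ht' : tr ((g : G) : SL(2, k)) ^ 2 = 4 := by
      rw [← tr_conj _ h, hu]; simp [tr, upper]; norm_num
    obtain ⟨v, hv⟩ := fixed_parabolic h2 _ hne1 hne2 ht'
    exact hne (((hv w).mp (hKw g.2)).trans ((hv w').mp (hKfix _ g.2)).symm)
  have h4 : Nat.card K ≤ 4 := by
    have : Nat.card K ≤ 12 := Nat.le_of_dvd (by norm_num) hd
    interval_cases h : Nat.card K <;> first | omega | (norm_num at hd h3)
  rw [← hmul]
  rw [hK] at h4
  exact (Nat.mul_le_mul horb2 h4).trans (by norm_num)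

theorem containsPrimeSL_exceptional (hp : p ≠ 2) (hneg : (-1 : SL(2, k)) ∈ G)
    (hx : upper (1 : k) ∈ G) (hE : IsExceptional G) : ContainsPrimeSL p G := by
  classical
  have h2 := two_ne_zero_char (k := k) hp
  haveI := transl_finite G
  have hp3 : p = 3 := by
    have h1 : addOrderOf (⟨1, hx⟩ : transl G) = p := by
      refine addOrderOf_eq_prime ?_ fun h => one_ne_zero (congrArg Subtype.val h)
      ext; simp
    have h := h1 ▸ addOrderOf_dvd_natCard (⟨1, hx⟩ : transl G)
    rw [hE.1] at h
    exact (Nat.prime_dvd_prime_iff_eq (Fact.out : p.Prime) Nat.prime_three).mp h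
  subst hp3
  let m : G := ⟨-1, hneg⟩
  have hsq : ∀ g : G, g ^ 8 = 1 → g * g = 1 ∨ g * g = m := by
    intro g hg
    have h4 := congrArg Subtype.val (order_four_of_exceptional G hp hneg hE g hg)
    simp only [SubmonoidClass.coe_pow, OneMemClass.coe_one] at h4
    rcases sq_eq_one_imp h2 ((g : SL(2, k)) * g) (by rw [← h4]; simp [pow_succ, mul_assoc]) with h | h
    · exact Or.inl (Subtype.ext h)
    · exact Or.inr (Subtype.ext h)
  -- the sign centralizer of a trace zero element has order eight
  have hcard : ∀ t : G, tr (t : SL(2, k)) = 0 → Nat.card (signCentralizer G t) = 8 := by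
    intro t ht
    refine le_antisymm (signCentralizer_card_le G hp rfl hE ht) ?_
    haveI : Fact (Nat.Prime 2) := ⟨Nat.prime_two⟩
    obtain ⟨H, hH, htH⟩ := Sylow.exists_subgroup_card_pow_prime_le (p := 2) (n := 2) (m := 3)
      (by rw [hE.2.1]; norm_num) (Subgroup.zpowers t)
      (by rw [Nat.card_zpowers, traceZero_orderOf G hp ht]; rfl) (by norm_num)
    have htH' : t ∈ H := htH (Subgroup.mem_zpowers t)
    have hle : H ≤ signCentralizer G t := by
      intro g hg
      have hpow : ∀ u ∈ H, u ^ 8 = 1 := fun u hu => by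
        have := pow_card_eq_one' (G := H) (x := ⟨u, hu⟩)
        rw [hH] at this
        simpa using congrArg Subtype.val this
      have ht2 : (t : SL(2, k)) * t = -1 := (sq_eq_neg_one_iff h2 _).mpr ht
      have hgg := hsq g (hpow g hg)
      have hgt := hsq (g * t) (hpow _ (mul_mem hg htH'))
      have hmem : ∀ u : G, u = 1 ∨ u = m → (u : SL(2, k)) = 1 ∨ (u : SL(2, k)) = -1 := by
        rintro u (rfl | rfl)
        · exact Or.inl rfl
        · exact Or.inr rfl
      rw [mem_signCentralizer]
      have hgg' := hmem _ hgg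
      have hgt' := hmem _ hgt
      simp only [Subgroup.coe_mul] at hgg' hgt'
      have e : (g : SL(2, k)) * t = ((g : SL(2, k)) * g) * (-((t : SL(2, k)) * g)) *
          ((g : SL(2, k)) * t * ((g : SL(2, k)) * t))⁻¹ * ((g : SL(2, k)) * t * (g : SL(2, k)) * t) *
          ((g : SL(2, k)) * g * -((t : SL(2, k)) * g))⁻¹ * ((g : SL(2, k)) * t) := by
        simp [mul_assoc]
      -- from `(g t)² = ±1`, `g² = ±1`, `t² = -1`
      have key : (g : SL(2, k)) * t =
          ((g : SL(2, k)) * t * ((g : SL(2, k)) * t)) * (t : SL(2, k))⁻¹ * (g : SL(2, k))⁻¹ := by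
        simp [mul_assoc]
      have hti : (t : SL(2, k))⁻¹ = -(t : SL(2, k)) :=
        inv_eq_of_mul_eq_one_right (by rw [mul_neg, ht2, neg_neg])
      rcases hgg' with hgg' | hgg' <;> rcases hgt' with hgt' | hgt' <;> rw [hgt'] at key
      · right
        rw [key, inv_eq_of_mul_eq_one_right hgg', hti]; simp
      · left
        rw [key, inv_eq_of_mul_eq_one_right hgg', hti]; simp
      · left
        rw [key, inv_eq_of_mul_eq_one_right (show (g : SL(2, k)) * -(g : SL(2, k)) = 1 by
          rw [mul_neg, hgg', neg_neg]), hti]; simp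
      · right
        rw [key, inv_eq_of_mul_eq_one_right (show (g : SL(2, k)) * -(g : SL(2, k)) = 1 by
          rw [mul_neg, hgg', neg_neg]), hti]; simp
    have := Subgroup.card_le_card_group (H.subgroupOf (signCentralizer G t))
    rw [Nat.card_congr (Subgroup.subgroupOfEquivOfLe hle).toEquiv, hH] at this
    exact le_trans (by norm_num) this
  have hexp : ∀ t : G, tr (t : SL(2, k)) = 0 → ∀ g ∈ signCentralizer G t,
      (g : SL(2, k)) * g = 1 ∨ (g : SL(2, k)) * g = -1 := by
    intro t ht g hg
    have h8 := pow_card_eq_one' (G := signCentralizer G t) (x := ⟨g, hg⟩)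
    rw [hcard t ht] at h8
    rcases hsq g (by simpa using congrArg Subtype.val h8) with h | h
    · exact Or.inl (congrArg Subtype.val h)
    · exact Or.inr (congrArg Subtype.val h)
  have hpm : ∀ t : G, tr (t : SL(2, k)) = 0 → ∀ g ∈ signCentralizer G t,
      g = 1 ∨ g = m ∨ tr (g : SL(2, k)) = 0 := by
    intro t ht g hg
    rcases hexp t ht g hg with h | h
    · rcases sq_eq_one_imp h2 _ h with h' | h'
      · exact Or.inl (Subtype.ext h')
      · exact Or.inr (Or.inl (Subtype.ext h'))
    · exact Or.inr (Or.inr ((sq_eq_neg_one_iff h2 _).mp h))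
  have hsame : ∀ t : G, tr (t : SL(2, k)) = 0 → ∀ s ∈ signCentralizer G t,
      tr (s : SL(2, k)) = 0 → signCentralizer G s = signCentralizer G t := by
    intro t ht s hs hs0
    have hle : signCentralizer G t ≤ signCentralizer G s := by
      intro g hg
      rw [mem_signCentralizer]
      have hgs := hexp t ht (g * s) (mul_mem hg hs)
      have hgg := hexp t ht g hg
      simp only [Subgroup.coe_mul] at hgs
      have hs2 : (s : SL(2, k)) * s = -1 := (sq_eq_neg_one_iff h2 _).mpr hs0
      have hsi : (s : SL(2, k))⁻¹ = -(s : SL(2, k)) :=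
        inv_eq_of_mul_eq_one_right (by rw [mul_neg, hs2, neg_neg])
      have key : (g : SL(2, k)) * s =
          ((g : SL(2, k)) * s * ((g : SL(2, k)) * s)) * (s : SL(2, k))⁻¹ * (g : SL(2, k))⁻¹ := by
        simp [mul_assoc]
      rcases hgg with hgg | hgg <;> rcases hgs with hgs | hgs <;> rw [hgs] at key
      · right
        rw [key, inv_eq_of_mul_eq_one_right hgg, hsi]; simp
      · left
        rw [key, inv_eq_of_mul_eq_one_right hgg, hsi]; simp
      · left
        rw [key, inv_eq_of_mul_eq_one_right (show (g : SL(2, k)) * -(g : SL(2, k)) = 1 by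
          rw [mul_neg, hgg, neg_neg]), hsi]; simp
      · right
        rw [key, inv_eq_of_mul_eq_one_right (show (g : SL(2, k)) * -(g : SL(2, k)) = 1 by
          rw [mul_neg, hgg, neg_neg]), hsi]; simp
    exact (Subgroup.eq_of_le_of_card_ge hle (by rw [hcard t ht, hcard s hs0])).symm
  -- the partition of the trace zero elements into five blocks of six
  let T := traceZero G
  let S := T.image (signCentralizer G)
  have hfib : ∀ H ∈ S, (T.filter fun s => signCentralizer G s = H).card = 6 := by
    intro H hH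
    obtain ⟨t, ht, rfl⟩ := Finset.mem_image.mp hH
    have ht0 := (mem_traceZero G).mp ht
    have e : (univ.filter fun g : G => g ∈ signCentralizer G t) =
        insert 1 (insert m (T.filter fun s => signCentralizer G s = signCentralizer G t)) := by
      ext g
      simp only [mem_filter, Finset.mem_univ, true_and, Finset.mem_insert, T, mem_traceZero]
      constructor
      · intro hg
        rcases hpm t ht0 g hg with h | h | h
        · exact Or.inl h
        · exact Or.inr (Or.inl h)
        · exact Or.inr (Or.inr ⟨h, hsame t ht0 g hg h⟩)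
      · rintro (rfl | rfl | h)
        · exact one_mem _
        · exact Or.inl (by simp [m])
        · rw [← h.2]; exact self_mem_signCentralizer G g
    have h8 : (univ.filter fun g : G => g ∈ signCentralizer G t).card = 8 := by
      rw [← Fintype.card_subtype, ← Nat.card_eq_fintype_card]
      exact hcard t ht0
    rw [e, card_insert_of_notMem, card_insert_of_notMem] at h8
    · omega
    · intro h
      have h0 := (mem_traceZero G).mp (mem_filter.mp h).1
      simp [m, tr, Matrix.SpecialLinearGroup.coe_neg] at h0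
      exact h2 (by linear_combination -h0)
    · simp only [Finset.mem_insert, not_or]
      refine ⟨fun h => neg_ne_self h2 (1 : SL(2, k)) (congrArg Subtype.val h).symm, fun h => ?_⟩
      have h0 := (mem_traceZero G).mp (mem_filter.mp h).1
      simp [tr] at h0
      exact h2 (by linear_combination h0)
  have hS : S.card = 5 := by
    have := card_eq_sum_card_image (signCentralizer G) T
    rw [card_traceZero G hp hneg hx hE, sum_congr rfl hfib, sum_const, smul_eq_mul] at this
    change 30 = S.card * 6 at this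
    omega
  let x : G := ⟨upper 1, hx⟩
  have hx3 : x ^ 3 = 1 := Subtype.ext (by simpa [x] using upper_pow_char (p := 3) (1 : k))
  have hmap : ∀ t : G, (signCentralizer G t).map (MulAut.conj x).toMonoidHom =
      signCentralizer G (x * t * x⁻¹) := by
    intro t
    ext g
    rw [Subgroup.mem_map_equiv, MulAut.conj_symm_apply, mem_signCentralizer, mem_signCentralizer]
    simp only [Subgroup.coe_mul, InvMemClass.coe_inv]
    constructor <;> rintro (h | h)
    · left
      calc (g : SL(2, k)) * (x * t * (x : SL(2, k))⁻¹)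
          = x * (((x : SL(2, k))⁻¹ * g * x) * t) * (x : SL(2, k))⁻¹ := by simp [mul_assoc]
        _ = _ := by rw [h]; simp [mul_assoc]
    · right
      calc (g : SL(2, k)) * (x * t * (x : SL(2, k))⁻¹)
          = x * (((x : SL(2, k))⁻¹ * g * x) * t) * (x : SL(2, k))⁻¹ := by simp [mul_assoc]
        _ = _ := by rw [h]; simp [mul_assoc]
    · left
      calc (x : SL(2, k))⁻¹ * g * x * t
          = (x : SL(2, k))⁻¹ * ((g : SL(2, k)) * (x * t * (x : SL(2, k))⁻¹)) * x := by
            simp [mul_assoc]
        _ = _ := by rw [h]; simp [mul_assoc]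
    · right
      calc (x : SL(2, k))⁻¹ * g * x * t
          = (x : SL(2, k))⁻¹ * ((g : SL(2, k)) * (x * t * (x : SL(2, k))⁻¹)) * x := by
            simp [mul_assoc]
        _ = _ := by rw [h]; simp [mul_assoc]
  let σ : {H // H ∈ S} → {H // H ∈ S} := fun H => ⟨H.1.map (MulAut.conj x).toMonoidHom, by
    obtain ⟨t, ht, e⟩ := Finset.mem_image.mp H.2
    rw [← e, hmap]
    refine mem_image_of_mem _ ((mem_traceZero G).mpr ?_)
    simp [tr_conj, (mem_traceZero G).mp ht]⟩
  have hσ : ∀ H, σ (σ (σ H)) = H := by
    intro H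
    apply Subtype.ext
    simp only [σ, Subgroup.map_map]
    convert Subgroup.map_id H.1 using 2
    ext g
    have : x * (x * (x * g * x⁻¹) * x⁻¹) * x⁻¹ = x ^ 3 * g * (x ^ 3)⁻¹ := by
      simp [pow_succ, mul_assoc]
    simp [MulAut.conj_apply, this, hx3]
  let π : Equiv.Perm {H // H ∈ S} := ⟨σ, fun H => σ (σ H), fun H => hσ H, fun H => hσ H⟩
  obtain ⟨H, hH⟩ := Equiv.Perm.exists_fixed_point_of_prime (p := 3) (n := 1)
    (by simp [hS]) (σ := π) (by ext H : 1; simp [pow_succ, π, hσ])
  have hH' : H.1.map (MulAut.conj x).toMonoidHom = H.1 := congrArg Subtype.val hH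
  obtain ⟨t, ht, e⟩ := Finset.mem_image.mp H.2
  rw [← e, hmap] at hH'
  have ht0 := (mem_traceZero G).mp ht
  have hmem : x * t * x⁻¹ ∈ signCentralizer G t := by
    rw [← hH']; exact self_mem_signCentralizer G _
  have hprod := hpm t ht0 _ (mul_mem (self_mem_signCentralizer G t) hmem)
  have hnot : x ∉ signCentralizer G t := by
    intro hxm
    have h8 := pow_card_eq_one' (G := signCentralizer G t) (x := ⟨x, hxm⟩)
    rw [hcard t ht0] at h8
    have hx8 : x ^ 8 = 1 := by simpa using congrArg Subtype.val h8
    have : x = 1 := by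
      calc x = x * (x ^ 8) * ((x ^ 3) ^ 3)⁻¹ := by rw [hx8, hx3]; simp
        _ = 1 := by rw [← pow_mul, ← pow_succ']; simp
    exact one_ne_zero (upper_injective (show upper (1 : k) = upper 0 by
      simpa [x] using congrArg Subtype.val this))
  have htt : (t : SL(2, k)) * t = -1 := (sq_eq_neg_one_iff h2 _).mpr ht0
  have hti : (t : SL(2, k))⁻¹ = -(t : SL(2, k)) :=
    inv_eq_of_mul_eq_one_right (by rw [mul_neg, htt, neg_neg])
  rcases hprod with h | h | h
  · exfalso
    apply hnot
    rw [mem_signCentralizer]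
    have e' := congrArg Subtype.val (eq_inv_of_mul_eq_one_right h)
    simp only [Subgroup.coe_mul, InvMemClass.coe_inv, hti, mul_inv_eq_iff_eq_mul, neg_mul] at e'
    exact Or.inr e'
  · exfalso
    apply hnot
    rw [mem_signCentralizer]
    have e1 : x * t * x⁻¹ = t⁻¹ * m := eq_inv_mul_of_mul_eq h
    have e' := congrArg Subtype.val e1
    simp only [Subgroup.coe_mul, InvMemClass.coe_inv, hti, m, neg_mul_neg, mul_one,
      mul_inv_eq_iff_eq_mul] at e'
    exact Or.inl e'
  · refine containsPrimeSL_of_entry G hx hx (h := (t : SL(2, k))) t.2 ?_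
    have hd := det_entries (t : SL(2, k))
    have ht1 : (t : SL(2, k)) 1 1 = -(t : SL(2, k)) 0 0 := by
      rw [tr] at ht0; linear_combination ht0
    rw [ht1] at hd
    simp only [Subgroup.coe_mul, InvMemClass.coe_inv, tr, x, upper_inv, Matrix.SpecialLinearGroup.coe_mul,
      coe_upper, Matrix.mul_apply, Fin.sum_univ_two] at h
    simp [ht1] at h
    have h3 : (3 : k) = 0 := by exact_mod_cast CharP.cast_eq_zero k 3
    linear_combination -h - 2 * hd - h3

end Exceptional

/-- **Dickson.** A finite subgroup of `SL(2, k)` containing `upper 1` and not fixing its line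
contains a conjugate of `SL(2, p)`. -/
theorem containsPrimeSL_of_upper (hp : p ≠ 2) (G : Subgroup SL(2, k)) [Finite G]
    (hx : upper (1 : k) ∈ G) (hmove : ∃ g ∈ G, g 1 0 ≠ 0) : ContainsPrimeSL p G := by
  classical
  letI : DecidableEq k := Classical.decEq k
  have h2 := two_ne_zero_char (k := k) hp
  -- adjoin `-1`
  let G' : Subgroup SL(2, k) :=
    { carrier := {g | g ∈ G ∨ -g ∈ G}
      one_mem' := Or.inl (one_mem G)
      mul_mem' := by
        rintro a b (ha | ha) (hb | hb)
        · exact Or.inl (mul_mem ha hb)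
        · exact Or.inr (by simpa using mul_mem ha hb)
        · exact Or.inr (by simpa using mul_mem ha hb)
        · exact Or.inl (by simpa using mul_mem ha hb)
      inv_mem' := by
        rintro a (ha | ha)
        · exact Or.inl (inv_mem ha)
        · refine Or.inr ?_
          have : (-a)⁻¹ = -a⁻¹ := inv_eq_of_mul_eq_one_right (by simp)
          rw [← this]
          exact inv_mem ha }
  haveI : Finite G' := by
    refine Finite.of_surjective (fun u : G × Bool => (if u.2 then
      ⟨u.1.1, Or.inl u.1.2⟩ else ⟨-u.1.1, Or.inr (by simp)⟩ : G')) ?_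
    rintro ⟨g, hg | hg⟩
    · exact ⟨(⟨g, hg⟩, true), rfl⟩
    · exact ⟨(⟨-g, hg⟩, false), Subtype.ext (neg_neg g)⟩
  haveI : Fintype G' := Fintype.ofFinite _
  have hx' : upper (1 : k) ∈ G' := Or.inl hx
  have hm' : (-1 : SL(2, k)) ∈ G' := Or.inr (by simp)
  have hmove' : ∃ g ∈ G', g 1 0 ≠ 0 := hmove.imp fun g hg => ⟨Or.inl hg.1, hg.2⟩
  have key : ContainsPrimeSL p G' := by
    rcases orbit_dichotomy G' hp hm' hx' hmove' with h | h
    · exact containsPrimeSL_of_orbit G' hx' hmove' h
    · exact containsPrimeSL_exceptional G' hp hm' hx' h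
  obtain ⟨t, ht⟩ := key
  refine ⟨t, fun M => ?_⟩
  let H : Subgroup SL(2, ZMod p) :=
    G.comap ((MulAut.conj t⁻¹).toMonoidHom.comp (primeEmb p k))
  have hH : ∀ N, N ∈ H ↔ t⁻¹ * primeEmb p k N * t ∈ G := fun N => by simp [H]
  suffices H = ⊤ from (hH M).mp (this ▸ Subgroup.mem_top M)
  have hodd : Odd p := (Fact.out : p.Prime).odd_of_ne_two hp
  have hin : ∀ u : SL(2, ZMod p), u ^ p = 1 → u ∈ H := by
    intro u hu
    rw [hH]
    rcases ht u with h | h
    · exact h
    · have e : (t⁻¹ * primeEmb p k u * t) ^ p = 1 := by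
        rw [show t⁻¹ * primeEmb p k u * t = t⁻¹ * primeEmb p k u * t⁻¹⁻¹ by rw [inv_inv], conj_pow,
          ← map_pow, hu, map_one, mul_one, mul_inv_cancel]
      have h' := Subgroup.pow_mem G h p
      rw [Odd.neg_pow hodd, e] at h'
      simpa using mul_mem h' h
  exact eq_top_of_upper_lower (hin _ (upper_pow_char 1))
    (hin _ (by rw [lower_pow]; simp))

end Cfsg.Agent.PLocalB
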