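import Mathlib
import Cfsg.Prelude.Def_PLocal
import Cfsg.Agent.PLocalB.DicksonMain

/-!
Sections isomorphic to `Qd(p)`.
-/

set_option autoImplicit false
set_option linter.style.haveILetI false

open scoped MatrixGroups
open Matrix

namespace Cfsg.Agent.PLocalB

variable {p : ℕ} [Fact p.Prime]

/-- The affine transformation with translation `v` and linear part `M`. -/
def aff (v : Fin 2 → ZMod p) (M : SL(2, ZMod p)) : Matrix.SpecialLinearGroup (Fin 3) (ZMod p) :=
  ⟨!![M 0 0, M 0 1, v 0; M 1 0, M 1 1, v 1; 0, 0, 1], by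
    have h := det_entries M
    rw [Matrix.det_fin_three]
    simp
    linear_combination h⟩

theorem coe_aff (v : Fin 2 → ZMod p) (M : SL(2, ZMod p)) :
    (aff v M : Matrix (Fin 3) (Fin 3) (ZMod p)) =
      !![M 0 0, M 0 1, v 0; M 1 0, M 1 1, v 1; 0, 0, 1] := rfl

theorem aff_mul (v w : Fin 2 → ZMod p) (M N : SL(2, ZMod p)) :
    aff v M * aff w N = aff (v + (M : Matrix (Fin 2) (Fin 2) (ZMod p)) *ᵥ w) (M * N) := by
  apply Subtype.ext
  rw [Matrix.SpecialLinearGroup.coe_mul, coe_aff, coe_aff, coe_aff]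
  ext i j
  fin_cases i <;> fin_cases j <;>
    simp [Matrix.mul_apply, Fin.sum_univ_three, Fin.sum_univ_two, Matrix.mulVec, dotProduct] <;> ring

theorem aff_one : aff (0 : Fin 2 → ZMod p) 1 = 1 := by
  apply Subtype.ext
  rw [coe_aff]
  ext i j
  fin_cases i <;> fin_cases j <;> simp [Matrix.one_apply]

theorem aff_mem_qd (v : Fin 2 → ZMod p) (M : SL(2, ZMod p)) : aff v M ∈ qd p :=
  Subgroup.subset_closure ⟨by simp [coe_aff], by simp [coe_aff], by simp [coe_aff]⟩

theorem exists_aff_of_mem_qd {A : Matrix.SpecialLinearGroup (Fin 3) (ZMod p)} (h : A ∈ qd p) :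
    ∃ v M, A = aff v M := by
  induction h using Subgroup.closure_induction with
  | mem A hA =>
    obtain ⟨h0, h1, h2⟩ := hA
    have hd : Matrix.det (A : Matrix (Fin 3) (Fin 3) (ZMod p)) = 1 := A.2
    rw [Matrix.det_fin_three, h0, h1, h2] at hd
    refine ⟨![(A : Matrix (Fin 3) (Fin 3) (ZMod p)) 0 2, (A : Matrix (Fin 3) (Fin 3) (ZMod p)) 1 2],
      ⟨!![(A : Matrix (Fin 3) (Fin 3) (ZMod p)) 0 0, (A : Matrix (Fin 3) (Fin 3) (ZMod p)) 0 1;
        (A : Matrix (Fin 3) (Fin 3) (ZMod p)) 1 0, (A : Matrix (Fin 3) (Fin 3) (ZMod p)) 1 1],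
        by rw [Matrix.det_fin_two_of]; linear_combination hd⟩, ?_⟩
    apply Subtype.ext
    refine Eq.trans ?_ (coe_aff _ _).symm
    ext i j
    fin_cases i <;> fin_cases j <;> simp [h0, h1, h2]
  | one => exact ⟨0, 1, aff_one.symm⟩
  | mul A B _ _ hA hB =>
    obtain ⟨v, M, rfl⟩ := hA
    obtain ⟨w, N, rfl⟩ := hB
    exact ⟨_, _, aff_mul v w M N⟩
  | inv A _ hA =>
    obtain ⟨v, M, rfl⟩ := hA
    refine ⟨-(((M⁻¹ : SL(2, ZMod p)) : Matrix (Fin 2) (Fin 2) (ZMod p)) *ᵥ v), M⁻¹, ?_⟩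
    refine inv_eq_of_mul_eq_one_left ?_
    rw [aff_mul, inv_mul_cancel, neg_add_cancel, aff_one]

theorem neg_one_mulVec_ne (hp : p ≠ 2) {v : Fin 2 → ZMod p} (hv : v ≠ 0) : -v - v ≠ 0 := by
  intro h
  apply hv
  haveI : CharP (ZMod p) p := ZMod.charP p
  have h2 := two_ne_zero_char (k := ZMod p) hp
  ext i
  have := congrFun h i
  simp at this
  exact (mul_eq_zero.mp (show (2 : ZMod p) * v i = 0 by linear_combination -this)).resolve_left h2

/-- A natural module `f : 𝔽_p² → G` normalized by (the image of) a group mapping onto `SL(2, p)`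
gives a section isomorphic to `Qd(p)`. -/
theorem qd_surjective_of_natural (hp : p ≠ 2) {G L : Type*} [Group G] [Finite G] [Group L] [Finite L]
    (ψ : L →* G) (π : L →* SL(2, ZMod p)) (hπ : Function.Surjective π)
    (f : Multiplicative (Fin 2 → ZMod p) →* G) (hf : Function.Injective f)
    (heq : ∀ (l : L) (v : Fin 2 → ZMod p),
      f (Multiplicative.ofAdd ((π l : Matrix (Fin 2) (Fin 2) (ZMod p)) *ᵥ v)) =
        ψ l * f (Multiplicative.ofAdd v) * (ψ l)⁻¹) :
    ∃ (K : Subgroup G) (σ : K →* qd p), Function.Surjective σ ∧ K ≤ ψ.range ⊔ f.range := by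
  classical
  obtain ⟨M, hMtop, hmin⟩ : ∃ M : Subgroup L, M.map π = ⊤ ∧
      ∀ M' : Subgroup L, M'.map π = ⊤ → M' ≤ M → M' = M := by
    obtain ⟨M, hM⟩ := Set.Finite.exists_minimal
      (Set.toFinite {M : Subgroup L | M.map π = ⊤}) ⟨⊤, Subgroup.map_top_of_surjective π hπ⟩
    exact ⟨M, hM.1, fun M' h' hle => le_antisymm hle (hM.2 h' hle)⟩
  -- `ψ M` meets the module trivially
  have hdisj : ∀ m ∈ M, ψ m ∈ f.range → ψ m = 1 ∧ π m = 1 := by
    have htriv : ∀ m ∈ M, ψ m ∈ f.range → π m = 1 := by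
      intro m _ hm
      obtain ⟨u, hu⟩ := hm
      apply Subtype.ext
      refine Matrix.ext_of_mulVec_single fun i => ?_
      rw [Matrix.SpecialLinearGroup.coe_one, Matrix.one_mulVec]
      apply Multiplicative.ofAdd.injective
      apply hf
      rw [heq, ← hu, ← map_mul, mul_comm u, map_mul, mul_inv_cancel_right]
    -- the elements of `M` acting as `±1`
    let D : Subgroup M := (Subgroup.zpowers (-1 : SL(2, ZMod p))).comap (π.comp M.subtype)
    haveI hDn : D.Normal := by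
      refine ⟨fun x hx g => ?_⟩
      simp only [D, Subgroup.mem_comap, MonoidHom.comp_apply, Subgroup.coe_subtype,
        Subgroup.coe_mul, InvMemClass.coe_inv, map_mul, map_inv] at hx ⊢
      obtain ⟨j, hj⟩ := Subgroup.mem_zpowers_iff.mp hx
      rw [← hj]
      refine Subgroup.mem_zpowers_iff.mpr ⟨j, ?_⟩
      have hc : Commute (π g) (-1 : SL(2, ZMod p)) := (Commute.one_right _).neg_right
      rw [(hc.zpow_right j).eq, mul_inv_cancel_right]
    haveI : Fact (Nat.Prime 2) := ⟨Nat.prime_two⟩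
    let T : Sylow 2 D := default
    have hfr := Sylow.normalizer_sup_eq_top (N := D) T
    have hπ' : Function.Surjective (π.comp M.subtype) := by
      intro y
      obtain ⟨m, hm, rfl⟩ := Subgroup.mem_map.mp (hMtop ▸ Subgroup.mem_top y : y ∈ M.map π)
      exact ⟨⟨m, hm⟩, rfl⟩
    -- `T` maps onto `⟨-1⟩`
    let φ : D →* Subgroup.zpowers (-1 : SL(2, ZMod p)) :=
      ((π.comp M.subtype).comp D.subtype).codRestrict _ (fun d => d.2)
    have hφ : Function.Surjective φ := by
      intro y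
      obtain ⟨m, hm⟩ := hπ' y.1
      exact ⟨⟨m, show π (m : L) ∈ _ by rw [show π (m : L) = y.1 from hm]; exact y.2⟩,
        Subtype.ext hm⟩
    have hTφ : (T : Subgroup D).map φ = ⊤ := by
      have hp2 : IsPGroup 2 (Subgroup.zpowers (-1 : SL(2, ZMod p))) := by
        intro y
        refine ⟨1, ?_⟩
        obtain ⟨j, hj⟩ := Subgroup.mem_zpowers_iff.mp y.2
        apply Subtype.ext
        simp only [pow_one, SubmonoidClass.coe_pow, OneMemClass.coe_one]
        rw [← hj, ← zpow_natCast, ← _root_.zpow_mul, mul_comm, _root_.zpow_mul]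
        simp
      have := (T.mapSurjective hφ).3 (Q := ⊤) (hp2.to_subgroup ⊤) le_top
      rw [Sylow.coe_mapSurjective] at this
      exact this.symm
    let NT := Subgroup.normalizer (((T : Subgroup D).map D.subtype : Subgroup M) : Set M)
    have hNT : NT = ⊤ := by
      have hN' : (NT.map M.subtype).map π = ⊤ := by
        rw [eq_top_iff]
        intro y _
        obtain ⟨m, rfl⟩ := hπ' y
        obtain ⟨a, ha, d, hd, rfl⟩ := Subgroup.mem_sup_of_normal_right.mp
          (hfr ▸ Subgroup.mem_top m : m ∈ NT ⊔ D)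
        obtain ⟨t, ht, hφt⟩ := Subgroup.mem_map.mp
          (hTφ ▸ Subgroup.mem_top (φ ⟨d, hd⟩) : φ ⟨d, hd⟩ ∈ (T : Subgroup D).map φ)
        have htN : (t : M) ∈ NT := Subgroup.le_normalizer ⟨t, ht, rfl⟩
        refine ⟨((a * t : M) : L), ⟨a * t, mul_mem ha htN, rfl⟩, ?_⟩
        have : π ((t : M) : L) = π ((d : M) : L) := congrArg Subtype.val hφt
        simp [this]
      have := hmin _ hN' (Subgroup.map_subtype_le _)
      rw [eq_top_iff]
      intro x _
      have hx' : (x : L) ∈ NT.map M.subtype := by rw [this]; exact x.2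
      obtain ⟨y, hy, hyx⟩ := hx'
      rwa [← Subtype.ext (show ((y : M) : L) = (x : L) from hyx)]
    let m1 : Subgroup.zpowers (-1 : SL(2, ZMod p)) := ⟨-1, Subgroup.mem_zpowers _⟩
    obtain ⟨t, ht, hφt⟩ := Subgroup.mem_map.mp
      (hTφ ▸ Subgroup.mem_top m1 : m1 ∈ (T : Subgroup D).map φ)
    have hπt : π ((t : M) : L) = -1 := congrArg Subtype.val hφt
    intro m hm hmU
    refine ⟨?_, htriv m hm hmU⟩
    obtain ⟨u, hu⟩ := hmU
    by_contra hne
    let m' : M := ⟨m, hm⟩
    have hcomm : (t : M) * m' * (t : M)⁻¹ * m'⁻¹ ∈ (T : Subgroup D).map D.subtype := by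
      have hn : ((T : Subgroup D).map D.subtype).Normal := Subgroup.normalizer_eq_top_iff.mp hNT
      have h1 := hn.conj_mem _ (inv_mem (⟨t, ht, rfl⟩ : (t : M) ∈ (T : Subgroup D).map D.subtype)) m'
      rw [mul_assoc (t : M) m', mul_assoc (t : M)]
      exact mul_mem ⟨t, ht, rfl⟩ h1
    obtain ⟨d, hd, hde⟩ := hcomm
    obtain ⟨j, hj⟩ := T.2 ⟨d, hd⟩
    have hd2 : ((d : M) : L) ^ 2 ^ j = 1 := by
      simpa using congrArg (fun w : (T : Subgroup D) => (((w : D) : M) : L)) hj
    have hval : ψ ((d : M) : L) =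
        f (Multiplicative.ofAdd (-u.toAdd - u.toAdd)) := by
      have e := heq ((t : M) : L) u.toAdd
      rw [hπt, ofAdd_toAdd, hu, Matrix.SpecialLinearGroup.coe_neg, Matrix.SpecialLinearGroup.coe_one,
        Matrix.neg_mulVec, Matrix.one_mulVec] at e
      rw [show ((d : M) : L) = ((t : M) : L) * m * ((t : M) : L)⁻¹ * m⁻¹ from congrArg Subtype.val hde]
      simp only [map_mul, map_inv]
      rw [← e, ← hu, ← map_inv, ← map_mul, sub_eq_add_neg, ofAdd_add, ofAdd_neg, ofAdd_toAdd]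
    have hu0 : u.toAdd ≠ 0 := by
      intro h
      apply hne
      rw [← hu, show u = 1 from h, map_one]
    set w := -u.toAdd - u.toAdd with hw
    have h1 : ((2 : ℕ) ^ j) • w = 0 := by
      have := congrArg ψ hd2
      rw [map_pow, map_one, hval, ← map_pow, ← map_one f] at this
      exact hf this
    have hwne := neg_one_mulVec_ne hp hu0
    apply hwne
    have h2 : ((2 : ℕ) : ZMod p) ≠ 0 := by
      exact_mod_cast two_ne_zero_char (k := ZMod p) hp
    rw [← Nat.cast_smul_eq_nsmul (ZMod p), Nat.cast_pow] at h1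
    exact (smul_eq_zero.mp h1).resolve_left (pow_ne_zero _ h2)
  let S : Subgroup (G × qd p) :=
    { carrier := {x | ∃ (v : Fin 2 → ZMod p) (m : L), m ∈ M ∧
        x = (f (Multiplicative.ofAdd v) * ψ m, ⟨aff v (π m), aff_mem_qd v _⟩)}
      one_mem' := ⟨0, 1, one_mem M, Prod.ext (by simp) (Subtype.ext (by simp [aff_one]))⟩
      mul_mem' := by
        rintro _ _ ⟨v, m, hm, rfl⟩ ⟨v', m', hm', rfl⟩
        refine ⟨v + (π m : Matrix (Fin 2) (Fin 2) (ZMod p)) *ᵥ v', m * m', mul_mem hm hm',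
          Prod.ext ?_ (Subtype.ext (by simp [aff_mul]))⟩
        simp only [ofAdd_add, map_mul, heq, Prod.mk_mul_mk]
        group
      inv_mem' := by
        rintro _ ⟨v, m, hm, rfl⟩
        refine ⟨-(((π m⁻¹ : SL(2, ZMod p)) : Matrix (Fin 2) (Fin 2) (ZMod p)) *ᵥ v), m⁻¹,
          inv_mem hm, Prod.ext ?_ (Subtype.ext ?_)⟩
        · rw [Prod.fst_inv, ofAdd_neg, map_inv f, heq, map_inv ψ]
          group
        · simp only [Prod.snd_inv, InvMemClass.coe_inv, map_inv]
          refine inv_eq_of_mul_eq_one_left ?_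
          rw [aff_mul, inv_mul_cancel, neg_add_cancel, aff_one] }
  let pr : S →* G := (MonoidHom.fst G (qd p)).comp S.subtype
  have hpr : Function.Injective pr := by
    rw [← MonoidHom.ker_eq_bot_iff, eq_bot_iff]
    rintro ⟨_, v, m, hm, rfl⟩ hx
    have h1 : f (Multiplicative.ofAdd v) * ψ m = 1 := hx
    have hψ : ψ m ∈ f.range := by
      rw [eq_inv_of_mul_eq_one_right h1]; exact inv_mem ⟨_, rfl⟩
    obtain ⟨hψ1, hπ1⟩ := hdisj m hm hψ
    have hv : v = 0 := by
      rw [hψ1, mul_one, ← map_one f] at h1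
      exact hf h1
    subst hv
    exact Subgroup.mem_bot.mpr (Subtype.ext (Prod.ext (by simpa using hψ1)
      (Subtype.ext (by simp [hπ1, aff_one]))))
  refine ⟨pr.range, ((MonoidHom.snd G (qd p)).comp S.subtype).comp
    (MonoidHom.ofInjective hpr).symm.toMonoidHom, ?_, ?_⟩
  · rw [MonoidHom.coe_comp, MulEquiv.coe_toMonoidHom]
    refine Function.Surjective.comp ?_ (MonoidHom.ofInjective hpr).symm.surjective
    rintro ⟨A, hA⟩
    obtain ⟨v, N, rfl⟩ := exists_aff_of_mem_qd hA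
    obtain ⟨m, hm, rfl⟩ := Subgroup.mem_map.mp (hMtop ▸ Subgroup.mem_top N : N ∈ M.map π)
    exact ⟨⟨_, v, m, hm, rfl⟩, rfl⟩
  · rintro _ ⟨⟨_, v, m, hm, rfl⟩, rfl⟩
    exact mul_mem (Subgroup.mem_sup_right ⟨_, rfl⟩) (Subgroup.mem_sup_left ⟨_, rfl⟩)

end Cfsg.Agent.PLocalB
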