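import Mathlib
import Cfsg.Agent.PLocalB.SL2Dickson

/-!
Two quadratic elements generating a group that is not a `p`-group involve `SL(2, p)` acting
naturally on an invariant subgroup.
-/

set_option autoImplicit false
set_option linter.unusedSectionVars false
set_option linter.style.haveILetI false

open scoped MatrixGroups
open Matrix

namespace Cfsg.Agent.PLocalB

section Nilpotent

variable {K : Type*} [Field K] {M : Type*} [AddCommGroup M] [Module K M]

/-- Submodules `V_i` spanned by the images of the words of length `i` in `a`, `b`. -/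
def wordFiltration (a b : Module.End K M) : ℕ → Submodule K M
  | 0 => ⊤
  | i + 1 => (wordFiltration a b i).map a ⊔ (wordFiltration a b i).map b

theorem wordFiltration_succ_le (a b : Module.End K M) : ∀ i,
    wordFiltration a b (i + 1) ≤ wordFiltration a b i
  | 0 => le_top
  | i + 1 => sup_le_sup (Submodule.map_mono (wordFiltration_succ_le a b i))
      (Submodule.map_mono (wordFiltration_succ_le a b i))

/-- If `a² = b² = 0` and `ab + ba` is nilpotent then words in `a`, `b` of some length vanish. -/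
theorem wordFiltration_eventually_bot (a b : Module.End K M) (ha : a * a = 0) (hb : b * b = 0)
    (hc : IsNilpotent (a * b + b * a)) : ∃ L, wordFiltration a b L = ⊥ := by
  obtain ⟨N, hN⟩ := hc
  have h1 : a * b * (b * a) = 0 := by rw [mul_assoc, ← mul_assoc b, hb, zero_mul, mul_zero]
  have h2 : b * a * (a * b) = 0 := by rw [mul_assoc, ← mul_assoc a, ha, zero_mul, mul_zero]
  have hpow : ∀ n, (a * b + b * a) ^ (n + 1) = (a * b) ^ (n + 1) + (b * a) ^ (n + 1) := by
    intro n
    induction n with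
    | zero => simp
    | succ n ih =>
      rw [pow_succ, ih, add_mul, mul_add, mul_add, pow_succ (a * b) (n + 1),
        pow_succ (b * a) (n + 1)]
      have e1 : (a * b) ^ (n + 1) * (b * a) = 0 := by rw [pow_succ, mul_assoc, h1, mul_zero]
      have e2 : (b * a) ^ (n + 1) * (a * b) = 0 := by rw [pow_succ, mul_assoc, h2, mul_zero]
      rw [e1, e2, add_zero, zero_add]
  have hN' : (a * b) ^ (N + 1) + (b * a) ^ (N + 1) = 0 := by
    rw [← hpow, pow_succ, hN, zero_mul]
  have hba : (b * a) ^ (N + 1) * a = 0 := by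
    rw [pow_succ, mul_assoc, mul_assoc b, ha, mul_zero, mul_zero]
  have hab : (a * b) ^ (N + 1) * b = 0 := by
    rw [pow_succ, mul_assoc, mul_assoc a, hb, mul_zero, mul_zero]
  have e1 : (a * b) ^ (N + 2) = 0 := by
    have : (a * b) ^ (N + 1) * a = 0 := by
      rw [eq_neg_of_add_eq_zero_left hN', neg_mul, hba, neg_zero]
    rw [pow_succ, ← mul_assoc, this, zero_mul]
  have e2 : (b * a) ^ (N + 2) = 0 := by
    have : (b * a) ^ (N + 1) * b = 0 := by
      rw [eq_neg_of_add_eq_zero_right hN', neg_mul, hab, neg_zero]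
    rw [pow_succ, ← mul_assoc, this, zero_mul]
  have hV : ∀ i, wordFiltration a b (2 * (i + 1)) ≤
      LinearMap.range ((a * b) ^ (i + 1)) ⊔ LinearMap.range ((b * a) ^ (i + 1)) := by
    intro i
    have hmap : ∀ (f g : Module.End K M), (LinearMap.range g).map f = LinearMap.range (f * g) :=
      fun f g => (LinearMap.range_comp g f).symm
    have ea : ∀ {P : Submodule K M}, (P.map a).map a = ⊥ := fun {P} => by
      rw [← Submodule.map_comp, show a ∘ₗ a = 0 from ha, Submodule.map_zero]
    have eb : ∀ {P : Submodule K M}, (P.map b).map b = ⊥ := fun {P} => by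
      rw [← Submodule.map_comp, show b ∘ₗ b = 0 from hb, Submodule.map_zero]
    have step : ∀ j, wordFiltration a b (j + 2) =
        ((wordFiltration a b j).map b).map a ⊔ ((wordFiltration a b j).map a).map b := by
      intro j
      simp only [wordFiltration, Submodule.map_sup, ea, eb, bot_sup_eq, sup_bot_eq]
    induction i with
    | zero =>
      rw [step 0]
      simp only [wordFiltration, Nat.zero_add, pow_one, Submodule.map_top, hmap]
      rfl
    | succ i ih =>
      rw [show 2 * (i + 1 + 1) = 2 * (i + 1) + 2 by ring, step]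
      refine sup_le ?_ ?_
      · refine (Submodule.map_mono (Submodule.map_mono ih)).trans ?_
        rw [Submodule.map_sup, Submodule.map_sup, hmap, hmap, hmap, hmap]
        refine sup_le (le_sup_of_le_left (le_of_eq ?_)) (le_of_eq_of_le ?_ bot_le)
        · rw [pow_succ' _ (i + 1), mul_assoc]
        · rw [LinearMap.range_eq_bot, ← mul_assoc, pow_succ' _ i, ← mul_assoc, mul_assoc a b (b * a),
            ← mul_assoc b, hb, zero_mul, mul_zero, zero_mul]
      · refine (Submodule.map_mono (Submodule.map_mono ih)).trans ?_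
        rw [Submodule.map_sup, Submodule.map_sup, hmap, hmap, hmap, hmap]
        refine sup_le (le_of_eq_of_le ?_ bot_le) (le_sup_of_le_right (le_of_eq ?_))
        · rw [LinearMap.range_eq_bot, ← mul_assoc, pow_succ' _ i, ← mul_assoc, mul_assoc b a (a * b),
            ← mul_assoc a, ha, zero_mul, mul_zero, zero_mul]
        · rw [pow_succ' _ (i + 1), mul_assoc]
  refine ⟨2 * (N + 1 + 1), eq_bot_iff.mpr ((hV (N + 1)).trans ?_)⟩
  rw [e1, e2, LinearMap.range_zero, sup_bot_eq]

theorem pow_char_pow_eq_one_of_nilpotent {p : ℕ} [Fact p.Prime] [CharP K p] [Nontrivial M]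
    (u : Module.End K M) {L : ℕ} (h : (u - 1) ^ L = 0) : u ^ (p ^ L) = 1 := by
  haveI : CharP (Module.End K M) p :=
    charP_of_injective_algebraMap (R := K) (A := Module.End K M) (RingHom.injective _) p
  have h1 : (u - 1) ^ (p ^ L) = 0 := pow_eq_zero_of_le (Nat.lt_pow_self (Fact.out : p.Prime).one_lt).le h
  rw [sub_pow_char_pow_of_commute p L (Commute.one_right u), one_pow, sub_eq_zero] at h1
  exact h1

theorem pow_char_pow_eq_one_of_filtration {p : ℕ} [Fact p.Prime] [CharP K p] [Nontrivial M]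
    {X : Type*} [Group X] (ρ : X →* Module.End K M) (x y : X)
    (hgen : Subgroup.closure ({x, y} : Set X) = ⊤) (hX : IsOfFinOrder x) (hY : IsOfFinOrder y)
    {L : ℕ} (hL : wordFiltration (ρ x - 1) (ρ y - 1) L = ⊥) (z : X) : ρ z ^ (p ^ L) = 1 := by
  set a := ρ x - 1
  set b := ρ y - 1
  let P : X → Prop := fun z => ∀ i, ∀ v ∈ wordFiltration a b i,
    ρ z v - v ∈ wordFiltration a b (i + 1)
  have hmul : ∀ z w, P z → P w → P (z * w) := by
    intro z w hz hw i v hv
    have h1 := hw i v hv
    have h2 := hz i (ρ w v) (by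
      have := Submodule.add_mem _ (wordFiltration_succ_le a b i h1) hv
      simpa using this)
    have := Submodule.add_mem _ h2 h1
    rw [map_mul, Module.End.mul_apply]
    simpa using this
  have hP : ∀ z, P z := by
    intro z
    have hmem : z ∈ Submonoid.closure ({x, y} : Set X) := by
      have hinv : ∀ u : X, u ∈ ({x, y} : Set X) → u⁻¹ ∈ Submonoid.closure ({x, y} : Set X) := by
        intro u hu
        have hf : IsOfFinOrder u := by rcases hu with rfl | rfl <;> assumption
        have : u⁻¹ ∈ Submonoid.powers u :=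
          (hf.mem_powers_iff_mem_zpowers).mpr (Subgroup.inv_mem _ (Subgroup.mem_zpowers u))
        exact (Submonoid.powers_le.mpr (Submonoid.subset_closure hu)) this
      have hz : z ∈ Subgroup.closure ({x, y} : Set X) := hgen ▸ Subgroup.mem_top z
      induction hz using Subgroup.closure_induction'' with
      | mem u hu => exact Submonoid.subset_closure hu
      | inv_mem u hu => exact hinv u hu
      | one => exact one_mem _
      | mul u v _ _ hu hv => exact mul_mem hu hv
    induction hmem using Submonoid.closure_induction with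
    | mem u hu =>
      rcases hu with rfl | rfl
      · intro i v hv
        exact Submodule.mem_sup_left ⟨v, hv, rfl⟩
      · intro i v hv
        exact Submodule.mem_sup_right ⟨v, hv, rfl⟩
    | one => intro i v hv; simp
    | mul u v _ _ hu hv => exact hmul u v hu hv
  refine pow_char_pow_eq_one_of_nilpotent _ ?_
  have key : ∀ i v, ((ρ z - 1) ^ i) v ∈ wordFiltration a b i := by
    intro i
    induction i with
    | zero => intro v; trivial
    | succ i ih =>
      intro v
      rw [pow_succ', Module.End.mul_apply]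
      exact hP z i _ (ih v)
  ext v
  have := key L v
  rw [hL, Submodule.mem_bot] at this
  exact this

end Nilpotent

theorem exists_ne_zero_eigen_of_not_nilpotent {k : Type*} [Field k] [IsAlgClosed k] {n : ℕ}
    (C : Matrix (Fin n) (Fin n) k) (hC : ¬ IsNilpotent C) :
    ∃ μ : k, μ ≠ 0 ∧ ∃ e : Fin n → k, e ≠ 0 ∧ C *ᵥ e = μ • e := by
  by_contra hno
  push Not at hno
  refine hC ⟨n, ?_⟩
  have hs : C.charpoly.Splits := IsAlgClosed.splits _
  have h0 : ∀ r ∈ C.charpoly.roots, r = 0 := by
    intro r hr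
    by_contra hr0
    obtain ⟨v, hv⟩ := ((Module.End.hasEigenvalue_iff_isRoot_charpoly (Matrix.toLin' C) r).mpr (by
      rw [Matrix.charpoly_toLin']; exact Polynomial.isRoot_of_mem_roots hr)).exists_hasEigenvector
    exact hno r hr0 v hv.2 (by simpa [Matrix.toLin'_apply] using hv.apply_eq_smul)
  have hcp : C.charpoly = Polynomial.X ^ n := by
    rw [hs.eq_prod_roots_of_monic C.charpoly_monic, Multiset.eq_replicate_card.mpr h0,
      ← hs.natDegree_eq_card_roots, Matrix.charpoly_natDegree_eq_dim]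
    simp
  have := Matrix.aeval_self_charpoly C
  rwa [hcp, map_pow, Polynomial.aeval_X] at this

section Main

variable {p : ℕ} [Fact p.Prime]

/-- Casting a matrix over the prime field into an algebra over it. -/
theorem mapMatrix_mulVec_natural {k : Type*} [Field k] [Algebra (ZMod p) k] {n : ℕ}
    (A : Matrix (Fin n) (Fin n) (ZMod p)) (v : Fin n → k) (ℓ : k →ₗ[ZMod p] ZMod p) (i : Fin n) :
    ℓ (((algebraMap (ZMod p) k).mapMatrix A *ᵥ v) i) = (A *ᵥ fun j => ℓ (v j)) i := by
  simp only [RingHom.mapMatrix_apply, Matrix.mulVec, dotProduct, Matrix.map_apply, map_sum]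
  exact Finset.sum_congr rfl fun j _ => by rw [← Algebra.smul_def, map_smul, smul_eq_mul]

/-- Quadratic pairs, matrix form. -/
theorem quad_pair_matrix (hp : p ≠ 2) {n : ℕ} {X : Type*} [Group X] [Finite X]
    (ρ : X →* Matrix (Fin n) (Fin n) (ZMod p)) (x y : X)
    (hgen : Subgroup.closure ({x, y} : Set X) = ⊤) (hx : (ρ x - 1) * (ρ x - 1) = 0)
    (hy : (ρ y - 1) * (ρ y - 1) = 0) (hnp : ¬ ∀ z : X, ∃ j, ρ z ^ (p ^ j) = 1) :
    ∃ (L : Subgroup X) (π : L →* SL(2, ZMod p)) (f : (Fin 2 → ZMod p) →ₗ[ZMod p] (Fin n → ZMod p)),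
      Function.Surjective π ∧ Function.Injective f ∧
        ∀ (l : L) (v : Fin 2 → ZMod p), f ((π l : Matrix (Fin 2) (Fin 2) (ZMod p)) *ᵥ v) =
          ρ l *ᵥ f v := by
  classical
  have hn : 0 < n := by
    rcases Nat.eq_zero_or_pos n with h | h
    · subst h
      exact absurd (fun z => ⟨0, Subsingleton.elim _ _⟩) hnp
    · exact h
  haveI : Nonempty (Fin n) := ⟨⟨0, hn⟩⟩
  have hc : ¬ IsNilpotent ((ρ x - 1) * (ρ y - 1) + (ρ y - 1) * (ρ x - 1)) := by
    intro h
    apply hnp
    let e := (Matrix.toLinAlgEquiv' : Matrix (Fin n) (Fin n) (ZMod p) ≃ₐ[ZMod p] _)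
    let σ : X →* Module.End (ZMod p) (Fin n → ZMod p) :=
      (e.toAlgHom.toRingHom.toMonoidHom).comp ρ
    have hσ : ∀ u, σ u = e (ρ u) := fun u => rfl
    have ha : (σ x - 1) * (σ x - 1) = 0 := by
      rw [hσ, ← map_one e, ← map_sub, ← map_mul, hx, map_zero]
    have hb : (σ y - 1) * (σ y - 1) = 0 := by
      rw [hσ, ← map_one e, ← map_sub, ← map_mul, hy, map_zero]
    have hn' : IsNilpotent ((σ x - 1) * (σ y - 1) + (σ y - 1) * (σ x - 1)) := by
      simp only [hσ, ← map_one e, ← map_sub, ← map_mul, ← map_add]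
      exact h.map e
    obtain ⟨L, hL⟩ := wordFiltration_eventually_bot _ _ ha hb hn'
    intro z
    refine ⟨L, e.injective ?_⟩
    rw [map_pow, map_one, ← hσ]
    exact pow_char_pow_eq_one_of_filtration σ x y hgen (isOfFinOrder_of_finite x)
      (isOfFinOrder_of_finite y) hL z
  let k := AlgebraicClosure (ZMod p)
  haveI : CharP k p := charP_of_injective_algebraMap (RingHom.injective (algebraMap (ZMod p) k)) p
  let ι : Matrix (Fin n) (Fin n) (ZMod p) →+* Matrix (Fin n) (Fin n) k :=
    (algebraMap (ZMod p) k).mapMatrix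
  have hι : Function.Injective ι := fun A B h => by
    ext i j
    exact (algebraMap (ZMod p) k).injective (congrFun (congrFun h i) j)
  set A := ι (ρ x - 1) with hA
  set B := ι (ρ y - 1) with hB
  have hAA : A * A = 0 := by rw [hA, ← map_mul, hx, map_zero]
  have hBB : B * B = 0 := by rw [hB, ← map_mul, hy, map_zero]
  obtain ⟨μ, hμ, e, he0, he⟩ := exists_ne_zero_eigen_of_not_nilpotent (A * B + B * A) (by
    intro h
    apply hc
    rw [← IsNilpotent.map_iff hι]
    simpa [hA, hB] using h)
  obtain ⟨v, hv0, hcv, hav⟩ : ∃ v : Fin n → k, v ≠ 0 ∧ (A * B + B * A) *ᵥ v = μ • v ∧ A *ᵥ v = 0 := by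
    by_cases h : A *ᵥ e = 0
    · exact ⟨e, he0, he, h⟩
    · refine ⟨A *ᵥ e, h, ?_, by rw [Matrix.mulVec_mulVec, hAA, Matrix.zero_mulVec]⟩
      have hcomm : (A * B + B * A) * A = A * (A * B + B * A) := by
        rw [add_mul, mul_add, mul_assoc B A A, hAA, mul_zero, add_zero, ← mul_assoc A A B, hAA,
          zero_mul, zero_add, mul_assoc]
      rw [Matrix.mulVec_mulVec, hcomm, ← Matrix.mulVec_mulVec, he, Matrix.mulVec_smul]
  set f1 : Fin n → k := μ • v with hf1
  set f2 : Fin n → k := B *ᵥ v with hf2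
  have hA1 : A *ᵥ f1 = 0 := by rw [hf1, Matrix.mulVec_smul, hav, smul_zero]
  have hA2 : A *ᵥ f2 = f1 := by
    rw [Matrix.add_mulVec, ← Matrix.mulVec_mulVec, ← Matrix.mulVec_mulVec, hav,
      Matrix.mulVec_zero, add_zero] at hcv
    exact hcv
  have hB1 : B *ᵥ f1 = μ • f2 := by rw [hf1, Matrix.mulVec_smul]
  have hB2 : B *ᵥ f2 = 0 := by rw [hf2, Matrix.mulVec_mulVec, hBB, Matrix.zero_mulVec]
  let F : (Fin 2 → k) →ₗ[k] (Fin n → k) :=
    { toFun := fun w => w 0 • f1 + w 1 • f2
      map_add' := fun w w' => by simp only [Pi.add_apply, add_smul]; abel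
      map_smul' := fun c w => by simp [smul_add, smul_smul] }
  have hF : ∀ w, F w = w 0 • f1 + w 1 • f2 := fun w => rfl
  have hf1ne : f1 ≠ 0 := smul_ne_zero hμ hv0
  have hFinj : Function.Injective F := by
    rw [← LinearMap.ker_eq_bot, LinearMap.ker_eq_bot']
    intro w hw
    rw [hF] at hw
    have h1 : w 1 • f1 = 0 := by
      have := congrArg (A *ᵥ ·) hw
      simpa [Matrix.mulVec_add, Matrix.mulVec_smul, hA1, hA2] using this
    have h1' : w 1 = 0 := (smul_eq_zero.mp h1).resolve_right hf1ne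
    rw [h1', zero_smul, add_zero] at hw
    ext i
    fin_cases i
    · exact (smul_eq_zero.mp hw).resolve_right hf1ne
    · exact h1'
  let ρk : X →* Matrix (Fin n) (Fin n) k := ι.toMonoidHom.comp ρ
  have hρk : ∀ z, ρk z = ι (ρ z) := fun z => rfl
  let X' : Subgroup X :=
    { carrier := {z | ∃ M : SL(2, k), ∀ w : Fin 2 → k,
        ρk z *ᵥ F w = F ((M : Matrix (Fin 2) (Fin 2) k) *ᵥ w)}
      one_mem' := ⟨1, fun w => by simp⟩
      mul_mem' := by
        rintro a b ⟨M, hM⟩ ⟨N, hN⟩
        refine ⟨M * N, fun w => ?_⟩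
        rw [map_mul, ← Matrix.mulVec_mulVec, hN, hM, Matrix.mulVec_mulVec,
          Matrix.SpecialLinearGroup.coe_mul]
      inv_mem' := by
        rintro a ⟨M, hM⟩
        refine ⟨M⁻¹, fun w => ?_⟩
        have h := hM (((M⁻¹ : SL(2, k)) : Matrix (Fin 2) (Fin 2) k) *ᵥ w)
        rw [Matrix.mulVec_mulVec w, ← Matrix.SpecialLinearGroup.coe_mul, mul_inv_cancel,
          Matrix.SpecialLinearGroup.coe_one, Matrix.one_mulVec] at h
        rw [← h, Matrix.mulVec_mulVec, ← map_mul, inv_mul_cancel, map_one, Matrix.one_mulVec] }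
  have hxX : ∀ w : Fin 2 → k, ρk x *ᵥ F w = F ((upper (1 : k) : Matrix (Fin 2) (Fin 2) k) *ᵥ w) := by
    intro w
    have : ρk x = A + 1 := by rw [hρk, hA, map_sub, map_one, sub_add_cancel]
    rw [this, Matrix.add_mulVec, Matrix.one_mulVec, hF, Matrix.mulVec_add, Matrix.mulVec_smul A (w 0) f1,
      Matrix.mulVec_smul A (w 1) f2, hA1, hA2, hF]
    simp [Matrix.mulVec, dotProduct, Fin.sum_univ_two, upper]
    module
  have hyX : ∀ w : Fin 2 → k, ρk y *ᵥ F w = F ((lower μ : Matrix (Fin 2) (Fin 2) k) *ᵥ w) := by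
    intro w
    have : ρk y = B + 1 := by rw [hρk, hB, map_sub, map_one, sub_add_cancel]
    rw [this, Matrix.add_mulVec, Matrix.one_mulVec, hF, Matrix.mulVec_add, Matrix.mulVec_smul B (w 0) f1,
      Matrix.mulVec_smul B (w 1) f2, hB1, hB2, hF]
    simp [Matrix.mulVec, dotProduct, Fin.sum_univ_two, lower]
    module
  have hX' : ∀ z, z ∈ X' := by
    intro z
    have : Subgroup.closure ({x, y} : Set X) ≤ X' := by
      rw [Subgroup.closure_le]
      rintro u (rfl | rfl)
      · exact ⟨_, hxX⟩
      · exact ⟨_, hyX⟩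
    exact this (hgen ▸ Subgroup.mem_top z)
  choose M hM using hX'
  have huniq : ∀ M N : SL(2, k), (∀ w, F ((M : Matrix (Fin 2) (Fin 2) k) *ᵥ w) =
      F ((N : Matrix (Fin 2) (Fin 2) k) *ᵥ w)) → M = N := fun M N h =>
    Subtype.ext (Matrix.ext_of_mulVec_single fun i => hFinj (h _))
  let θ : X →* SL(2, k) :=
    { toFun := M
      map_one' := huniq _ _ fun w => by rw [← hM]; simp
      map_mul' := fun a b => huniq _ _ fun w => by
        rw [← hM, map_mul, ← Matrix.mulVec_mulVec, hM, hM, Matrix.mulVec_mulVec,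
          Matrix.SpecialLinearGroup.coe_mul] }
  have hθ : ∀ z w, ρk z *ᵥ F w = F ((θ z : Matrix (Fin 2) (Fin 2) k) *ᵥ w) := hM
  have hθx : θ x = upper 1 := huniq _ _ fun w => by rw [← hθ, hxX]
  have hθy : θ y = lower μ := huniq _ _ fun w => by rw [← hθ, hyX]
  haveI : Finite θ.range := inferInstanceAs (Finite (Set.range θ))
  obtain ⟨t, ht⟩ := containsPrimeSL_of_upper (p := p) hp θ.range ⟨x, hθx⟩
    ⟨lower μ, ⟨y, hθy⟩, by simp [lower, hμ]⟩
  let φ : SL(2, ZMod p) →* SL(2, k) := (MulAut.conj t⁻¹).toMonoidHom.comp (primeEmb p k)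
  have hφ : ∀ N, φ N = t⁻¹ * primeEmb p k N * t := fun N => by simp [φ]
  have hφinj : Function.Injective φ := (MulAut.conj t⁻¹).injective.comp primeEmb_injective
  let L : Subgroup X := φ.range.comap θ
  let π : L →* SL(2, ZMod p) :=
    (MonoidHom.ofInjective hφinj).symm.toMonoidHom.comp (θ.subgroupComap φ.range)
  have hπ : ∀ l : L, φ (π l) = θ l := by
    intro l
    have := MonoidHom.apply_ofInjective_symm hφinj (θ.subgroupComap φ.range l)
    exact this
  have hπs : Function.Surjective π := by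
    intro N
    obtain ⟨z, hz⟩ := ht N
    have hzN : θ z = φ N := hz.trans (hφ N).symm
    refine ⟨⟨z, MonoidHom.mem_range.mpr ⟨N, hzN.symm⟩⟩, hφinj ?_⟩
    exact (hπ _).trans hzN
  -- a functional making the natural module visible over the prime field
  set ti : Matrix (Fin 2) (Fin 2) k := ((t⁻¹ : SL(2, k)) : Matrix (Fin 2) (Fin 2) k) with hti
  set cst : (Fin 2 → ZMod p) → (Fin 2 → k) := fun u i => algebraMap (ZMod p) k (u i) with hcst
  have hne : ti *ᵥ cst (Pi.single 0 1) ≠ 0 := by
    intro h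
    have := congrArg ((t : Matrix (Fin 2) (Fin 2) k) *ᵥ ·) h
    beta_reduce at this
    rw [hti, Matrix.mulVec_mulVec, ← Matrix.SpecialLinearGroup.coe_mul, mul_inv_cancel,
      Matrix.SpecialLinearGroup.coe_one, Matrix.one_mulVec, Matrix.mulVec_zero] at this
    have := congrFun this 0
    simp [hcst] at this
  obtain ⟨i0, hi0⟩ : ∃ i, F (ti *ᵥ cst (Pi.single 0 1)) i ≠ 0 := by
    by_contra h
    push Not at h
    exact hne (hFinj (by rw [map_zero]; exact funext h))
  obtain ⟨ℓ, hℓ⟩ : ∃ ℓ : k →ₗ[ZMod p] ZMod p, ℓ (F (ti *ᵥ cst (Pi.single 0 1)) i0) ≠ 0 := by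
    by_contra h
    push Not at h
    exact hi0 ((Module.forall_dual_apply_eq_zero_iff (ZMod p) _).mp h)
  let f : (Fin 2 → ZMod p) →ₗ[ZMod p] (Fin n → ZMod p) :=
    { toFun := fun u i => ℓ (F (ti *ᵥ cst u) i)
      map_add' := fun u u' => by
        have : cst (u + u') = cst u + cst u' := by ext i; simp [hcst]
        ext i
        simp only [this, Matrix.mulVec_add, map_add, Pi.add_apply]
      map_smul' := fun c u => by
        have : cst (c • u) = algebraMap (ZMod p) k c • cst u := by ext i; simp [hcst]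
        ext i
        simp only [this, Matrix.mulVec_smul, map_smul, Pi.smul_apply, algebraMap_smul,
          LinearMap.map_smul_of_tower, RingHom.id_apply] }
  have hf : ∀ u i, f u i = ℓ (F (ti *ᵥ cst u) i) := fun u i => rfl
  have hequiv : ∀ (l : L) (u : Fin 2 → ZMod p),
      f ((π l : Matrix (Fin 2) (Fin 2) (ZMod p)) *ᵥ u) = ρ l *ᵥ f u := by
    intro l u
    ext i
    have e1 : cst ((π l : Matrix (Fin 2) (Fin 2) (ZMod p)) *ᵥ u) =
        ((primeEmb p k (π l)) : Matrix (Fin 2) (Fin 2) k) *ᵥ cst u := by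
      ext j
      simp only [hcst, Matrix.mulVec, dotProduct, primeEmb_apply, map_sum, map_mul,
        Subsingleton.elim (ZMod.castHom dvd_rfl k) (algebraMap (ZMod p) k)]
    have e2 : ti *ᵥ cst ((π l : Matrix (Fin 2) (Fin 2) (ZMod p)) *ᵥ u) =
        (θ l : Matrix (Fin 2) (Fin 2) k) *ᵥ (ti *ᵥ cst u) := by
      rw [e1, Matrix.mulVec_mulVec, Matrix.mulVec_mulVec, ← hπ, hφ, hti,
        ← Matrix.SpecialLinearGroup.coe_mul, ← Matrix.SpecialLinearGroup.coe_mul]
      simp [mul_assoc]
    rw [hf, e2, ← hθ, hρk]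
    exact mapMatrix_mulVec_natural (ρ l) _ ℓ i
  refine ⟨L, π, f, hπs, ?_, hequiv⟩
  rw [← LinearMap.ker_eq_bot, LinearMap.ker_eq_bot']
  intro u hu
  have hinv : ∀ (N : SL(2, ZMod p)) w, f w = 0 →
      f ((N : Matrix (Fin 2) (Fin 2) (ZMod p)) *ᵥ w) = 0 := by
    intro N w hw
    obtain ⟨l, rfl⟩ := hπs N
    rw [hequiv, hw, Matrix.mulVec_zero]
  have hbad : f (Pi.single 0 1) ≠ 0 := fun h => hℓ (by simpa [hf] using congrFun h i0)
  by_contra hu0
  apply hbad
  obtain ⟨c, hc0, hcu⟩ : ∃ c : ZMod p, c ≠ 0 ∧ f (c • Pi.single (0 : Fin 2) 1) = 0 := by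
    by_cases h1 : u 1 = 0
    · refine ⟨u 0, fun h0 => hu0 (funext fun i => by fin_cases i <;> assumption), ?_⟩
      have : u = u 0 • Pi.single (0 : Fin 2) (1 : ZMod p) := by
        ext i; fin_cases i <;> simp [h1]
      rwa [← this]
    · refine ⟨u 1, h1, ?_⟩
      have e : ((upper (1 : ZMod p)) : Matrix (Fin 2) (Fin 2) (ZMod p)) *ᵥ u - u =
          u 1 • Pi.single (0 : Fin 2) (1 : ZMod p) := by
        ext i; fin_cases i <;> simp [upper, Matrix.mulVec, dotProduct, Fin.sum_univ_two]
      rw [← e, map_sub, hinv _ u hu, hu, sub_zero]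
  rw [map_smul] at hcu
  exact (smul_eq_zero.mp hcu).resolve_left hc0

/-- Quadratic pairs acting on an additive elementary abelian group. -/
theorem quad_pair_addEnd (hp : p ≠ 2) {M : Type*} [AddCommGroup M] [Finite M]
    (hM : ∀ m : M, p • m = 0) {X : Type*} [Group X] [Finite X] (α : X →* AddMonoid.End M) (x y : X)
    (hgen : Subgroup.closure ({x, y} : Set X) = ⊤)
    (hx : ∀ w, α x (α x w - w) = α x w - w) (hy : ∀ w, α y (α y w - w) = α y w - w)
    (hnp : ¬ ∀ z : X, ∃ j, α z ^ (p ^ j) = 1) :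
    ∃ (L : Subgroup X) (π : L →* SL(2, ZMod p)) (f : (Fin 2 → ZMod p) →+ M),
      Function.Surjective π ∧ Function.Injective f ∧
        ∀ (l : L) (v : Fin 2 → ZMod p),
          f ((π l : Matrix (Fin 2) (Fin 2) (ZMod p)) *ᵥ v) = α l (f v) := by
  classical
  haveI : Module (ZMod p) M := AddCommGroup.zmodModule hM
  haveI : Module.Finite (ZMod p) M := Module.Finite.of_finite
  let σ : X →* Module.End (ZMod p) M :=
    { toFun := fun z => (α z : M →+ M).toZModLinearMap p
      map_one' := LinearMap.ext fun w => show α 1 w = w by rw [map_one]; rfl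
      map_mul' := fun a b => LinearMap.ext fun w => show α (a * b) w = α a (α b w) by
        rw [map_mul]; rfl }
  have hσ : ∀ (z : X) (w : M), σ z w = α z w := fun z w => rfl
  let bas := Module.finBasis (ZMod p) M
  let E := LinearMap.toMatrixAlgEquiv bas
  let ρ : X →* Matrix _ _ (ZMod p) := E.toAlgHom.toRingHom.toMonoidHom.comp σ
  have hρ : ∀ z, ρ z = E (σ z) := fun z => rfl
  have quad : ∀ z : X, (∀ w, α z (α z w - w) = α z w - w) → (ρ z - 1) * (ρ z - 1) = 0 := by
    intro z hz
    rw [hρ, ← map_one E, ← map_sub, ← map_mul, ← map_zero E]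
    congr 1
    refine LinearMap.ext fun w => ?_
    simp only [Module.End.mul_apply, LinearMap.sub_apply, Module.End.one_apply, LinearMap.zero_apply,
      hσ]
    rw [hz, sub_self]
  obtain ⟨L, π, f, hs, hi, he⟩ := quad_pair_matrix hp ρ x y hgen (quad x hx) (quad y hy) (by
    intro h
    apply hnp
    intro z
    obtain ⟨j, hj⟩ := h z
    refine ⟨j, ?_⟩
    rw [hρ, ← map_pow, ← map_one E] at hj
    have h' := E.injective hj
    rw [← map_pow] at h'
    refine DFunLike.ext _ _ fun w => ?_
    have := LinearMap.congr_fun h' w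
    rw [hσ, map_pow] at this
    exact this)
  let g : (Fin 2 → ZMod p) →ₗ[ZMod p] M := bas.equivFun.symm.toLinearMap ∘ₗ f
  refine ⟨L, π, g.toAddMonoidHom, hs, ?_, fun l v => ?_⟩
  · exact fun a b h => hi (bas.equivFun.symm.injective h)
  · change bas.equivFun.symm (f _) = α l (bas.equivFun.symm (f v))
    rw [← hσ, he, LinearEquiv.symm_apply_eq]
    have := LinearMap.toMatrix_mulVec_repr bas bas (σ l) (bas.equivFun.symm (f v))
    rw [← Module.Basis.equivFun_apply, LinearEquiv.apply_symm_apply] at this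
    exact this

/-- Quadratic pairs acting on an elementary abelian group. -/
theorem quad_pair_mulAut (hp : p ≠ 2) {W : Type*} [CommGroup W] [Finite W]
    (hW : ∀ w : W, w ^ p = 1) {X : Type*} [Group X] [Finite X] (α : X →* MulAut W) (x y : X)
    (hgen : Subgroup.closure ({x, y} : Set X) = ⊤)
    (hx : ∀ w, α x (α x w / w) = α x w / w) (hy : ∀ w, α y (α y w / w) = α y w / w)
    (hnp : ¬ ∀ z : X, ∃ j, α z ^ (p ^ j) = 1) :
    ∃ (L : Subgroup X) (π : L →* SL(2, ZMod p)) (f : Multiplicative (Fin 2 → ZMod p) →* W),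
      Function.Surjective π ∧ Function.Injective f ∧
        ∀ (l : L) (v : Fin 2 → ZMod p),
          f (Multiplicative.ofAdd ((π l : Matrix (Fin 2) (Fin 2) (ZMod p)) *ᵥ v)) =
            α l (f (Multiplicative.ofAdd v)) := by
  let α' : X →* AddMonoid.End (Additive W) :=
    { toFun := fun z => MonoidHom.toAdditive (α z).toMonoidHom
      map_one' := AddMonoidHom.ext fun w => show Additive.ofMul (α 1 w.toMul) = w by
        rw [map_one]; rfl
      map_mul' := fun a b => AddMonoidHom.ext fun w =>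
        show Additive.ofMul (α (a * b) w.toMul) = Additive.ofMul (α a (α b w.toMul)) by
          rw [map_mul]; rfl }
  obtain ⟨L, π, f, hs, hi, he⟩ := quad_pair_addEnd (M := Additive W) hp
    (fun m => congrArg Additive.ofMul (hW m.toMul)) α' x y hgen
    (fun w => congrArg Additive.ofMul (hx w.toMul)) (fun w => congrArg Additive.ofMul (hy w.toMul))
    (fun h => hnp fun z => by
      obtain ⟨j, hj⟩ := h z
      refine ⟨j, ?_⟩
      ext w
      rw [← map_pow] at hj ⊢
      exact congrArg Additive.toMul (DFunLike.congr_fun hj (Additive.ofMul w)))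
  exact ⟨L, π, AddMonoidHom.toMultiplicativeLeft f, hs,
    fun a b h => Multiplicative.toAdd.injective (hi (Additive.toMul.injective h)),
    fun l v => congrArg Additive.toMul (he l v)⟩

end Main

end Cfsg.Agent.PLocalB
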