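import Mathlib
import Cfsg.Prelude.Def_PLocal
import Cfsg.Agent.PLocalB.QuadPair
import Cfsg.Agent.Lib.Involution.BaerSuzuki
import Cfsg.Agent.Lib.Thompson.Cores

/-!
Quadratic action and sections isomorphic to `SL(2, p)`.
-/

set_option autoImplicit false
set_option linter.style.haveILetI false

open scoped MatrixGroups commutatorElement
open Matrix

namespace Cfsg.Agent.PLocalB

/-- A surjection from a subgroup gives a section. -/
theorem exists_section_of_surjective {G Q : Type*} [Group G] [Group Q] (K : Subgroup G) (π : K →* Q)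
    (hπ : Function.Surjective π) :
    ∃ (L : Subgroup G) (_ : (L.subgroupOf K).Normal), Nonempty ((K ⧸ L.subgroupOf K) ≃* Q) := by
  have e : (π.ker.map K.subtype).subgroupOf K = π.ker :=
    Subgroup.comap_map_eq_self_of_injective K.subtype_injective _
  haveI hN : ((π.ker.map K.subtype).subgroupOf K).Normal := by rw [e]; infer_instance
  exact ⟨π.ker.map K.subtype, hN,
    ⟨(QuotientGroup.quotientMulEquivOfEq e).trans (QuotientGroup.quotientKerEquivOfSurjective π hπ)⟩⟩

/-- Pull a surjection from a subgroup of a subgroup back to the ambient group. -/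
theorem exists_surjective_of_subgroup {G Q : Type*} [Group G] [Group Q] {X : Subgroup G}
    (L : Subgroup X) (π : L →* Q) (hπ : Function.Surjective π) :
    ∃ (K : Subgroup G) (σ : K →* Q), K ≤ X ∧ Function.Surjective σ := by
  let e : L ≃* L.map X.subtype := L.equivMapOfInjective _ X.subtype_injective
  exact ⟨L.map X.subtype, π.comp e.symm.toMonoidHom, Subgroup.map_subtype_le L,
    hπ.comp e.symm.surjective⟩

/-- The quadratic condition in the form used for automorphisms. -/
theorem quad_conj {G : Type*} [Group G] {V : Subgroup G} {x : G}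
    (hq : ⁅⁅V, Subgroup.zpowers x⁆, Subgroup.zpowers x⁆ = ⊥) {w : G} (hw : w ∈ V) :
    x * (x * w * x⁻¹ * w⁻¹) * x⁻¹ = x * w * x⁻¹ * w⁻¹ := by
  have h : ⁅⁅w, x⁆, x⁆ = 1 := by
    rw [← Subgroup.mem_bot, ← hq]
    exact Subgroup.commutator_mem_commutator
      (Subgroup.commutator_mem_commutator hw (Subgroup.mem_zpowers x)) (Subgroup.mem_zpowers x)
  have h' : Commute ⁅w, x⁆ x := commutatorElement_eq_one_iff_commute.mp h
  have e : x * w * x⁻¹ * w⁻¹ = (⁅w, x⁆)⁻¹ := by simp [commutatorElement_def, mul_assoc]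
  rw [e, ← h'.inv_left.eq, mul_inv_cancel_right]

/-- A quadratic `p`-element outside `O_p` of a faithful group forces an `SL(2, p)` section. -/
theorem involves_sl_two_of_quadratic {G : Type*} [Group G] [Finite G] {p : ℕ} [Fact p.Prime]
    (hp : p ≠ 2) (V H : Subgroup G) (hV : IsElementaryAbelian p V)
    (hHV : H ≤ Subgroup.normalizer (V : Set G)) (hf : H ⊓ Subgroup.centralizer (V : Set G) = ⊥)
    (x : H) (hx : x ∉ pCore p H)
    (hq : ⁅⁅V, Subgroup.zpowers (x : G)⁆, Subgroup.zpowers (x : G)⁆ = ⊥) :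
    ∃ (K L : Subgroup G) (_ : (L.subgroupOf K).Normal),
      K ≤ H ∧ Nonempty ((K ⧸ L.subgroupOf K) ≃* SL(2, ZMod p)) := by
  haveI := hV.1
  open scoped IsMulCommutative in
  classical
  obtain ⟨g, hg⟩ : ∃ g : H, ¬ IsPGroup p (Subgroup.closure ({x, g * x * g⁻¹} : Set H)) := by
    by_contra h
    push Not at h
    obtain ⟨N, hN, hNp, hxN⟩ := Cfsg.Agent.Involution.baerSuzuki x h
    exact hx (Cfsg.Agent.Thompson.le_pCore hN hNp hxN)
  let α₀ : H →* MulAut V :=
    (Subgroup.normalizerMonoidHom V).comp (Subgroup.inclusion hHV)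
  have hα : ∀ (h : H) (w : V), ((α₀ h w : V) : G) = (h : G) * w * (h : G)⁻¹ := fun h w => rfl
  let S : Subgroup H := Subgroup.closure ({x, g * x * g⁻¹} : Set H)
  have hxS : x ∈ S := Subgroup.subset_closure (Set.mem_insert _ _)
  have hyS : g * x * g⁻¹ ∈ S := Subgroup.subset_closure (Set.mem_insert_of_mem _ rfl)
  let α : S →* MulAut V := α₀.comp S.subtype
  have hquad : ∀ w : V, α₀ x (α₀ x w / w) = α₀ x w / w := by
    intro w
    apply Subtype.ext
    simp only [hα, div_eq_mul_inv, Subgroup.coe_mul, InvMemClass.coe_inv]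
    exact quad_conj hq w.2
  have hinj : Function.Injective α₀ := by
    rw [← MonoidHom.ker_eq_bot_iff, eq_bot_iff]
    intro h hh
    have hc : (h : G) ∈ Subgroup.centralizer (V : Set G) := by
      rw [Subgroup.mem_centralizer_iff]
      intro w hw
      have := congrArg (fun u : MulAut V => ((u ⟨w, hw⟩ : V) : G)) (MonoidHom.mem_ker.mp hh)
      simp only [hα, MulAut.one_apply] at this
      exact (mul_inv_eq_iff_eq_mul.mp this).symm
    have : (h : G) ∈ H ⊓ Subgroup.centralizer (V : Set G) := ⟨h.2, hc⟩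
    rw [hf, Subgroup.mem_bot] at this
    exact Subgroup.mem_bot.mpr (Subtype.ext this)
  obtain ⟨L, π, f, hπ, -, -⟩ := quad_pair_mulAut hp (W := V)
    (fun w => Subtype.ext (by simpa using hV.2 w.1 w.2)) α
    ⟨x, hxS⟩ ⟨_, hyS⟩ (by
      apply Subgroup.map_injective S.subtype_injective
      rw [MonoidHom.map_closure, ← MonoidHom.range_eq_map, Subgroup.range_subtype,
        Set.image_pair]
      rfl)
    hquad
    (fun w => by
      change α₀ (g * x * g⁻¹) (α₀ (g * x * g⁻¹) w / w) = α₀ (g * x * g⁻¹) w / w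
      obtain ⟨u, rfl⟩ := (α₀ g).surjective w
      simp only [map_mul, map_inv, MulAut.mul_apply, MulAut.inv_apply_self, ← map_div]
      rw [hquad])
    (by
      intro h
      apply hg
      intro z
      obtain ⟨j, hj⟩ := h z
      refine ⟨j, ?_⟩
      apply Subtype.ext
      apply hinj
      simpa [α] using hj)
  obtain ⟨K₀, σ₀, -, hσ₀⟩ := exists_surjective_of_subgroup L π hπ
  obtain ⟨K, σ, hK, hσ⟩ := exists_surjective_of_subgroup K₀ σ₀ hσ₀
  obtain ⟨L', hL', e⟩ := exists_section_of_surjective K σ hσ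
  exact ⟨K, L', hL', hK, e⟩

end Cfsg.Agent.PLocalB
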