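import Mathlib
import Cfsg.Prelude.Def_PLocal
import Cfsg.Agent.PLocalB.QuadAction
import Cfsg.Agent.PLocalB.QdSection
import Cfsg.Agent.Lib.Coprime.Action
import Cfsg.Agent.Lib.PGroup.Basic

/-!
An action on a normal `p`-subgroup which is not `p`-stable gives sections isomorphic to `Qd(p)` and to
`SL(2, p)`.
-/

set_option autoImplicit false
set_option linter.style.haveILetI false

open scoped MatrixGroups commutatorElement
open Matrix

namespace Cfsg.Agent.PLocalB

/-- The automorphisms of a group act on its Frattini quotient. -/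
noncomputable def frattiniQuotientHom (P : Type*) [Group P] : MulAut P →* MulAut (P ⧸ frattini P) where
  toFun e := QuotientGroup.congr _ _ e (Subgroup.characteristic_iff_map_eq.mp inferInstance e)
  map_one' := by
    ext x
    obtain ⟨x, rfl⟩ := QuotientGroup.mk'_surjective _ x
    rfl
  map_mul' := fun a b => by
    ext x
    obtain ⟨x, rfl⟩ := QuotientGroup.mk'_surjective _ x
    rfl

theorem frattiniQuotientHom_apply {P : Type*} [Group P] (e : MulAut P) (x : P) :
    frattiniQuotientHom P e (x : P ⧸ frattini P) = ((e x : P) : P ⧸ frattini P) := rfl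

variable {p : ℕ} [Fact p.Prime] {N : Type*} [Group N] [Finite N]

/-- The kernel of the action on the Frattini quotient is a `p`-group modulo the centralizer. -/
theorem pow_mem_centralizer_of_frattini_trivial (P : Subgroup N) [P.Normal] (hP : IsPGroup p P)
    (z : N) (hz : frattiniQuotientHom P (MulAut.conjNormal z) = 1) :
    ∃ i : ℕ, z ^ (p ^ i) ∈ Subgroup.centralizer (P : Set N) := by
  obtain ⟨i, m, hm, hzm⟩ : ∃ i m : ℕ, ¬ p ∣ m ∧ orderOf z = p ^ i * m :=
    Nat.exists_eq_pow_mul_and_not_dvd (orderOf_pos z).ne' p (Fact.out : p.Prime).ne_one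
  refine ⟨i, ?_⟩
  set z' := z ^ (p ^ i) with hz'
  have hz'1 : z' ^ m = 1 := by rw [hz', ← pow_mul, ← hzm, pow_orderOf_eq_one]
  have hcop : (Nat.card (Subgroup.zpowers z')).Coprime (Nat.card (frattini P)) := by
    rw [Nat.card_zpowers]
    obtain ⟨j, hj⟩ := IsPGroup.iff_card.mp (hP.to_subgroup (frattini P))
    rw [hj]
    exact Nat.Coprime.of_dvd_left (orderOf_dvd_of_pow_eq_one hz'1)
      (((Fact.out : p.Prime).coprime_iff_not_dvd.mpr hm).symm.pow_right j)
  refine Cfsg.Agent.Coprime.le_centralizer_of_frattini (Subgroup.zpowers z') P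
    (fun a _ => by rw [Subgroup.normalizer_eq_top P]; trivial) hcop ?_ (Subgroup.mem_zpowers z')
  intro a ha k hk
  have h1 : frattiniQuotientHom P (MulAut.conjNormal a) = 1 := by
    obtain ⟨j, rfl⟩ := Subgroup.mem_zpowers_iff.mp ha
    rw [hz', map_zpow, map_pow, map_zpow, map_pow, hz, one_pow, _root_.one_zpow]
  have h2 := congrArg (fun e : MulAut (P ⧸ frattini P) => e ((⟨k, hk⟩ : P) : P ⧸ frattini P)) h1
  simp only [frattiniQuotientHom_apply, MulAut.one_apply] at h2
  rw [eq_comm, QuotientGroup.eq] at h2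
  refine ⟨MulAut.conjNormal a (⟨k, hk⟩ : P) * (⟨k, hk⟩ : P)⁻¹, ?_, by simp⟩
  have h3 := (inferInstance : (frattini P).Normal).conj_mem _ h2 ⟨k, hk⟩
  simpa [mul_assoc] using h3

/-- A quadratic element outside `O_p` modulo the centralizer gives a natural `SL(2, p)`-module in the
Frattini quotient. -/
theorem natural_of_not_stable (hp : p ≠ 2) (P : Subgroup N) [P.Normal] (hP : IsPGroup p P) (a : N)
    (hq : ⁅⁅P, Subgroup.zpowers a⁆, Subgroup.zpowers a⁆ = ⊥)
    (ha : (QuotientGroup.mk a : N ⧸ Subgroup.centralizer (P : Set N)) ∉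
      pCore p (N ⧸ Subgroup.centralizer (P : Set N))) :
    ∃ (L : Subgroup N) (π : L →* SL(2, ZMod p))
      (f : Multiplicative (Fin 2 → ZMod p) →* N ⧸ (frattini P).map P.subtype),
      Function.Surjective π ∧ Function.Injective f ∧
        ∀ (l : L) (v : Fin 2 → ZMod p),
          f (Multiplicative.ofAdd ((π l : Matrix (Fin 2) (Fin 2) (ZMod p)) *ᵥ v)) =
            ((l : N) : N ⧸ (frattini P).map P.subtype) * f (Multiplicative.ofAdd v) *
              ((l : N) : N ⧸ (frattini P).map P.subtype)⁻¹ := by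
  classical
  letI : CommGroup (P ⧸ frattini P) :=
    { (inferInstance : Group (P ⧸ frattini P)) with
      mul_comm := fun a b => Cfsg.Agent.PGroup.quotient_frattini_commute hP a b }
  let β : N →* MulAut (P ⧸ frattini P) := (frattiniQuotientHom P).comp MulAut.conjNormal
  have hβ : ∀ (n : N) (x : P), β n (x : P ⧸ frattini P) = ((MulAut.conjNormal n x : P) : _) :=
    fun n x => rfl
  obtain ⟨h, hh⟩ : ∃ h : β.range, ¬ IsPGroup p
      (Subgroup.closure ({⟨β a, a, rfl⟩, h * ⟨β a, a, rfl⟩ * h⁻¹} : Set β.range)) := by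
    by_contra hc
    push Not at hc
    obtain ⟨D₀, hD, hDp, haD⟩ := Cfsg.Agent.Involution.baerSuzuki
      (⟨β a, a, rfl⟩ : β.range) hc
    apply ha
    let D : Subgroup N := D₀.comap β.rangeRestrict
    haveI : D.Normal := hD.comap _
    refine Cfsg.Agent.Thompson.le_pCore (N := D.map (QuotientGroup.mk' _))
      (Subgroup.Normal.map inferInstance _ (QuotientGroup.mk'_surjective _)) ?_ ⟨a, haD, rfl⟩
    rintro ⟨_, z, hz, rfl⟩
    obtain ⟨i, hi⟩ := hDp ⟨β.rangeRestrict z, hz⟩
    obtain ⟨j, hj⟩ := pow_mem_centralizer_of_frattini_trivial P hP (z ^ p ^ i) (by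
      have := congrArg (fun u : D₀ => ((u : β.range) : MulAut (P ⧸ frattini P))) hi
      rw [map_pow, map_pow]
      simpa [β] using this)
    refine ⟨i + j, Subtype.ext ?_⟩
    simp only [SubmonoidClass.coe_pow, OneMemClass.coe_one, pow_add, pow_mul]
    rw [← map_pow, ← map_pow]
    exact (QuotientGroup.eq_one_iff _).mpr hj
  obtain ⟨-, g, rfl⟩ := h
  let S : Subgroup N := Subgroup.closure ({a, g * a * g⁻¹} : Set N)
  have haS : a ∈ S := Subgroup.subset_closure (Set.mem_insert _ _)
  have hbS : g * a * g⁻¹ ∈ S := Subgroup.subset_closure (Set.mem_insert_of_mem _ rfl)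
  have hquad : ∀ w, β a (β a w / w) = β a w / w := by
    intro w
    obtain ⟨w, rfl⟩ := QuotientGroup.mk'_surjective _ w
    simp only [QuotientGroup.mk'_apply]
    rw [hβ, ← QuotientGroup.mk_div, hβ]
    refine congrArg _ (Subtype.ext ?_)
    simp only [MulAut.conjNormal_apply, div_eq_mul_inv, Subgroup.coe_mul, InvMemClass.coe_inv]
    exact quad_conj hq w.2
  obtain ⟨L, π, f, hπ, hf, heq⟩ := quad_pair_mulAut hp
    (fun w => Cfsg.Agent.PGroup.quotient_frattini_pow hP w) (β.comp S.subtype)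
    ⟨a, haS⟩ ⟨_, hbS⟩ (by
      apply Subgroup.map_injective S.subtype_injective
      rw [MonoidHom.map_closure, ← MonoidHom.range_eq_map, Subgroup.range_subtype, Set.image_pair]
      rfl)
    hquad
    (fun w => by
      change β (g * a * g⁻¹) (β (g * a * g⁻¹) w / w) = β (g * a * g⁻¹) w / w
      obtain ⟨u, rfl⟩ := (β g).surjective w
      simp only [map_mul, map_inv, MulAut.mul_apply, MulAut.inv_apply_self, ← map_div]
      rw [hquad])
    (by
      intro hall
      apply hh
      rintro ⟨u, hu⟩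
      have hle : Subgroup.closure ({⟨β a, a, rfl⟩, β.rangeRestrict g * ⟨β a, a, rfl⟩ *
          (β.rangeRestrict g)⁻¹} : Set β.range) ≤ S.map β.rangeRestrict := by
        rw [Subgroup.closure_le]
        rintro _ (rfl | rfl)
        · exact ⟨a, haS, rfl⟩
        · exact ⟨_, hbS, by simp [map_mul, map_inv]; rfl⟩
      obtain ⟨z, hz, rfl⟩ := hle hu
      obtain ⟨j, hj⟩ := hall ⟨z, hz⟩
      exact ⟨j, Subtype.ext (Subtype.ext (by simpa using hj))⟩)
  let ι : P ⧸ frattini P →* N ⧸ (frattini P).map P.subtype :=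
    QuotientGroup.map _ _ P.subtype (Subgroup.le_comap_map _ _)
  have hι : Function.Injective ι := by
    rw [← MonoidHom.ker_eq_bot_iff, eq_bot_iff]
    intro x hx
    obtain ⟨x, rfl⟩ := QuotientGroup.mk'_surjective _ x
    simp only [ι, MonoidHom.mem_ker, QuotientGroup.mk'_apply, QuotientGroup.map_mk,
      Subgroup.coe_subtype, QuotientGroup.eq_one_iff] at hx
    obtain ⟨y, hy, hyx⟩ := hx
    rw [Subtype.val_injective hyx] at hy
    exact Subgroup.mem_bot.mpr ((QuotientGroup.eq_one_iff _).mpr hy)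
  let e : L ≃* L.map S.subtype := L.equivMapOfInjective _ S.subtype_injective
  refine ⟨L.map S.subtype, π.comp e.symm.toMonoidHom, ι.comp f, hπ.comp e.symm.surjective,
    hι.comp hf, fun l v => ?_⟩
  obtain ⟨l, rfl⟩ := e.surjective l
  have he : ((e l : L.map S.subtype) : N) = ((l : S) : N) := rfl
  simp only [MonoidHom.comp_apply, MulEquiv.coe_toMonoidHom, MulEquiv.symm_apply_apply, he]
  rw [heq l v]
  obtain ⟨x, hx⟩ := QuotientGroup.mk'_surjective _ (f (Multiplicative.ofAdd v))
  rw [← hx]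
  simp only [MonoidHom.comp_apply, Subgroup.coe_subtype, QuotientGroup.mk'_apply, hβ, ι,
    QuotientGroup.map_mk, MulAut.conjNormal_apply]
  rfl

/-- Not `p`-stable gives a `Qd(p)` section. -/
theorem exists_qd_section_of_not_stable (hp : p ≠ 2) (P : Subgroup N) [P.Normal] (hP : IsPGroup p P)
    (a : N) (hq : ⁅⁅P, Subgroup.zpowers a⁆, Subgroup.zpowers a⁆ = ⊥)
    (ha : (QuotientGroup.mk a : N ⧸ Subgroup.centralizer (P : Set N)) ∉
      pCore p (N ⧸ Subgroup.centralizer (P : Set N))) :
    ∃ (K R : Subgroup N) (_ : (R.subgroupOf K).Normal),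
      Nonempty ((K ⧸ R.subgroupOf K) ≃* qd p) := by
  obtain ⟨L, π, f, hπ, hf, heq⟩ := natural_of_not_stable hp P hP a hq ha
  obtain ⟨K, σ, hσ, -⟩ := qd_surjective_of_natural hp
    ((QuotientGroup.mk' ((frattini P).map P.subtype)).comp L.subtype) π hπ f hf heq
  let mk := QuotientGroup.mk' ((frattini P).map P.subtype)
  have hs : Function.Surjective (mk.subgroupComap K) := by
    rintro ⟨y, hy⟩
    obtain ⟨x, rfl⟩ := QuotientGroup.mk'_surjective _ y
    exact ⟨⟨x, hy⟩, rfl⟩
  obtain ⟨R, hR, e⟩ := exists_section_of_surjective (K.comap mk) (σ.comp (mk.subgroupComap K))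
    (hσ.comp hs)
  exact ⟨_, R, hR, e⟩

/-- Not `p`-stable gives an `SL(2, p)` section. -/
theorem exists_sl_section_of_not_stable (hp : p ≠ 2) (P : Subgroup N) [P.Normal]
    (hP : IsPGroup p P) (a : N) (hq : ⁅⁅P, Subgroup.zpowers a⁆, Subgroup.zpowers a⁆ = ⊥)
    (ha : (QuotientGroup.mk a : N ⧸ Subgroup.centralizer (P : Set N)) ∉
      pCore p (N ⧸ Subgroup.centralizer (P : Set N))) :
    ∃ (K R : Subgroup N) (_ : (R.subgroupOf K).Normal),
      Nonempty ((K ⧸ R.subgroupOf K) ≃* SL(2, ZMod p)) := by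
  obtain ⟨L, π, f, hπ, -, -⟩ := natural_of_not_stable hp P hP a hq ha
  obtain ⟨R, hR, e⟩ := exists_section_of_surjective L π hπ
  exact ⟨L, R, hR, e⟩

end Cfsg.Agent.PLocalB
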