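import Mathlib
import Cfsg.Prelude.Def_PLocal
import Cfsg.Prelude.Def_Local
import Cfsg.Agent.Lib.Thompson.Cores

/-!
Translation between the definitions of `p`-stability.
-/

set_option autoImplicit false
set_option linter.style.haveILetI false

open scoped commutatorElement

namespace Cfsg.Agent.PLocalB

variable {G : Type*} [Group G]

theorem map_commutator' {H : Type*} [Group H] (f : G →* H) (A B : Subgroup G) :
    (⁅A, B⁆).map f = ⁅A.map f, B.map f⁆ := Subgroup.map_commutator A B f

/-- The centralizer of a subgroup of `N` computed inside `N`. -/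
theorem centralizer_subgroupOf (P N : Subgroup G) (h : P ≤ N) :
    Subgroup.centralizer ((P.subgroupOf N : Subgroup N) : Set N) =
      (Subgroup.centralizer (P : Set G)).subgroupOf N := by
  ext n
  simp only [Subgroup.mem_centralizer_iff, Subgroup.mem_subgroupOf, SetLike.mem_coe]
  exact ⟨fun hn x hx => by simpa using congrArg Subtype.val (hn ⟨x, h hx⟩ hx),
    fun hn x hx => Subtype.ext (hn x hx)⟩

/-- If `G` is not `p`-stable, some element of a normalizer acts quadratically outside `O_p`. -/
theorem exists_of_not_isPStable {p : ℕ} [Fact p.Prime] (hp : p ≠ 2) (hO : pCore p G ≠ ⊥)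
    (h : ¬ IsPStable p G) :
    ∃ (P : Subgroup G) (a : Subgroup.normalizer (P : Set G)),
      IsPGroup p (P.subgroupOf (Subgroup.normalizer (P : Set G))) ∧
      ⁅⁅P.subgroupOf (Subgroup.normalizer (P : Set G)), Subgroup.zpowers a⁆, Subgroup.zpowers a⁆ = ⊥ ∧
      (QuotientGroup.mk a : _ ⧸ Subgroup.centralizer
          ((P.subgroupOf (Subgroup.normalizer (P : Set G)) : Subgroup _) : Set _)) ∉
        pCore p (_ ⧸ Subgroup.centralizer
          ((P.subgroupOf (Subgroup.normalizer (P : Set G)) : Subgroup _) : Set _)) := by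
  have hodd : Odd p := (Fact.out : p.Prime).odd_of_ne_two hp
  unfold IsPStable at h
  push Not at h
  obtain ⟨A, P, hA, hP, hAP, hPle, hn, hq, hle⟩ := h hodd hO
  obtain ⟨_, ⟨a, ha, rfl⟩, hax⟩ := SetLike.not_le_iff_exists.mp hle
  have hPN : P ≤ Subgroup.normalizer (P : Set G) := Subgroup.le_normalizer
  refine ⟨P, a, hP.of_equiv (Subgroup.subgroupOfEquivOfLe hPN).symm, ?_, ?_⟩
  · apply Subgroup.map_injective (Subgroup.subtype_injective _)
    rw [map_commutator', map_commutator', Subgroup.map_bot, Subgroup.map_subgroupOf_eq_of_le hPN,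
      MonoidHom.map_zpowers, eq_bot_iff, ← hq]
    have hz : Subgroup.zpowers ((a : Subgroup.normalizer (P : Set G)) : G) ≤ A :=
      Subgroup.zpowers_le.mpr ha
    exact Subgroup.commutator_mono (Subgroup.commutator_mono le_rfl hz) hz
  · intro hmem
    apply hax
    haveI hN : ((Subgroup.centralizer (P : Set G)).subgroupOf
        (Subgroup.normalizer (P : Set G))).Normal := by
      rw [← centralizer_subgroupOf P _ hPN]
      haveI : (P.subgroupOf (Subgroup.normalizer (P : Set G))).Normal := Subgroup.normal_in_normalizer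
      infer_instance
    haveI : (P.subgroupOf (Subgroup.normalizer (P : Set G))).Normal := Subgroup.normal_in_normalizer
    let e := QuotientGroup.quotientMulEquivOfEq (centralizer_subgroupOf P _ hPN)
    rw [← Cfsg.Agent.Thompson.map_pCore_equiv e]
    exact ⟨_, hmem, rfl⟩

end Cfsg.Agent.PLocalB
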