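import Cfsg.Agent.PLocalB.PStable

/-!
Normalizers of `p`-subgroups in groups all of whose `p`-locals are `p`-stable of characteristic `p`.
-/

set_option autoImplicit false
set_option linter.style.haveILetI false

namespace Cfsg.Agent.PLocalB

variable {G : Type*} [Group G] [Finite G] {p : ℕ} [Fact p.Prime]

omit [Fact p.Prime] in
theorem centerThompsonAOf_le (H : Subgroup G) : centerThompsonAOf H ≤ H :=
  inf_le_left.trans (Subgroup.map_subtype_le _)

theorem centerThompsonAOf_ne_bot {H : Subgroup G} (hH : IsPGroup p H) (hne : H ≠ ⊥) :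
    centerThompsonAOf H ≠ ⊥ := by
  haveI : Nontrivial H := (Subgroup.nontrivial_iff_ne_bot H).mpr hne
  intro h
  apply hH.bot_lt_center.ne'
  rw [Subgroup.eq_bot_iff_forall]
  intro x hx
  have hx' : (x : G) ∈ centerThompsonAOf H := by
    rw [centerThompsonAOf_eq_core]
    refine Subgroup.mem_sInf.mpr fun A hA => (abelianFamily G).mem_of_centralizes hA x.2
      (isMulCommutative_sup_zpowers hA.2.1 fun a ha => ?_)
    exact congrArg Subtype.val (Subgroup.mem_center_iff.mp hx ⟨a, hA.1 ha⟩)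
  rw [h, Subgroup.mem_bot] at hx'
  exact Subtype.ext hx'

/-- Normalizers grow in a finite `p`-group. -/
theorem lt_inf_normalizer {R P : Subgroup G} (hP : IsPGroup p P) (h : R < P) :
    R < P ⊓ Subgroup.normalizer (R : Set G) := by
  refine lt_of_le_of_ne (le_inf h.le Subgroup.le_normalizer) fun heq => ?_
  haveI := hP.isNilpotent
  have hlt : R.subgroupOf P < ⊤ := by
    rw [lt_top_iff_ne_top, Ne, Subgroup.subgroupOf_eq_top]
    exact h.not_ge
  obtain ⟨x, hx, hxR⟩ := SetLike.exists_of_lt (Group.normalizerCondition_of_isNilpotent _ hlt)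
  apply hxR
  rw [Subgroup.mem_subgroupOf, heq]
  refine ⟨x.2, Subgroup.mem_normalizer_iff.mpr fun y => ⟨fun hy => ?_, fun hy => ?_⟩⟩
  · exact (Subgroup.mem_normalizer_iff.mp hx ⟨y, h.le hy⟩).mp hy
  · have hyP : y ∈ P := by
      have h1 : (x : G)⁻¹ * ((x : G) * y * (x : G)⁻¹) * (x : G) ∈ P :=
        P.mul_mem (P.mul_mem (P.inv_mem x.2) (h.le hy)) x.2
      simpa [mul_assoc] using h1
    exact (Subgroup.mem_normalizer_iff.mp hx ⟨y, hyP⟩).mpr hy

theorem normalizer_le_normalizer_centerThompsonAOf (hp : p ≠ 2)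
    (hloc : ∀ Q : Subgroup G, IsPGroup p Q → Q ≠ ⊥ →
      pPrimeCore p ↥(Subgroup.normalizer (Q : Set G)) = ⊥ ∧
      IsPConstrained p ↥(Subgroup.normalizer (Q : Set G)) ∧
      IsPStable p ↥(Subgroup.normalizer (Q : Set G)))
    (P : Sylow p G) (Q : Subgroup G) (hQP : Q ≤ (P : Subgroup G)) (hQ1 : Q ≠ ⊥) :
    Subgroup.normalizer (Q : Set G) ≤
      Subgroup.normalizer (centerThompsonAOf (P : Subgroup G) : Set G) := by
  induction hn : Nat.card (P : Subgroup G) -
      Nat.card ↥((P : Subgroup G) ⊓ Subgroup.normalizer (Q : Set G)) using Nat.strong_induction_on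
    generalizing P Q with
  | _ n ih =>
  subst hn
  set N := Subgroup.normalizer (Q : Set G) with hN
  set R := (P : Subgroup G) ⊓ N with hR
  set M := Subgroup.normalizer (centerThompsonAOf (P : Subgroup G) : Set G) with hM
  obtain ⟨hbot, hc, hs⟩ := hloc Q (P.2.to_le hQP) hQ1
  -- `Z(J(T))` for a Sylow subgroup `T` of `N` is normal in `N`
  have hZJ : ∀ T : Sylow p N, N ≤ Subgroup.normalizer
      (centerThompsonAOf ((T : Subgroup N).map N.subtype) : Set G) := by
    intro T
    have h1 := centerThompsonAOf_normal hp hc hs hbot T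
    rw [← centerThompsonAOf_map N.subtype (T : Subgroup N) N.subtype_injective.injOn]
    intro g hg
    rw [Subgroup.mem_normalizer_iff]
    intro x
    constructor
    · rintro ⟨z, hz, rfl⟩
      exact ⟨_, h1.conj_mem z hz ⟨g, hg⟩, rfl⟩
    · rintro ⟨z, hz, hzx⟩
      refine ⟨_, h1.conj_mem z hz ⟨g, hg⟩⁻¹, ?_⟩
      rw [map_mul, map_mul, hzx, map_inv, inv_inv]
      simp [mul_assoc]
  by_cases hRP : R = (P : Subgroup G)
  · have hPN : (P : Subgroup G) ≤ N := hRP ▸ inf_le_right
    have := hZJ (P.subtype hPN)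
    rwa [Sylow.coe_subtype, Subgroup.map_subgroupOf_eq_of_le hPN] at this
  have hRlt : R < (P : Subgroup G) := lt_of_le_of_ne inf_le_left hRP
  have hQR : Q ≤ R := le_inf hQP Subgroup.le_normalizer
  have hR1 : R ≠ ⊥ := fun h => hQ1 (le_bot_iff.mp (h ▸ hQR))
  have hgrow : R < (P : Subgroup G) ⊓ Subgroup.normalizer (R : Set G) := lt_inf_normalizer P.2 hRlt
  have hcards : ∀ X Y : Subgroup G, X < Y → Nat.card X < Nat.card Y := fun X Y h =>
    lt_of_not_ge fun hge => h.ne (Subgroup.eq_of_le_of_card_ge h.le hge)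
  have hlek : Nat.card R < Nat.card (P : Subgroup G) := hcards _ _ hRlt
  have hNR : Subgroup.normalizer (R : Set G) ≤ M :=
    ih _ (by have := hcards _ _ hgrow; omega) P R hRlt.le hR1 rfl
  obtain ⟨T, hT⟩ : ∃ T : Sylow p N, R.subgroupOf N ≤ (T : Subgroup N) :=
    ((P.2.to_le hRlt.le).comap_subtype (K := N)).exists_le_sylow
  set T' := (T : Subgroup N).map N.subtype with hT'
  have hRT : R ≤ T' := fun x hx => ⟨⟨x, hx.2⟩, hT hx, rfl⟩
  by_cases hRT' : R = T'
  · have h1 : N ≤ Subgroup.normalizer (centerThompsonAOf R : Set G) := hRT' ▸ hZJ T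
    refine h1.trans (ih _ ?_ P _ ((centerThompsonAOf_le R).trans hRlt.le)
      (centerThompsonAOf_ne_bot (P.2.to_le hRlt.le) hR1) rfl)
    have h2 : Subgroup.normalizer (R : Set G) ≤ Subgroup.normalizer (centerThompsonAOf R : Set G) := by
      rw [centerThompsonAOf_eq_core]
      exact (abelianFamily G).normalizer_le_core R
    have h3 := Subgroup.card_le_of_le (inf_le_inf_left (P : Subgroup G) h2)
    have := hcards _ _ hgrow
    omega
  have hTp : IsPGroup p T' := T.2.map _
  set X := T' ⊓ Subgroup.normalizer (R : Set G) with hX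
  have hXgt : R < X := lt_inf_normalizer hTp (lt_of_le_of_ne hRT hRT')
  have hXM : X ≤ M := inf_le_right.trans hNR
  have hPM : (P : Subgroup G) ≤ M := by
    rw [hM, centerThompsonAOf_eq_core]
    exact Subgroup.le_normalizer.trans ((abelianFamily G).normalizer_le_core _)
  obtain ⟨S₂, hS₂⟩ := ((hTp.to_le (inf_le_left : X ≤ T')).comap_subtype (K := M)).exists_le_sylow
  obtain ⟨m, rfl⟩ := MulAction.exists_smul_eq M (P.subtype hPM) S₂
  set P₂ : Sylow p G := (m : G) • P with hP₂
  have hXP₂ : X ≤ (P₂ : Subgroup G) := by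
    intro x hx
    have h1 : (⟨x, hXM hx⟩ : M) ∈ ((m • P.subtype hPM : Sylow p M) : Subgroup M) := hS₂ hx
    obtain ⟨y, hy, hyx⟩ := h1
    exact ⟨(y : G), hy, congrArg Subtype.val hyx⟩
  have hZ₂ : centerThompsonAOf (P₂ : Subgroup G) = centerThompsonAOf (P : Subgroup G) := by
    change centerThompsonAOf ((P : Subgroup G).map (MulAut.conj (m : G)).toMonoidHom) = _
    rw [← centerThompsonAOf_map _ _ (MulAut.conj (m : G)).injective.injOn]
    refine Subgroup.eq_of_le_of_card_ge ?_
      (le_of_eq (Subgroup.card_map_of_injective (MulAut.conj (m : G)).injective).symm)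
    rintro _ ⟨z, hz, rfl⟩
    exact (Subgroup.mem_normalizer_iff.mp m.2 z).mp hz
  have key := ih _ ?_ P₂ Q (hQR.trans (hXgt.le.trans hXP₂)) hQ1 rfl
  · rwa [hZ₂] at key
  have hle : X ≤ (P₂ : Subgroup G) ⊓ N := le_inf hXP₂ (inf_le_left.trans (Subgroup.map_subtype_le _))
  have h3 := Subgroup.card_le_of_le hle
  have h4 := hcards _ _ hXgt
  rw [← hN]
  have h5 : Nat.card (P₂ : Subgroup G) = Nat.card (P : Subgroup G) :=
    Subgroup.card_map_of_injective (MulAut.conj (m : G)).injective
  omega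

end Cfsg.Agent.PLocalB
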