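import Cfsg.Agent.Lib.PComplement.GlaubermanThompson
import Cfsg.Agent.PLocalB.CharPStable

/-!
Glauberman's normal `p`-complement theorem for `Z(J(P))`, abelian version of `J`.
-/

set_option autoImplicit false
set_option linter.style.haveILetI false

open scoped commutatorElement

namespace Cfsg.Agent.PLocalB

open Cfsg.Agent.PComplement

universe u

variable {p : ℕ} [Fact p.Prime]

theorem normalizer_le_normalizer_ZJ {G : Type u} [Group G] [Finite G] (S : Subgroup G) :
    Subgroup.normalizer (S : Set G) ≤ Subgroup.normalizer (centerThompsonAOf S : Set G) := by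
  rw [centerThompsonAOf_eq_core]
  exact (abelianFamily G).normalizer_le_core S

theorem isPStableOn_of_isReduced (hp : p ≠ 2) {G : Type u} [Group G] [Finite G] {P : Sylow p G}
    {V K : Subgroup G} (h : IsReduced p (P : Subgroup G) V K) (B : Subgroup G) [B.Normal]
    (hB : IsPGroup p B) : IsPStableOn p B := by
  intro a hq
  haveI hVn : V.Normal := h.eq_pCore ▸ inferInstance
  rcases h.le_or_coprime_mem (Subgroup.centralizer (B : Set G)) with hCV | hC
  swap
  · have hQ : IsPGroup p (G ⧸ Subgroup.centralizer (B : Set G)) := by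
      intro y
      obtain ⟨x, rfl⟩ := QuotientGroup.mk'_surjective _ y
      obtain ⟨e, m, hm, he⟩ := Nat.exists_eq_pow_mul_and_not_dvd (orderOf_pos x).ne' p
        (Fact.out : p.Prime).ne_one
      refine ⟨e, ?_⟩
      rw [← map_pow]
      refine (QuotientGroup.eq_one_iff _).mpr (hC _ ?_)
      exact Nat.Coprime.coprime_dvd_left
        (orderOf_dvd_of_pow_eq_one (by rw [← pow_mul, ← he, pow_orderOf_eq_one]))
        (((Fact.out : p.Prime).coprime_iff_not_dvd.mpr hm).symm)
    rw [(Cfsg.Agent.Thompson.pCore_eq_top_iff).mpr hQ]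
    trivial
  obtain ⟨u, v, hu, hv, rfl, hup, hvp⟩ := exists_p_pprime_mul (p := p) a
  have hqu : ⁅⁅B, Subgroup.zpowers u⁆, Subgroup.zpowers u⁆ = ⊥ := by
    rw [eq_bot_iff, ← hq]
    exact Subgroup.commutator_mono (Subgroup.commutator_mono le_rfl (Subgroup.zpowers_le.mpr hu))
      (Subgroup.zpowers_le.mpr hu)
  have hvC : v ∈ Subgroup.centralizer (B : Set G) := by
    have hqv : ⁅⁅B, Subgroup.zpowers v⁆, Subgroup.zpowers v⁆ = ⊥ := by
      rw [eq_bot_iff, ← hq]
      exact Subgroup.commutator_mono (Subgroup.commutator_mono le_rfl (Subgroup.zpowers_le.mpr hv))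
        (Subgroup.zpowers_le.mpr hv)
    have hcop : (Nat.card (Subgroup.zpowers v)).Coprime (Nat.card B) := by
      obtain ⟨j, hj⟩ := IsPGroup.iff_card.mp hB
      rw [hj]; exact hvp.pow_right j
    haveI := hB.isNilpotent
    rw [Cfsg.Agent.Coprime.commutator_commutator_eq _ B
      (by rw [Subgroup.normalizer_eq_top B]; exact le_top) hcop
      (Or.inr inferInstance), Subgroup.commutator_eq_bot_iff_le_centralizer,
      Subgroup.le_centralizer_iff] at hqv
    exact hqv (Subgroup.mem_zpowers v)
  have hBV : B ≤ V := h.eq_pCore ▸ Cfsg.Agent.Thompson.le_pCore inferInstance hB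
  obtain ⟨P', hP'⟩ := hup.exists_le_sylow
  obtain ⟨g, hg⟩ := MulAction.exists_smul_eq G P' P
  set u' := g * u * g⁻¹ with hu'
  have hu'P : u' ∈ (P : Subgroup G) := by
    rw [← hg, Sylow.coe_subgroup_smul]
    exact ⟨u, hP' (Subgroup.mem_zpowers u), rfl⟩
  have hu'V : u' ∈ V := by
    refine h.mem_of_quadratic hp hBV hCV hu'P fun b hb => ?_
    have hb' : g⁻¹ * b * g ∈ B := by
      simpa using (inferInstance : B.Normal).conj_mem b hb g⁻¹
    have h1 : ⁅⁅g⁻¹ * b * g, u⁆, u⁆ ∈ ⁅⁅B, Subgroup.zpowers u⁆, Subgroup.zpowers u⁆ :=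
      Subgroup.commutator_mem_commutator (Subgroup.commutator_mem_commutator hb'
        (Subgroup.mem_zpowers u)) (Subgroup.mem_zpowers u)
    rw [hqu, Subgroup.mem_bot] at h1
    have e : ⁅⁅b, u'⁆, u'⁆ = g * ⁅⁅g⁻¹ * b * g, u⁆, u⁆ * g⁻¹ := by
      simp [hu', commutatorElement_def, mul_assoc]
    rw [e, h1, mul_one, mul_inv_cancel]
  have huV : u ∈ V := by
    have := hVn.conj_mem u' hu'V g⁻¹
    simpa [hu', mul_assoc] using this
  rw [QuotientGroup.mk_mul, (QuotientGroup.eq_one_iff v).mpr hvC, mul_one]
  haveI : (V.map (QuotientGroup.mk' (Subgroup.centralizer (B : Set G)))).Normal :=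
    Subgroup.Normal.map hVn _ (QuotientGroup.mk'_surjective _)
  have hVimg : IsPGroup p (V.map (QuotientGroup.mk' (Subgroup.centralizer (B : Set G)))) :=
    (P.2.to_le h.le_sylow).map _
  exact Cfsg.Agent.Thompson.le_pCore inferInstance hVimg
    (Subgroup.mem_map_of_mem (QuotientGroup.mk' (Subgroup.centralizer (B : Set G))) huV)

theorem hasNormalPComplement_of_ZJ (hp : p ≠ 2) {G : Type u} [Group G] [Finite G] (P : Sylow p G)
    (h1 : HasNormalPComplement p (Subgroup.normalizer (centerThompsonAOf (P : Subgroup G) : Set G))) :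
    HasNormalPComplement p G := by
  refine hasNormalPComplement_of_criterion (p := p)
    (fun G _ _ P => HasNormalPComplement p (Subgroup.normalizer (centerThompsonAOf P : Set G)))
    ?_ ?_ ?_ ?_ ?_ G P h1
  · intro G _ _ P M hPM hT
    refine hasNormalPComplement_of_map_le M.subtype M.subtype_injective ?_ hT
    refine (Subgroup.le_normalizer_map _).trans ?_
    rw [centerThompsonAOf_map _ _ (fun _ _ _ _ h => M.subtype_injective h),
      Subgroup.map_subgroupOf_eq_of_le hPM]
  · intro G _ _ P H hHb hHP hyp _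
    set S : Subgroup G := (P : Subgroup G) ⊓ Subgroup.normalizer (H : Set G) with hS
    have hSM : S ≤ Subgroup.normalizer (H : Set G) := inf_le_right
    have hSp : IsPGroup p S := P.2.to_le inf_le_left
    have hSb : S ≠ ⊥ := fun hb => hHb (le_bot_iff.mp (hb ▸ le_inf hHP Subgroup.le_normalizer))
    refine hasNormalPComplement_of_map_le _ (Subgroup.normalizer (H : Set G)).subtype_injective ?_
      (hyp (centerThompsonAOf S) ((centerThompsonAOf_le S).trans inf_le_left)
        (centerThompsonAOf_ne_bot hSp hSb) (normalizer_le_normalizer_ZJ S))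
    refine (Subgroup.le_normalizer_map _).trans ?_
    rw [centerThompsonAOf_map _ _ (fun _ _ _ _ h => (Subgroup.normalizer (H : Set G)).subtype_injective h),
      Subgroup.map_subgroupOf_eq_of_le hSM]
  · intro G _ _ P V _ hVb hVP hyp _
    set f := QuotientGroup.mk' V with hf
    have hfs := QuotientGroup.mk'_surjective V
    set Pb : Subgroup (G ⧸ V) := (P : Subgroup G).map f with hPb
    have hPc : Pb.comap f = (P : Subgroup G) := by
      rw [hPb, Subgroup.comap_map_eq, QuotientGroup.ker_mk', sup_eq_left.mpr hVP.le]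
    have hPbb : Pb ≠ ⊥ := by
      rw [hPb, Ne, Subgroup.map_eq_bot_iff, QuotientGroup.ker_mk']
      exact hVP.not_ge
    set X := centerThompsonAOf Pb with hX
    have hXb : X ≠ ⊥ := centerThompsonAOf_ne_bot (P.2.map f) hPbb
    refine hasNormalPComplement_of_le_map f (B := Subgroup.normalizer (X.comap f : Set G)) ?_
      (hyp (X.comap f) ?_ (hPc ▸ Subgroup.comap_mono (centerThompsonAOf_le Pb)) ?_)
    · rw [← Subgroup.map_comap_eq_self_of_surjective hfs (Subgroup.normalizer (X : Set (G ⧸ V)))]
      exact Subgroup.map_mono (Subgroup.le_normalizer_comap f)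
    · refine lt_of_le_of_ne (fun v hv => ?_) fun he => hXb ?_
      · rw [Subgroup.mem_comap, hf, QuotientGroup.mk'_apply, (QuotientGroup.eq_one_iff v).mpr hv]
        exact one_mem _
      · rw [← Subgroup.map_comap_eq_self_of_surjective hfs X, ← he,
          (Subgroup.map_eq_bot_iff _).mpr (by rw [QuotientGroup.ker_mk'])]
    · rw [← hPc]
      exact (Subgroup.comap_mono (Subgroup.le_normalizer.trans (normalizer_le_normalizer_ZJ Pb))).trans
        (Subgroup.le_normalizer_comap f)
  · intro G _ _ P N _ hN hT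
    set f := QuotientGroup.mk' N with hf
    have hinj : Set.InjOn f ((P : Subgroup G) : Set G) := by
      intro x hx y hy hxy
      have h0 : x⁻¹ * y ∈ (P : Subgroup G) ⊓ N :=
        ⟨(P : Subgroup G).mul_mem ((P : Subgroup G).inv_mem hx) hy, QuotientGroup.eq.mp hxy⟩
      rw [Cfsg.Agent.Thompson.inf_eq_bot_of_isPGroup_of_coprime P.2 hN, Subgroup.mem_bot,
        inv_mul_eq_one] at h0
      exact h0
    refine hasNormalPComplement_of_le_map f ?_ hT
    intro x hx
    obtain ⟨g, rfl⟩ := QuotientGroup.mk'_surjective N x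
    set X : Subgroup G := centerThompsonAOf (P : Subgroup G) with hX
    rw [← centerThompsonAOf_map f _ hinj, ← hX] at hx
    obtain ⟨k, hk, hkg⟩ := exists_mul_mem_normalizer_of_map P hN (centerThompsonAOf_le _) hx
    exact ⟨k * g, hkg, by
      rw [map_mul, hf, QuotientGroup.mk'_apply N k, (QuotientGroup.eq_one_iff k).mpr hk, one_mul]⟩
  · intro G _ _ P V K hT h
    have hn : (centerThompsonAOf (P : Subgroup G)).Normal := by
      rw [centerThompsonAOf_eq_core]
      refine (abelianFamily G).core_normal hp ?_ (fun B _ hB => isPStableOn_of_isReduced hp h B hB) P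
      rw [← h.eq_pCore]
      exact h.centralizer_le
    exact h.not_complement ((Cfsg.Agent.Transfer.hasNormalPComplement_congr
      ((MulEquiv.subgroupCongr (Subgroup.normalizer_eq_top_iff.mpr hn)).trans Subgroup.topEquiv)).mp hT)

end Cfsg.Agent.PLocalB
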