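import Mathlib
import Cfsg.Prelude.Def_PLocal
import Cfsg.Agent.Lib.PGroup.Commutator

/-!
Glauberman's replacement theorem.
-/

set_option autoImplicit false
set_option linter.style.haveILetI false

open scoped commutatorElement

namespace Cfsg.Agent.PLocalB

variable {G : Type*} [Group G]

theorem conj_mem_of_le_normalizer {A H : Subgroup G} (h : A ≤ Subgroup.normalizer (H : Set G)) {a x : G}
    (ha : a ∈ A) (hx : x ∈ H) : a * x * a⁻¹ ∈ H :=
  (Subgroup.mem_normalizer_iff.mp (h ha) x).mp hx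

theorem commute_of_commutator_eq_bot {H K : Subgroup G} (h : ⁅H, K⁆ = ⊥) {x y : G} (hx : x ∈ H)
    (hy : y ∈ K) : Commute x y :=
  commutatorElement_eq_one_iff_commute.mp
    (Subgroup.mem_bot.mp (h ▸ Subgroup.commutator_mem_commutator hx hy))

theorem mem_normalizer_of_conj_mem [Finite G] (H : Subgroup G) (g : G)
    (h : ∀ x ∈ H, g * x * g⁻¹ ∈ H) : g ∈ Subgroup.normalizer (H : Set G) := by
  have e : H.map (MulAut.conj g).toMonoidHom = H := by
    apply Subgroup.eq_of_le_of_card_ge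
    · rintro _ ⟨x, hx, rfl⟩; exact h x hx
    · exact le_of_eq (Subgroup.card_map_of_injective (MulAut.conj g).injective).symm
  rw [Subgroup.mem_normalizer_iff]
  refine fun x => ⟨h x, fun hx => ?_⟩
  obtain ⟨y, hy, hyx⟩ : g * x * g⁻¹ ∈ H.map (MulAut.conj g).toMonoidHom := e.symm ▸ hx
  have : y = x := by simpa using hyx
  exact this ▸ hy

theorem card_sup_mul_card_inf (H A : Subgroup G) (hH : H ≤ Subgroup.normalizer (A : Set G)) :
    Nat.card ↥(H ⊔ A) * Nat.card ↥(H ⊓ A) = Nat.card H * Nat.card A := by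
  have hn : (A.subgroupOf (H ⊔ A)).Normal :=
    Subgroup.normal_subgroupOf_iff_le_normalizer le_sup_right |>.mpr
      (sup_le hH Subgroup.le_normalizer)
  have e : A.relIndex (H ⊔ A) = A.relIndex H := by
    have h := Subgroup.relIndex_sup_right (H.subgroupOf (H ⊔ A)) (A.subgroupOf (H ⊔ A))
    rwa [← Subgroup.subgroupOf_sup le_sup_left le_sup_right, Subgroup.relIndex_subgroupOf le_rfl,
      Subgroup.relIndex_subgroupOf le_sup_left] at h
  have h1 : Nat.card A * A.relIndex (H ⊔ A) = Nat.card ↥(H ⊔ A) := by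
    rw [← Subgroup.relIndex_bot_left, ← Subgroup.relIndex_bot_left,
      Subgroup.relIndex_mul_relIndex _ _ _ bot_le le_sup_right]
  have h2 : Nat.card ↥(H ⊓ A) * A.relIndex H = Nat.card H := by
    rw [← Subgroup.inf_relIndex_left, ← Subgroup.relIndex_bot_left, ← Subgroup.relIndex_bot_left,
      Subgroup.relIndex_mul_relIndex _ _ _ bot_le inf_le_left]
  rw [← h1, e, ← h2]
  ring

/-- If `A` normalizes `B` and centralizes `[B, B]` then `[B, A]` has derived group central in `B`. -/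
theorem derived_comm_le_center (A B : Subgroup G) (hAB : A ≤ Subgroup.normalizer (B : Set G))
    (hc : ⁅⁅B, B⁆, A⁆ = ⊥) :
    ⁅⁅B, A⁆, ⁅B, A⁆⁆ ≤ B ⊓ Subgroup.centralizer (B : Set G) := by
  have hD : ⁅B, A⁆ ≤ B := Subgroup.le_normalizer_iff_commutator_le_left.mp hAB
  have h1 : ⁅⁅A, ⁅B, B⁆⁆, B⁆ = ⊥ := by
    rw [Subgroup.commutator_comm A, hc, Subgroup.commutator_bot_left]
  have h2 : ⁅⁅⁅B, B⁆, B⁆, A⁆ = ⊥ := by
    refine le_bot_iff.mp (le_trans (Subgroup.commutator_mono ?_ le_rfl) hc.le)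
    exact Subgroup.commutator_mono (Subgroup.commutator_le_self B) le_rfl
  have hDB' : ⁅⁅B, A⁆, ⁅B, B⁆⁆ = ⊥ :=
    Subgroup.commutator_commutator_eq_bot_of_rotate h1 h2
  refine le_inf ((Subgroup.commutator_mono hD hD).trans (Subgroup.commutator_le_self B)) ?_
  rw [← Subgroup.commutator_eq_bot_iff_le_centralizer]
  have e : ⁅⁅⁅B, A⁆, B⁆, ⁅B, A⁆⁆ = ⊥ := by
    refine le_bot_iff.mp (le_trans (Subgroup.commutator_mono (Subgroup.commutator_mono hD le_rfl) le_rfl) ?_)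
    rw [Subgroup.commutator_comm, hDB']
  have e' : ⁅⁅B, ⁅B, A⁆⁆, ⁅B, A⁆⁆ = ⊥ := by rw [Subgroup.commutator_comm B]; exact e
  exact Subgroup.commutator_commutator_eq_bot_of_rotate e e'

/-- The subgroup `[b, A]`. -/
def bA (A : Subgroup G) (b : G) : Subgroup G :=
  Subgroup.closure {g : G | ∃ a ∈ A, g = b⁻¹ * a * b * a⁻¹}

theorem bA_le (A B : Subgroup G) (b : G) (hb : b ∈ B) : bA A b ≤ ⁅B, A⁆ := by
  rw [bA, Subgroup.closure_le]
  rintro _ ⟨a, ha, rfl⟩
  have h := Subgroup.commutator_mem_commutator (inv_mem hb) ha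
  rw [commutatorElement_def, inv_inv] at h
  exact h

/-- The derived subgroup of `[b, A]` has exponent at most two. -/
theorem derived_bA_sq (A B : Subgroup G) (hAB : A ≤ Subgroup.normalizer (B : Set G))
    (hc : ⁅⁅B, B⁆, A⁆ = ⊥) (hA : IsMulCommutative A) (b : G) (hb : b ∈ B)
    (hq : ⁅⁅bA A b, A⁆, A⁆ = ⊥) : ∀ w ∈ ⁅bA A b, bA A b⁆, w ^ 2 = 1 := by
  have hD : ⁅B, A⁆ ≤ B := Subgroup.le_normalizer_iff_commutator_le_left.mp hAB
  set X := bA A b with hXdef
  have hXD : X ≤ ⁅B, A⁆ := bA_le A B b hb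
  have hXB : X ≤ B := hXD.trans hD
  have hZ : ∀ u ∈ ⁅X, X⁆, ∀ x ∈ B, Commute x u := fun u hu x hx =>
    (derived_comm_le_center A B hAB hc (Subgroup.commutator_mono hXD hXD hu)).2 x hx
  have hB'A : ∀ u ∈ ⁅B, B⁆, ∀ a ∈ A, a * u * a⁻¹ = u := fun u hu a ha => by
    rw [← (commute_of_commutator_eq_bot hc hu ha).eq, mul_inv_cancel_right]
  -- `d a a'` with `ᵃc(a') = c(a') d(a, a')`
  let c : G → G := fun a => b⁻¹ * a * b * a⁻¹
  let d : G → G → G := fun a a' => (c a')⁻¹ * (a * c a' * a⁻¹)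
  have hcX : ∀ a ∈ A, c a ∈ X := fun a ha => Subgroup.subset_closure ⟨a, ha, rfl⟩
  have hab : ∀ a, a * b * a⁻¹ = b * c a := fun a => by simp [c, mul_assoc]
  have hdA : ∀ a ∈ A, ∀ a' ∈ A, d a a' ∈ ⁅X, A⁆ := by
    intro a ha a' ha'
    have h := Subgroup.commutator_mem_commutator (inv_mem (hcX a' ha')) ha
    rw [commutatorElement_def, inv_inv] at h
    have e : d a a' = (c a')⁻¹ * a * c a' * a⁻¹ := by simp [d, mul_assoc]
    rw [e]; exact h
  have hXA : ⁅X, A⁆ ≤ B := (Subgroup.commutator_mono hXB le_rfl).trans hD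
  have hfix : ∀ v ∈ ⁅X, A⁆, ∀ a ∈ A, a * v * a⁻¹ = v := fun v hv a ha => by
    rw [← (commute_of_commutator_eq_bot hq hv ha).eq, mul_inv_cancel_right]
  -- `X` centralizes `[X, A]`
  have hcomm : ∀ v ∈ ⁅X, A⁆, ∀ x ∈ X, Commute x v := by
    intro v hv x hx
    induction hx using Subgroup.closure_induction with
    | mem g hg =>
      obtain ⟨a, ha, rfl⟩ := hg
      change Commute (c a) v
      have h1 := hB'A _ (Subgroup.commutator_mem_commutator hb (hXA hv)) a ha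
      have h2 : ⁅a * b * a⁻¹, a * v * a⁻¹⁆ = a * ⁅b, v⁆ * a⁻¹ := by
        simp [commutatorElement_def, mul_assoc]
      rw [h1, hab, hfix v hv a ha] at h2
      have h3 : b * ⁅c a, v⁆ * b⁻¹ * ⁅b, v⁆ = ⁅b, v⁆ := by
        conv_rhs => rw [← h2]
        simp [commutatorElement_def, mul_assoc]
      exact commutatorElement_eq_one_iff_commute.mp
        (conj_eq_one_iff.mp (mul_eq_right.mp h3))
    | one => exact Commute.one_left v
    | mul x y _ _ h h' => exact h.mul_left h'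
    | inv x _ h => exact h.inv_left
  -- the squares of the basic commutators vanish
  have key : ∀ a ∈ A, ∀ a' ∈ A, ⁅c a, c a'⁆ ^ 2 = 1 := by
    intro a ha a' ha'
    have hz : ⁅c a, c a'⁆ ∈ ⁅X, X⁆ := Subgroup.commutator_mem_commutator (hcX a ha) (hcX a' ha')
    have hid : ∀ a a' : G, a ∈ A → a' ∈ A → c a * c a' * d a a' = c (a * a') := by
      intro a a' _ _
      simp [c, d, mul_assoc]
    have e1 : c a * c a' * d a a' = c a' * c a * d a' a := by
      rw [hid a a' ha ha', hid a' a ha' ha]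
      have : a * a' = a' * a := congrArg Subtype.val (hA.is_comm.comm ⟨a, ha⟩ ⟨a', ha'⟩)
      rw [this]
    -- apply `a` to `⁅b, c a'⁆`
    have step : ∀ a ∈ A, ∀ a' ∈ A, ⁅c a, c a'⁆ * ⁅b, d a a'⁆ = 1 := by
      intro a ha a' ha'
      have hv := hdA a ha a' ha'
      have hz := Subgroup.commutator_mem_commutator (hcX a ha) (hcX a' ha')
      have h1 := hB'A _ (Subgroup.commutator_mem_commutator hb (hXB (hcX a' ha'))) a ha
      have h2 : ⁅a * b * a⁻¹, a * c a' * a⁻¹⁆ = a * ⁅b, c a'⁆ * a⁻¹ := by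
        simp [commutatorElement_def, mul_assoc]
      rw [h1, hab, show a * c a' * a⁻¹ = c a' * d a a' by simp [d]] at h2
      have h3 : ⁅b * c a, c a' * d a a'⁆ =
          (b * ⁅c a, c a' * d a a'⁆ * b⁻¹) * ⁅b, c a' * d a a'⁆ := by
        simp [commutatorElement_def, mul_assoc]
      have h4 : ⁅c a, c a' * d a a'⁆ = ⁅c a, c a'⁆ := by
        have e : ⁅c a, c a' * d a a'⁆ =
            ⁅c a, c a'⁆ * (c a' * ⁅c a, d a a'⁆ * (c a')⁻¹) := by
          simp [commutatorElement_def, mul_assoc]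
        rw [e, commutatorElement_eq_one_iff_commute.mpr (hcomm _ hv _ (hcX a ha))]
        simp
      have h5 : ⁅b, c a' * d a a'⁆ = ⁅b, c a'⁆ * (c a' * ⁅b, d a a'⁆ * (c a')⁻¹) := by
        simp [commutatorElement_def, mul_assoc]
      have h6 : c a' * ⁅b, d a a'⁆ * (c a')⁻¹ = ⁅b, d a a'⁆ := by
        have hB' : ⁅b, d a a'⁆ ∈ ⁅B, B⁆ := Subgroup.commutator_mem_commutator hb (hXA hv)
        have hD2 : ⁅⁅B, A⁆, ⁅B, B⁆⁆ = ⊥ := by
          refine Subgroup.commutator_commutator_eq_bot_of_rotate ?_ ?_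
          · rw [Subgroup.commutator_comm A, hc, Subgroup.commutator_bot_left]
          · exact le_bot_iff.mp ((Subgroup.commutator_mono
              (Subgroup.commutator_mono (Subgroup.commutator_le_self B) le_rfl) le_rfl).trans hc.le)
        rw [(commute_of_commutator_eq_bot hD2 (hXD (hcX a' ha')) hB').eq, mul_inv_cancel_right]
      rw [h3, h4, ← (hZ _ hz b hb).symm.eq, mul_inv_cancel_right, h5, h6] at h2
      have hcz : Commute (⁅b, c a'⁆) ⁅c a, c a'⁆ := by
        refine hZ _ hz _ ?_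
        exact Subgroup.commutator_le_self B (Subgroup.commutator_mem_commutator hb (hXB (hcX a' ha')))
      rw [← mul_assoc, ← hcz.eq, mul_assoc, mul_eq_left] at h2
      exact h2
    have f1 := eq_inv_of_mul_eq_one_right (step a ha a' ha')
    have f2 : ⁅b, d a' a⁆ = ⁅c a, c a'⁆ := by
      rw [eq_inv_of_mul_eq_one_right (step a' ha' a ha), commutatorElement_inv]
    -- `d a' a = z * d a a'`
    have e2 : d a' a = ⁅c a, c a'⁆ * d a a' := by
      have h7 : c a * c a' = ⁅c a, c a'⁆ * (c a' * c a) := by simp [commutatorElement_def, mul_assoc]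
      rw [h7, ← (hZ _ hz (c a' * c a) (hXB (mul_mem (hcX a' ha') (hcX a ha)))).eq,
        mul_assoc (c a' * c a)] at e1
      exact (mul_left_cancel e1).symm
    have e3 : ⁅b, d a' a⁆ = ⁅b, d a a'⁆ := by
      rw [e2]
      have e : ⁅b, ⁅c a, c a'⁆ * d a a'⁆ =
          ⁅b, ⁅c a, c a'⁆⁆ * (⁅c a, c a'⁆ * ⁅b, d a a'⁆ * ⁅c a, c a'⁆⁻¹) := by
        simp [commutatorElement_def, mul_assoc]
      rw [e, commutatorElement_eq_one_iff_commute.mpr (hZ _ hz b hb), one_mul,
        ← (hZ _ hz _ (Subgroup.commutator_le_self B (Subgroup.commutator_mem_commutator hb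
          (hXA (hdA a ha a' ha'))))).eq, mul_inv_cancel_right]
    rw [pow_two]
    nth_rewrite 1 [← f2]
    rw [e3, f1, inv_mul_cancel]
  -- a subgroup of exponent two of the centre
  intro w hw
  let S : Subgroup G :=
    { carrier := {g | g ∈ ⁅X, X⁆ ∧ g ^ 2 = 1}
      one_mem' := ⟨one_mem _, one_pow 2⟩
      mul_mem' := fun {x y} hx hy => ⟨mul_mem hx.1 hy.1, by
        have hc : Commute x y := hZ _ hy.1 x (hXB (Subgroup.commutator_le_self X hx.1))
        rw [hc.mul_pow, hx.2, hy.2, one_mul]⟩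
      inv_mem' := fun {x} hx => ⟨inv_mem hx.1, by rw [inv_pow, hx.2, inv_one]⟩ }
  -- commutators are bilinear modulo the centre
  have hgen : ∀ x ∈ X, ∀ y ∈ X, ⁅x, y⁆ ∈ S := by
    intro x hx y hy
    have hstep : ∀ y₀ ∈ X, (∀ a ∈ A, ⁅c a, y₀⁆ ∈ S) → ∀ x ∈ X, ⁅x, y₀⁆ ∈ S := by
      intro y₀ hy₀ hbase x hx
      induction hx using Subgroup.closure_induction with
      | mem g hg => obtain ⟨a, ha, rfl⟩ := hg; exact hbase a ha
      | one => simpa using S.one_mem
      | mul u v hu hv h h' =>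
        have e : ⁅u * v, y₀⁆ = u * ⁅v, y₀⁆ * u⁻¹ * ⁅u, y₀⁆ := by
          simp [commutatorElement_def, mul_assoc]
        rw [e, (hZ _ h'.1 u (hXB hu)).eq, mul_inv_cancel_right]
        exact mul_mem h' h
      | inv u hu h =>
        have e : ⁅u⁻¹, y₀⁆ = u⁻¹ * ⁅u, y₀⁆⁻¹ * u := by simp [commutatorElement_def, mul_assoc]
        rw [e, ((hZ _ h.1 u (hXB hu)).inv_left.inv_right).eq, inv_mul_cancel_right]
        exact inv_mem h
    refine hstep y hy (fun a ha => ?_) x hx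
    have : ⁅y, c a⁆ ∈ S := hstep (c a) (hcX a ha) (fun a' ha' =>
      ⟨Subgroup.commutator_mem_commutator (hcX a' ha') (hcX a ha), key a' ha' a ha⟩) y hy
    rw [← commutatorElement_inv]
    exact inv_mem this
  exact ((Subgroup.commutator_le.mpr hgen) hw).2

/-- The replacement subgroup. -/
def repl (A : Subgroup G) (b : G) : Subgroup G :=
  (A ⊓ A.map (MulAut.conj (b⁻¹)).toMonoidHom) ⊔
    Subgroup.closure {g : G | ∃ a ∈ A, g = a * b⁻¹ * a⁻¹ * b}

theorem replClosure_eq (A : Subgroup G) (b : G) :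
    Subgroup.closure {g : G | ∃ a ∈ A, g = a * b⁻¹ * a⁻¹ * b} = bA A b := by
  apply le_antisymm <;> rw [bA, Subgroup.closure_le] <;> rintro _ ⟨a, ha, rfl⟩
  · rw [SetLike.mem_coe, show a * b⁻¹ * a⁻¹ * b = (b⁻¹ * a * b * a⁻¹)⁻¹ by simp [mul_assoc]]
    exact inv_mem (Subgroup.subset_closure ⟨a, ha, rfl⟩)
  · rw [SetLike.mem_coe, show b⁻¹ * a * b * a⁻¹ = (a * b⁻¹ * a⁻¹ * b)⁻¹ by simp [mul_assoc]]
    exact inv_mem (Subgroup.subset_closure ⟨a, ha, rfl⟩)

theorem exists_normalizing_element {S : Type*} [Group S] [Finite S] {p : ℕ} [Fact p.Prime]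
    (hS : IsPGroup p S) (B : Subgroup S) [B.Normal] (A : Subgroup S)
    (hnot : ¬ B ≤ Subgroup.normalizer (A : Set S)) :
    ∃ b ∈ B, b ∈ Subgroup.normalizer ((Subgroup.normalizer (A : Set S)) : Set S) ∧
      b ∉ Subgroup.normalizer (A : Set S) := by
  let N := Subgroup.normalizer (A : Set S)
  have hlt : N.subgroupOf (N ⊔ B) < ⊤ := by
    rw [lt_top_iff_ne_top]
    intro h
    exact hnot (le_sup_right.trans (Subgroup.subgroupOf_eq_top.mp h))
  haveI : Group.IsNilpotent ↥(N ⊔ B) := (hS.to_subgroup _).isNilpotent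
  obtain ⟨⟨y, hy⟩, hyN, hynot⟩ := SetLike.exists_of_lt
    (Group.normalizerCondition_of_isNilpotent _ hlt)
  obtain ⟨n, hn, b, hb, hnb⟩ := Subgroup.mem_sup_of_normal_right.mp hy
  change n * b = y at hnb
  refine ⟨b, hb, ?_, fun hbN => hynot (show y ∈ N from hnb ▸ mul_mem hn hbN)⟩
  have hyn : y ∈ Subgroup.normalizer (N : Set S) := by
    apply mem_normalizer_of_conj_mem
    intro x hx
    exact (Subgroup.mem_normalizer_iff.mp hyN ⟨x, Subgroup.mem_sup_left hx⟩).mp hx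
  rw [← inv_mul_cancel_left n b, hnb]
  exact mul_mem (inv_mem (Subgroup.le_normalizer hn)) hyn

/-- **Glauberman replacement.** -/
theorem glauberman_replacement {S : Type*} [Group S] [Finite S] {p : ℕ} [Fact p.Prime]
    (hS : IsPGroup p S) (B : Subgroup S) [B.Normal] (hB2 : p = 2 → IsMulCommutative B)
    (A : Subgroup S) (hA : IsMulCommutative A) (hBA : ⁅B, B⁆ ≤ A) (b : S) (hb : b ∈ B)
    (hbN : b ∈ Subgroup.normalizer ((Subgroup.normalizer (A : Set S)) : Set S))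
    (hbA : b ∉ Subgroup.normalizer (A : Set S)) :
    Nat.card (repl A b) = Nat.card A ∧ IsMulCommutative (repl A b) ∧ ⁅B, B⁆ ≤ repl A b ∧
      A ⊓ B < repl A b ⊓ B ∧ repl A b ⊓ B < B ∧
      A ≤ Subgroup.normalizer (repl A b : Set S) ∧ repl A b ≤ Subgroup.normalizer (A : Set S) ∧
      b ∈ Subgroup.normalizer (repl A b : Set S) ∧
      Subgroup.normalizer (A : Set S) < Subgroup.normalizer (repl A b : Set S) ∧
      (p ≠ 2 → Monoid.exponent (repl A b) ∣ Monoid.exponent A) := by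
  classical
  set N := Subgroup.normalizer (A : Set S) with hN
  set A₂ := A.map (MulAut.conj (b⁻¹)).toMonoidHom with hA₂
  set C := A ⊓ A₂ with hC
  set X := bA A b with hX
  have hrepl : repl A b = C ⊔ X := by rw [repl, replClosure_eq]
  have hA₂mem : ∀ y, y ∈ A₂ ↔ b * y * b⁻¹ ∈ A := fun y => by
    rw [hA₂, Subgroup.mem_map_equiv]; simp
  have hAN : A ≤ N := Subgroup.le_normalizer
  have hA₂N : A₂ ≤ N := by
    intro y hy
    exact (Subgroup.mem_normalizer_iff.mp hbN y).mpr (hAN ((hA₂mem y).mp hy))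
  have hNA : ∀ n ∈ N, ∀ x ∈ A, n * x * n⁻¹ ∈ A := fun n hn x hx =>
    (Subgroup.mem_normalizer_iff.mp hn x).mp hx
  have hNA₂ : ∀ n ∈ N, ∀ x ∈ A₂, n * x * n⁻¹ ∈ A₂ := by
    intro n hn x hx
    rw [hA₂mem] at hx ⊢
    have h' := hNA _ ((Subgroup.mem_normalizer_iff.mp hbN n).mp hn) _ hx
    simpa [mul_assoc] using h'
  have hA₂c : IsMulCommutative A₂ := by
    rw [hA₂]; infer_instance
  have hAc : ∀ x ∈ A, ∀ y ∈ A, Commute x y := fun x hx y hy =>
    congrArg Subtype.val (hA.is_comm.comm ⟨x, hx⟩ ⟨y, hy⟩)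
  have hA₂c' : ∀ x ∈ A₂, ∀ y ∈ A₂, Commute x y := fun x hx y hy =>
    congrArg Subtype.val (hA₂c.is_comm.comm ⟨x, hx⟩ ⟨y, hy⟩)
  set T := A ⊔ A₂ with hT
  have hTN : T ≤ N := sup_le hAN hA₂N
  have hCc : ∀ x ∈ T, ∀ c ∈ C, Commute x c := by
    have : T ≤ Subgroup.centralizer (C : Set S) := by
      refine sup_le (fun x hx => ?_) fun x hx => ?_ <;>
        refine Subgroup.mem_centralizer_iff.mpr fun c hc => ?_
      · exact hAc c hc.1 x hx
      · exact hA₂c' c hc.2 x hx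
    exact fun x hx c hc => (Subgroup.mem_centralizer_iff.mp (this hx) c hc).symm
  have hA₂gen : ∀ a ∈ A, b⁻¹ * a * b ∈ A₂ := fun a ha => by
    rw [hA₂mem]; simpa [mul_assoc] using ha
  have hXT : X ≤ T := by
    rw [hX, bA, Subgroup.closure_le]
    rintro _ ⟨a, ha, rfl⟩
    exact mul_mem (Subgroup.mem_sup_right (hA₂gen a ha)) (Subgroup.mem_sup_left (inv_mem ha))
  have hTA : ⁅T, A⁆ ≤ C := by
    rw [Subgroup.commutator_le]
    intro x hx y hy
    refine ⟨A.mul_mem (hNA x (hTN hx) y hy) (A.inv_mem hy), ?_⟩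
    rw [hT, Subgroup.sup_eq_closure] at hx
    have hsub : ∀ u ∈ (A : Set S) ∪ (A₂ : Set S), u ∈ N := by
      rintro u (hu | hu)
      · exact hAN hu
      · exact hA₂N hu
    suffices h : ∀ y ∈ A, ⁅x, y⁆ ∈ A₂ ∧ x ∈ N from (h y hy).1
    induction hx using Subgroup.closure_induction with
    | mem u hu =>
      intro y hy
      refine ⟨?_, hsub u hu⟩
      rcases hu with hu | hu
      · rw [commutatorElement_eq_one_iff_commute.mpr (hAc u hu y hy)]; exact one_mem _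
      · rw [show ⁅u, y⁆ = u * (y * u⁻¹ * y⁻¹) by simp [commutatorElement_def, mul_assoc]]
        exact mul_mem hu (hNA₂ y (hAN hy) _ (inv_mem hu))
    | one => intro y hy; exact ⟨by simpa using one_mem A₂, one_mem _⟩
    | mul u v _ _ hu hv =>
      intro y hy
      refine ⟨?_, mul_mem (hu y hy).2 (hv y hy).2⟩
      rw [show ⁅u * v, y⁆ = u * ⁅v, y⁆ * u⁻¹ * ⁅u, y⁆ by simp [commutatorElement_def, mul_assoc]]
      exact mul_mem (hNA₂ u (hu y hy).2 _ (hv y hy).1) (hu y hy).1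
    | inv u _ hu =>
      intro y hy
      refine ⟨?_, inv_mem (hu y hy).2⟩
      rw [show ⁅u⁻¹, y⁆ = u⁻¹ * ⁅u, y⁆⁻¹ * u⁻¹⁻¹ by simp [commutatorElement_def, mul_assoc]]
      exact hNA₂ _ (inv_mem (hu y hy).2) _ (inv_mem (hu y hy).1)
  have hAB : A ≤ Subgroup.normalizer (B : Set S) := by
    rw [Subgroup.normalizer_eq_top B]; exact le_top
  have hXB : X ≤ B :=
    (bA_le A B b hb).trans (Subgroup.le_normalizer_iff_commutator_le_left.mp hAB)
  -- `X` is abelian
  have hXc : ∀ x ∈ X, ∀ y ∈ X, Commute x y := by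
    intro x hx y hy
    by_cases hp2 : p = 2
    · exact congrArg Subtype.val ((hB2 hp2).is_comm.comm ⟨x, hXB hx⟩ ⟨y, hXB hy⟩)
    · have hc0 : ⁅⁅B, B⁆, A⁆ = ⊥ := by
        rw [eq_bot_iff, Subgroup.commutator_le]
        intro u hu v hv
        exact Subgroup.mem_bot.mpr (commutatorElement_eq_one_iff_commute.mpr (hAc u (hBA hu) v hv))
      have hq : ⁅⁅X, A⁆, A⁆ = ⊥ := by
        rw [eq_bot_iff, Subgroup.commutator_le]
        intro u hu v hv
        exact Subgroup.mem_bot.mpr (commutatorElement_eq_one_iff_commute.mpr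
          (hCc v (Subgroup.mem_sup_left hv) u (hTA (Subgroup.commutator_mono hXT le_rfl hu))).symm)
      have h2 := derived_bA_sq A B hAB hc0 hA b hb hq _ (Subgroup.commutator_mem_commutator hx hy)
      obtain ⟨j, hj⟩ := hS ⁅x, y⁆
      have h1 : orderOf ⁅x, y⁆ ∣ Nat.gcd 2 (p ^ j) :=
        Nat.dvd_gcd (orderOf_dvd_of_pow_eq_one h2) (orderOf_dvd_of_pow_eq_one hj)
      have hcop : Nat.Coprime 2 (p ^ j) :=
        (((Nat.coprime_primes Nat.prime_two (Fact.out : p.Prime)).mpr (Ne.symm hp2))).pow_right j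
      rw [hcop, Nat.dvd_one, orderOf_eq_one_iff] at h1
      exact commutatorElement_eq_one_iff_commute.mp h1
  have hRT : repl A b ≤ T := hrepl ▸ sup_le (inf_le_left.trans le_sup_left) hXT
  have hRc : IsMulCommutative (repl A b) := by
    rw [hrepl, ← Subgroup.le_centralizer_iff_isMulCommutative]
    refine sup_le (fun x hx => ?_) fun x hx => ?_ <;>
      refine Subgroup.mem_centralizer_iff.mpr fun y hy => ?_
    · exact (hCc y ((sup_le (inf_le_left.trans le_sup_left) hXT : C ⊔ X ≤ T) hy) x hx).eq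
    · have : C ⊔ X ≤ Subgroup.centralizer ({x} : Set S) := by
        refine sup_le (fun c hc => ?_) fun z hz => ?_
        · exact Subgroup.mem_centralizer_singleton_iff.mpr (hCc x (hXT hx) c hc).eq.symm
        · exact Subgroup.mem_centralizer_singleton_iff.mpr (hXc z hz x hx).eq
      exact Subgroup.mem_centralizer_singleton_iff.mp (this hy)
  -- intersections with `B`
  have hBn : ∀ (g : S) (x : S), x ∈ B → g * x * g⁻¹ ∈ B := fun g x hx =>
    (inferInstance : B.Normal).conj_mem x hx g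
  have hB' : ∀ g : S, ∀ x ∈ ⁅B, B⁆, g * x * g⁻¹ ∈ ⁅B, B⁆ := fun g x hx =>
    (inferInstance : (⁅B, B⁆).Normal).conj_mem x hx g
  have hABA₂ : A ⊓ B ≤ A₂ := by
    rintro x ⟨hx, hxB⟩
    rw [hA₂mem, show b * x * b⁻¹ = ⁅b, x⁆ * x by simp [commutatorElement_def, mul_assoc]]
    exact mul_mem (hBA (Subgroup.commutator_mem_commutator hb hxB)) hx
  have hABC : A ⊓ B ≤ C := le_inf inf_le_left hABA₂
  have hA₂BC : A₂ ⊓ B ≤ C := by
    rintro x ⟨hx, hxB⟩
    refine ⟨?_, hx⟩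
    have h1 : b * x * b⁻¹ ∈ A ⊓ B := ⟨(hA₂mem x).mp hx, hBn b x hxB⟩
    have e : x = ⁅b, x⁆⁻¹ * (b * x * b⁻¹) := by simp [commutatorElement_def, mul_assoc]
    rw [e]
    exact A.mul_mem (A.inv_mem (hBA (Subgroup.commutator_mem_commutator hb hxB))) h1.1
  have hB'C : ⁅B, B⁆ ≤ C := le_trans (le_inf hBA (Subgroup.commutator_le_self B)) hABC
  have hRA : repl A b ⊓ A = C := by
    apply le_antisymm
    · rintro x ⟨hx, hxA⟩
      rw [hrepl] at hx
      obtain ⟨c, hc, z, hz, rfl⟩ : ∃ c ∈ C, ∃ z ∈ X, c * z = x := by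
        have hn : X ≤ Subgroup.normalizer (C : Set S) := fun z hz => by
          apply mem_normalizer_of_conj_mem
          intro c hc
          rw [(hCc z (hXT hz) c hc).eq, mul_inv_cancel_right]; exact hc
        have hx' : x ∈ ((C ⊔ X : Subgroup S) : Set S) := hx
        rw [Subgroup.coe_mul_of_right_le_normalizer_left C X hn] at hx'
        exact Set.mem_mul.mp hx'
      have hzA : z ∈ A := (Subgroup.mul_mem_cancel_left A hc.1).mp hxA
      exact mul_mem hc (hABC ⟨hzA, hXB hz⟩)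
    · exact le_inf (hrepl ▸ le_sup_left) inf_le_left
  have hA₂R : A₂ ≤ repl A b ⊔ A := by
    intro y hy
    have hy' : b * y * b⁻¹ ∈ A := (hA₂mem y).mp hy
    have h1 : b⁻¹ * (b * y * b⁻¹) * b * (b * y * b⁻¹)⁻¹ ∈ repl A b :=
      hrepl ▸ Subgroup.mem_sup_right (Subgroup.subset_closure ⟨_, hy', rfl⟩)
    have e : y = b⁻¹ * (b * y * b⁻¹) * b * (b * y * b⁻¹)⁻¹ * (b * y * b⁻¹) := by simp [mul_assoc]
    rw [e]
    exact Subgroup.mul_mem_sup h1 hy'
  have hsup : repl A b ⊔ A = T :=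
    le_antisymm (sup_le hRT le_sup_left) (sup_le le_sup_right hA₂R)
  have hRN : repl A b ≤ N := hRT.trans hTN
  have hcard : Nat.card (repl A b) = Nat.card A := by
    have h1 := card_sup_mul_card_inf (repl A b) A hRN
    rw [hsup, hRA] at h1
    have h2 := card_sup_mul_card_inf A₂ A hA₂N
    rw [sup_comm A₂ A, inf_comm A₂ A, ← hT, ← hC] at h2
    have h3 : Nat.card A₂ = Nat.card A := Subgroup.card_map_of_injective (MulAut.conj b⁻¹).injective
    rw [h3, h1] at h2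
    exact Nat.eq_of_mul_eq_mul_right Nat.card_pos h2
  have hnotle : ¬ A₂ ≤ A := by
    intro h
    apply hbA
    have e : A₂ = A := Subgroup.eq_of_le_of_card_ge h
      (le_of_eq (Subgroup.card_map_of_injective (MulAut.conj b⁻¹).injective).symm)
    apply mem_normalizer_of_conj_mem
    intro x hx
    exact (hA₂mem x).mp (e ▸ hx)
  have hlt1 : A ⊓ B < repl A b ⊓ B := by
    refine lt_of_le_of_ne (le_inf (hABC.trans (hrepl ▸ le_sup_left)) inf_le_right) fun e => hnotle ?_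
    intro y hy
    have hy' : b * y * b⁻¹ ∈ A := (hA₂mem y).mp hy
    have h1 : b⁻¹ * (b * y * b⁻¹) * b * (b * y * b⁻¹)⁻¹ ∈ A ⊓ B := by
      rw [e]
      exact ⟨hrepl ▸ Subgroup.mem_sup_right (Subgroup.subset_closure ⟨_, hy', rfl⟩),
        hXB (Subgroup.subset_closure ⟨_, hy', rfl⟩)⟩
    have e' : y = b⁻¹ * (b * y * b⁻¹) * b * (b * y * b⁻¹)⁻¹ * (b * y * b⁻¹) := by simp [mul_assoc]
    rw [e']
    exact A.mul_mem h1.1 hy'
  have hlt2 : repl A b ⊓ B < B := by
    refine lt_of_le_of_ne inf_le_right fun e => hbA ?_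
    exact hRN ((inf_eq_right.mp e) hb)
  have hCN : ∀ n ∈ N, ∀ c ∈ C, n * c * n⁻¹ ∈ C := fun n hn c hc =>
    ⟨hNA n hn c hc.1, hNA₂ n hn c hc.2⟩
  have hconjR : ∀ g : S, (∀ c ∈ C, g * c * g⁻¹ ∈ repl A b) →
      (∀ a ∈ A, g * (b⁻¹ * a * b * a⁻¹) * g⁻¹ ∈ repl A b) →
      g ∈ Subgroup.normalizer (repl A b : Set S) := by
    intro g h1 h2
    apply mem_normalizer_of_conj_mem
    have : repl A b ≤ (repl A b).comap (MulAut.conj g).toMonoidHom := by
      conv_lhs => rw [hrepl]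
      refine sup_le (fun c hc => ?_) ?_
      · simpa using h1 c hc
      · rw [hX, bA, Subgroup.closure_le]
        rintro _ ⟨a, ha, rfl⟩
        simpa using h2 a ha
    exact fun x hx => by simpa using this hx
  have hCR : C ≤ repl A b := hrepl ▸ le_sup_left
  have hXR : X ≤ repl A b := hrepl ▸ le_sup_right
  have hbR : b ∈ Subgroup.normalizer (repl A b : Set S) := by
    refine hconjR b (fun c hc => ?_) fun a ha => ?_
    · have hA1 : b * c * b⁻¹ ∈ A := (hA₂mem c).mp hc.2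
      have h1 : ⁅b, c⁆ ∈ A ⊓ B := by
        rw [show ⁅b, c⁆ = b * c * b⁻¹ * c⁻¹ from rfl]
        refine ⟨A.mul_mem hA1 (A.inv_mem hc.1), ?_⟩
        rw [mul_assoc b c, mul_assoc b]
        exact B.mul_mem hb (hBn c _ (B.inv_mem hb))
      rw [show b * c * b⁻¹ = ⁅b, c⁆ * c by simp [commutatorElement_def, mul_assoc]]
      exact mul_mem (hCR (hABC h1)) (hCR hc)
    · have hgX : b⁻¹ * a * b * a⁻¹ ∈ X := Subgroup.subset_closure ⟨a, ha, rfl⟩
      rw [show b * (b⁻¹ * a * b * a⁻¹) * b⁻¹ =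
        ⁅b, b⁻¹ * a * b * a⁻¹⁆ * (b⁻¹ * a * b * a⁻¹) by simp [commutatorElement_def, mul_assoc]]
      exact mul_mem (hCR (hB'C (Subgroup.commutator_mem_commutator hb (hXB hgX)))) (hXR hgX)
  have hNR : N ≤ Subgroup.normalizer (repl A b : Set S) := by
    intro n hn
    refine hconjR n (fun c hc => hCR (hCN n hn c hc)) fun a ha => ?_
    set β := b⁻¹ * n * b * n⁻¹ with hβ
    have hbn : b⁻¹ * n * b ∈ N := by
      rw [Subgroup.mem_normalizer_iff] at hbN
      refine (hbN _).mpr ?_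
      simpa [mul_assoc] using hn
    have hβN : β ∈ N := mul_mem hbn (inv_mem hn)
    have hβB : β ∈ B := by
      rw [hβ, mul_assoc (b⁻¹) n, mul_assoc (b⁻¹)]
      exact mul_mem (inv_mem hb) (hBn n b hb)
    have ha' : n * a * n⁻¹ ∈ A := hNA n hn a ha
    set y := b⁻¹ * (n * a * n⁻¹) * b with hy
    have hyA : y ∈ A₂ := hA₂gen _ ha'
    have e : n * (b⁻¹ * a * b * a⁻¹) * n⁻¹ = ⁅β⁻¹, y⁆ * (y * (n * a * n⁻¹)⁻¹) := by
      simp [hβ, hy, commutatorElement_def, mul_assoc]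
    rw [e]
    refine mul_mem (hCR (hA₂BC ⟨?_, ?_⟩)) (hXR (Subgroup.subset_closure ⟨_, ha', rfl⟩))
    · exact A₂.mul_mem (hNA₂ _ (inv_mem hβN) y hyA) (A₂.inv_mem hyA)
    · rw [show ⁅β⁻¹, y⁆ = β⁻¹ * (y * β * y⁻¹) by simp [commutatorElement_def, mul_assoc]]
      exact B.mul_mem (B.inv_mem hβB) (hBn y β hβB)
  have hNlt : N < Subgroup.normalizer (repl A b : Set S) :=
    lt_of_le_of_ne hNR fun e => hbA (show b ∈ N by rw [e]; exact hbR)
  refine ⟨hcard, hRc, hB'C.trans hCR, hlt1, hlt2, hAN.trans hNR, hRN, hbR, hNlt, fun hp2 => ?_⟩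
  -- the exponent
  set m := Monoid.exponent A with hm
  have hAm : ∀ x ∈ A, x ^ m = 1 := fun x hx => by
    simpa [hm] using congrArg Subtype.val (Monoid.pow_exponent_eq_one (⟨x, hx⟩ : A))
  obtain ⟨j, hj⟩ : ∃ j, m = p ^ j := by
    obtain ⟨r, hr⟩ := IsPGroup.iff_card.mp (hS.to_subgroup A)
    obtain ⟨j, -, hj⟩ := (Nat.dvd_prime_pow (Fact.out : p.Prime)).mp
      (hr ▸ Group.exponent_dvd_nat_card (G := A))
    exact ⟨j, hj⟩
  have hchoose : m ∣ m.choose 2 := by
    rw [Nat.choose_two_right]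
    have hodd : Odd m := hj ▸ ((Fact.out : p.Prime).odd_of_ne_two hp2).pow
    obtain ⟨r, hr⟩ := hodd
    exact ⟨r, by rw [show m * (m - 1) = 2 * (m * r) by rw [show m - 1 = 2 * r by omega]; ring,
      Nat.mul_div_cancel_left _ (by norm_num : 0 < 2)]⟩
  have hgenm : ∀ a ∈ A, (b⁻¹ * a * b * a⁻¹) ^ m = 1 := by
    intro a ha
    set y := b⁻¹ * a * b with hy
    have hyT : y ∈ T := Subgroup.mem_sup_right (hA₂gen a ha)
    have haT : a⁻¹ ∈ T := Subgroup.mem_sup_left (inv_mem ha)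
    have hz : ⁅a⁻¹, y⁆ ∈ C := by
      rw [← commutatorElement_inv]
      exact C.inv_mem (hTA (Subgroup.commutator_mem_commutator hyT (A.inv_mem ha)))
    rw [Cfsg.Agent.PGroup.mul_pow_of_commute_commutator (hCc _ hyT _ hz).symm (hCc _ haT _ hz).symm]
    have hym : y ^ m = 1 := by
      rw [hy, show b⁻¹ * a * b = b⁻¹ * a * b⁻¹⁻¹ by rw [inv_inv], conj_pow, hAm a ha]
      simp
    obtain ⟨t, ht⟩ := hchoose
    rw [hym, inv_pow, hAm a ha, inv_one, mul_one, one_mul, ht, pow_mul, hAm _ hz.1, one_pow]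
  have hRm : ∀ x ∈ repl A b, x ^ m = 1 := by
    let P : Subgroup S :=
      { carrier := {x | x ∈ repl A b ∧ x ^ m = 1}
        one_mem' := ⟨one_mem _, one_pow m⟩
        mul_mem' := fun {x y} hx hy => ⟨mul_mem hx.1 hy.1, by
          have : Commute x y := congrArg Subtype.val (hRc.is_comm.comm ⟨x, hx.1⟩ ⟨y, hy.1⟩)
          rw [this.mul_pow, hx.2, hy.2, one_mul]⟩
        inv_mem' := fun {x} hx => ⟨inv_mem hx.1, by rw [inv_pow, hx.2, inv_one]⟩ }
    have : repl A b ≤ P := by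
      conv_lhs => rw [hrepl]
      refine sup_le (fun c hc => ⟨hCR hc, hAm c hc.1⟩) ?_
      rw [hX, bA, Subgroup.closure_le]
      rintro _ ⟨a, ha, rfl⟩
      exact ⟨hXR (Subgroup.subset_closure ⟨a, ha, rfl⟩), hgenm a ha⟩
    exact fun x hx => (this hx).2
  exact Monoid.exponent_dvd_of_forall_pow_eq_one fun x => Subtype.ext (by simpa using hRm x x.2)

end Cfsg.Agent.PLocalB
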