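import Mathlib
import Cfsg.Prelude.Def_PLocal
import Cfsg.Agent.PLocalB.Replacement
import Cfsg.Agent.Lib.Thompson.Cores

/-!
Glauberman's `ZJ` theorem, for a general family of abelian subgroups of largest order.
-/

set_option autoImplicit false
set_option linter.style.haveILetI false

open scoped commutatorElement

namespace Cfsg.Agent.PLocalB

variable {G : Type*} [Group G]

/-- A class of abelian subgroups closed under automorphisms and under bounded exponent. -/
structure AbFamily (G : Type*) [Group G] where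
  /-- the members -/
  good : Subgroup G → Prop
  good_bot : good ⊥
  comm : ∀ A, good A → IsMulCommutative A
  map_aut : ∀ (A : Subgroup G) (φ : G ≃* G), good A → good (A.map φ.toMonoidHom)
  of_exponent : ∀ A B : Subgroup G, good A → IsMulCommutative B →
    Monoid.exponent B ∣ Monoid.exponent A → good B

/-- The family of all abelian subgroups. -/
def abelianFamily (G : Type*) [Group G] : AbFamily G where
  good A := IsMulCommutative A
  good_bot := inferInstance
  comm _ h := h
  map_aut A φ h := by haveI := h; infer_instance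
  of_exponent _ _ _ h _ := h

theorem elementary_iff_exponent (p : ℕ) (A : Subgroup G) :
    (∀ a ∈ A, a ^ p = 1) ↔ Monoid.exponent A ∣ p := by
  constructor
  · exact fun h => Monoid.exponent_dvd_of_forall_pow_eq_one fun a => Subtype.ext (by simpa using h a a.2)
  · intro h a ha
    simpa using congrArg Subtype.val
      (Monoid.exponent_dvd_iff_forall_pow_eq_one.mp h ⟨a, ha⟩)

/-- The family of elementary abelian subgroups. -/
def elementaryFamily (p : ℕ) (G : Type*) [Group G] : AbFamily G where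
  good A := IsElementaryAbelian p A
  good_bot := ⟨inferInstance, fun a ha => by rw [Subgroup.mem_bot.mp ha, one_pow]⟩
  comm _ h := h.1
  map_aut A φ h := ⟨by haveI := h.1; infer_instance, by
    rintro _ ⟨a, ha, rfl⟩
    rw [← map_pow, h.2 a ha, map_one]⟩
  of_exponent A B h hB hd :=
    ⟨hB, (elementary_iff_exponent p B).mpr (hd.trans ((elementary_iff_exponent p A).mp h.2))⟩

variable (F : AbFamily G)

/-- `A` is a member of largest order inside `H`. -/
def AbFamily.IsMax (H A : Subgroup G) : Prop :=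
  A ≤ H ∧ F.good A ∧ ∀ B : Subgroup G, B ≤ H → F.good B → Nat.card B ≤ Nat.card A

/-- The intersection of the members of largest order inside `H`. -/
def AbFamily.core (H : Subgroup G) : Subgroup G := sInf {A | F.IsMax H A}

theorem AbFamily.exists_isMax [Finite G] (H : Subgroup G) : ∃ A, F.IsMax H A := by
  obtain ⟨A, hA, hmax⟩ := Set.exists_max_image {A : Subgroup G | A ≤ H ∧ F.good A}
    (fun A => Nat.card A) (Set.toFinite _) ⟨⊥, bot_le, F.good_bot⟩
  exact ⟨A, hA.1, hA.2, fun B h1 h2 => hmax B ⟨h1, h2⟩⟩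

theorem AbFamily.core_le_of_isMax {H A : Subgroup G} (h : F.IsMax H A) : F.core H ≤ A :=
  sInf_le h

theorem AbFamily.core_le [Finite G] (H : Subgroup G) : F.core H ≤ H := by
  obtain ⟨A, hA⟩ := F.exists_isMax H
  exact (F.core_le_of_isMax hA).trans hA.1

theorem AbFamily.isMax_map [Finite G] {H A : Subgroup G} (h : F.IsMax H A) (φ : G ≃* G) :
    F.IsMax (H.map φ.toMonoidHom) (A.map φ.toMonoidHom) := by
  refine ⟨Subgroup.map_mono h.1, F.map_aut A φ h.2.1, fun B hB hgood => ?_⟩
  have h1 := h.2.2 (B.map φ.symm.toMonoidHom) (by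
    rintro _ ⟨x, hx, rfl⟩
    obtain ⟨y, hy, rfl⟩ := hB hx
    simpa using hy) (F.map_aut B φ.symm hgood)
  rw [Subgroup.card_map_of_injective (f := φ.symm.toMonoidHom) φ.symm.injective] at h1
  exact h1.trans_eq (Subgroup.card_map_of_injective (f := φ.toMonoidHom) φ.injective).symm

theorem AbFamily.map_core [Finite G] (H : Subgroup G) (φ : G ≃* G) :
    (F.core H).map φ.toMonoidHom = F.core (H.map φ.toMonoidHom) := by
  have key : ∀ (H : Subgroup G) (φ : G ≃* G),
      (F.core H).map φ.toMonoidHom ≤ F.core (H.map φ.toMonoidHom) := by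
    intro H φ
    refine le_sInf fun A hA => ?_
    have h := F.isMax_map hA φ.symm
    have e : (H.map φ.toMonoidHom).map φ.symm.toMonoidHom = H := by
      rw [Subgroup.map_map]; convert Subgroup.map_id H; ext x; simp
    rw [e] at h
    rintro _ ⟨x, hx, rfl⟩
    obtain ⟨y, hy, rfl⟩ := F.core_le_of_isMax h hx
    simpa using hy
  refine le_antisymm (key H φ) fun y hy => ⟨φ.symm y, ?_, by simp⟩
  have h := key (H.map φ.toMonoidHom) φ.symm ⟨y, hy, rfl⟩
  rw [Subgroup.map_map, show φ.symm.toMonoidHom.comp φ.toMonoidHom = MonoidHom.id G by ext; simp,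
    Subgroup.map_id] at h
  exact h

theorem AbFamily.normalizer_le_core [Finite G] (H : Subgroup G) :
    Subgroup.normalizer (H : Set G) ≤ Subgroup.normalizer (F.core H : Set G) := by
  intro g hg
  apply mem_normalizer_of_conj_mem
  intro x hx
  have e : H.map (MulAut.conj g).toMonoidHom = H := by
    apply Subgroup.eq_of_le_of_card_ge
    · rintro _ ⟨y, hy, rfl⟩; exact (Subgroup.mem_normalizer_iff.mp hg y).mp hy
    · exact le_of_eq (Subgroup.card_map_of_injective (MulAut.conj g).injective).symm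
  have := F.map_core H (MulAut.conj g)
  rw [e] at this
  rw [← this]
  exact ⟨x, hx, rfl⟩

theorem AbFamily.core_comm [Finite G] (H : Subgroup G) : IsMulCommutative (F.core H) := by
  obtain ⟨A, hA⟩ := F.exists_isMax H
  haveI := F.comm A hA.2.1
  rw [← Subgroup.le_centralizer_iff_isMulCommutative]
  intro x hx
  refine Subgroup.mem_centralizer_iff.mpr fun y hy => ?_
  exact congrArg Subtype.val ((F.comm A hA.2.1).is_comm.comm
    ⟨y, F.core_le_of_isMax hA hy⟩ ⟨x, F.core_le_of_isMax hA hx⟩)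

/-- Replacement inside a `p`-subgroup `S`. -/
theorem replacement_in [Finite G] {p : ℕ} [Fact p.Prime] (S B A : Subgroup G) (hS : IsPGroup p S)
    (hBS : B ≤ S) (hSB : S ≤ Subgroup.normalizer (B : Set G)) (hB2 : p = 2 → IsMulCommutative B)
    (hAS : A ≤ S) (hA : IsMulCommutative A) (hBA : ⁅B, B⁆ ≤ A)
    (hnot : ¬ B ≤ Subgroup.normalizer (A : Set G)) :
    ∃ A' : Subgroup G, A' ≤ S ∧ Nat.card A' = Nat.card A ∧ IsMulCommutative A' ∧
      A' ≤ A ⊔ ⁅B, A⁆ ∧ ⁅B, B⁆ ≤ A' ∧ A ⊓ B < A' ⊓ B ∧ A' ⊓ B < B ∧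
      A ≤ Subgroup.normalizer (A' : Set G) ∧ A' ≤ Subgroup.normalizer (A : Set G) ∧
      (p ≠ 2 → Monoid.exponent A' ∣ Monoid.exponent A) := by
  set A₁ := A.subgroupOf S
  set B₁ := B.subgroupOf S
  haveI : B₁.Normal := (Subgroup.normal_subgroupOf_iff_le_normalizer hBS).mpr hSB
  have hinj := Subgroup.subtype_injective S
  have eA : A₁.map S.subtype = A := Subgroup.map_subgroupOf_eq_of_le hAS
  have eB : B₁.map S.subtype = B := Subgroup.map_subgroupOf_eq_of_le hBS
  have hN : ∀ H K : Subgroup S, H ≤ Subgroup.normalizer (K : Set S) ↔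
      H.map S.subtype ≤ Subgroup.normalizer ((K.map S.subtype : Subgroup G) : Set G) := by
    intro H K
    rw [Subgroup.le_normalizer_iff_commutator_le_right, Subgroup.le_normalizer_iff_commutator_le_right,
      ← Subgroup.map_commutator, Subgroup.map_le_map_iff_of_injective hinj]
  have hA₁ : IsMulCommutative A₁ := by haveI := hA; infer_instance
  have hB₁ : p = 2 → IsMulCommutative B₁ := fun h => by haveI := hB2 h; infer_instance
  have hBA₁ : ⁅B₁, B₁⁆ ≤ A₁ := by
    rw [← Subgroup.map_le_map_iff_of_injective hinj, Subgroup.map_commutator, eA, eB]; exact hBA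
  have hnot₁ : ¬ B₁ ≤ Subgroup.normalizer (A₁ : Set S) := by
    rw [hN, eA, eB]; exact hnot
  obtain ⟨b, hb, hbN, hbA⟩ := exists_normalizing_element hS B₁ A₁ hnot₁
  obtain ⟨h1, h2, h3, h4, h5, h6, h7, -, -, h10⟩ :=
    glauberman_replacement hS B₁ hB₁ A₁ hA₁ hBA₁ b hb hbN hbA
  have hle : repl A₁ b ≤ A₁ ⊔ ⁅B₁, A₁⁆ := by
    rw [repl, replClosure_eq]
    exact sup_le_sup inf_le_left (bA_le A₁ B₁ b hb)
  refine ⟨(repl A₁ b).map S.subtype, Subgroup.map_subtype_le _, ?_, ?_, ?_, ?_, ?_, ?_, ?_, ?_, ?_⟩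
  · rw [Subgroup.card_map_of_injective hinj, h1,
      ← Subgroup.card_map_of_injective (f := S.subtype) (K := A₁) hinj, eA]
  · haveI := h2; infer_instance
  · refine (Subgroup.map_mono hle).trans ?_
    rw [Subgroup.map_sup, Subgroup.map_commutator, eA, eB]
  · rw [← eB, ← Subgroup.map_commutator]; exact Subgroup.map_mono h3
  · rw [← eA, ← eB, ← Subgroup.map_inf _ _ _ hinj, ← Subgroup.map_inf _ _ _ hinj]
    exact Subgroup.map_lt_map_iff_of_injective hinj |>.mpr h4
  · rw [← eB, ← Subgroup.map_inf _ _ _ hinj]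
    exact Subgroup.map_lt_map_iff_of_injective hinj |>.mpr h5
  · rw [← eA]; exact (hN _ _).mp h6
  · rw [← eA]; exact (hN _ _).mp h7
  · intro hp
    rw [← Monoid.exponent_eq_of_mulEquiv ((repl A₁ b).equivMapOfInjective _ hinj),
      ← Monoid.exponent_eq_of_mulEquiv (Subgroup.subgroupOfEquivOfLe hAS)]
    exact h10 hp

/-- Frattini argument for the intersection of a Sylow subgroup with a normal subgroup. -/
theorem normalizer_inf_sup_eq_top [Finite G] {p : ℕ} [Fact p.Prime] (S : Sylow p G) (D : Subgroup G)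
    [D.Normal] : Subgroup.normalizer (((S : Subgroup G) ⊓ D : Subgroup G) : Set G) ⊔ D = ⊤ := by
  obtain ⟨T, hT⟩ := (S.2.to_le (inf_le_left : (S : Subgroup G) ⊓ D ≤ _)).of_equiv
    (Subgroup.subgroupOfEquivOfLe (inf_le_right : (S : Subgroup G) ⊓ D ≤ D)).symm |>.exists_le_sylow
  have hle : (S : Subgroup G) ⊓ D ≤ (T : Subgroup D).map D.subtype := by
    intro x hx; exact ⟨⟨x, hx.2⟩, hT hx, rfl⟩
  obtain ⟨P, hP⟩ := (T.2.map D.subtype).exists_le_sylow
  obtain ⟨g, rfl⟩ := MulAction.exists_smul_eq G S P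
  have hcard : Nat.card ((T : Subgroup D).map D.subtype) ≤ Nat.card ↥((S : Subgroup G) ⊓ D) := by
    rw [← Subgroup.card_map_of_injective (K := (S : Subgroup G) ⊓ D)
      (f := (MulAut.conj g).toMonoidHom) (MulAut.conj g).injective]
    refine Subgroup.card_le_of_le ?_
    intro x hx
    have hxD : x ∈ D := Subgroup.map_subtype_le _ hx
    obtain ⟨y, hy, rfl⟩ : x ∈ (S : Subgroup G).map (MulAut.conj g).toMonoidHom := hP hx
    refine ⟨y, ⟨hy, ?_⟩, rfl⟩
    simpa [mul_assoc] using (inferInstance : D.Normal).conj_mem _ hxD g⁻¹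
  rw [Subgroup.eq_of_le_of_card_ge hle hcard]
  exact Sylow.normalizer_sup_eq_top T

/-- A quadratic element lies in the preimage of `O_p (G / C(B))`. -/
theorem mem_comap_pCore_of_quadratic {p : ℕ} {B : Subgroup G} [B.Normal] (hst : IsPStableOn p B)
    (A : Subgroup G) (hq : ⁅⁅B, A⁆, A⁆ = ⊥) :
    A ≤ (pCore p (G ⧸ Subgroup.centralizer (B : Set G))).comap (QuotientGroup.mk' _) := by
  intro a ha
  have hle : Subgroup.zpowers a ≤ A := Subgroup.zpowers_le.mpr ha
  refine hst a (le_bot_iff.mp ?_)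
  rw [← hq]
  exact Subgroup.commutator_mono (Subgroup.commutator_mono le_rfl hle) hle

/-- The inductive core of Glauberman's theorem: stability is needed on the normal subgroups of
`O_p(G)` whose intersection with the core is not normal. -/
theorem AbFamily.core_inf_normal [Finite G] {p : ℕ} [Fact p.Prime] (hp : p ≠ 2) (S : Sylow p G)
    (hst : ∀ (P : Subgroup G) [P.Normal], P ≤ pCore p G → ¬ (P ⊓ F.core (S : Subgroup G)).Normal →
      IsPStableOn p P) :
    ∀ B : Subgroup G, B.Normal → B ≤ pCore p G → (B ⊓ F.core (S : Subgroup G)).Normal := by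
  classical
  set Z := F.core (S : Subgroup G) with hZ
  have hZS : Z ≤ (S : Subgroup G) := F.core_le _
  have hSZ : (S : Subgroup G) ≤ Subgroup.normalizer (Z : Set G) :=
    Subgroup.le_normalizer.trans (F.normalizer_le_core _)
  have hZc : IsMulCommutative Z := F.core_comm _
  set Q := pCore p G with hQdef
  have hQS : Q ≤ (S : Subgroup G) := Cfsg.Agent.Thompson.pCore_le_sylow S
  have hQp : IsPGroup p Q := Cfsg.Agent.Thompson.isPGroup_pCore
  intro B
  induction hn : Nat.card B using Nat.strong_induction_on generalizing B with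
  | _ n ih =>
  intro hB hBQ
  subst hn
  set Z₁ := B ⊓ Z with hZ₁
  set B₁ := Subgroup.normalClosure (Z₁ : Set G) with hB₁
  have hB₁B : B₁ ≤ B := Subgroup.normalClosure_le_normal (Set.Subset.trans (by simp [hZ₁]) (le_refl _))
  by_cases hlt : B₁ < B
  · have hcard : Nat.card B₁ < Nat.card B := by
      by_contra h
      exact hlt.ne (Subgroup.eq_of_le_of_card_ge hlt.le (Nat.not_lt.mp h))
    have := ih _ hcard B₁ rfl Subgroup.normalClosure_normal (hlt.le.trans hBQ)
    rwa [show B₁ ⊓ Z = Z₁ from le_antisymm (inf_le_inf_right _ hB₁B)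
      (le_inf Subgroup.le_normalClosure inf_le_right)] at this
  have hBeq : B₁ = B := eq_of_le_of_not_lt hB₁B hlt
  by_cases hbot : B = ⊥
  · rw [hZ₁, hbot, bot_inf_eq]; infer_instance
  by_contra hnn
  haveI := hB
  have hstB : IsPStableOn p B := hst B hBQ hnn
  have hBp : IsPGroup p B := hQp.to_le hBQ
  have hBS : B ≤ (S : Subgroup G) := hBQ.trans hQS
  have hB'lt : ⁅B, B⁆ < B := by
    haveI : Nontrivial B := Subgroup.nontrivial_iff_ne_bot B |>.mpr hbot
    haveI := hBp.isNilpotent
    have h1 : commutator B < ⊤ := Group.IsSolvable.commutator_lt_top_of_nontrivial B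
    have h2 := Subgroup.map_lt_map_iff_of_injective B.subtype_injective |>.mpr h1
    rwa [← MonoidHom.range_eq_map, Subgroup.range_subtype, Subgroup.map_subtype_commutator] at h2
  have hB'Z : ⁅B, B⁆ ≤ Z := by
    have hcard : Nat.card ↥⁅B, B⁆ < Nat.card B := by
      by_contra h
      exact hB'lt.ne (Subgroup.eq_of_le_of_card_ge hB'lt.le (Nat.not_lt.mp h))
    have hN : (⁅B, B⁆ ⊓ Z).Normal := ih _ hcard ⁅B, B⁆ rfl inferInstance (hB'lt.le.trans hBQ)
    -- `[Z₁, B] ≤ B' ⊓ Z`, a normal subgroup, so `B' = [Z₁^G, B] ≤ Z`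
    let T : Subgroup G := (Subgroup.centralizer
      ((B.map (QuotientGroup.mk' (⁅B, B⁆ ⊓ Z)) : Subgroup _) : Set _)).comap
        (QuotientGroup.mk' (⁅B, B⁆ ⊓ Z))
    have hT : ∀ x, x ∈ T ↔ ∀ y ∈ B, ⁅x, y⁆ ∈ ⁅B, B⁆ ⊓ Z := by
      intro x
      simp only [T, Subgroup.mem_comap, Subgroup.mem_centralizer_iff,
        Subgroup.coe_map, Set.forall_mem_image]
      refine forall₂_congr fun y _ => ?_
      rw [← QuotientGroup.eq_one_iff, eq_comm, commutatorElement_def]
      simp only [QuotientGroup.mk'_apply, QuotientGroup.mk_mul, QuotientGroup.mk_inv]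
      rw [mul_inv_eq_one, mul_inv_eq_iff_eq_mul]
    haveI : T.Normal := by
      haveI : (B.map (QuotientGroup.mk' (⁅B, B⁆ ⊓ Z))).Normal :=
        Subgroup.Normal.map hB _ (QuotientGroup.mk'_surjective _)
      infer_instance
    have hZT : Z₁ ≤ T := by
      intro x hx
      rw [hT]
      intro y hy
      refine ⟨Subgroup.commutator_mem_commutator hx.1 hy, ?_⟩
      have h1 := (Subgroup.mem_normalizer_iff.mp (hSZ (hBS hy)) x⁻¹).mp (inv_mem hx.2)
      rw [commutatorElement_def, mul_assoc x y, mul_assoc x]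
      exact mul_mem hx.2 h1
    have hBT : B ≤ T := hBeq ▸ Subgroup.normalClosure_le_normal hZT
    rw [Subgroup.commutator_le]
    exact fun x hx y hy => ((hT x).mp (hBT hx) y hy).2
  have hB2 : p = 2 → IsMulCommutative B := fun h => absurd h hp
  -- the subgroup `D`
  set D := (pCore p (G ⧸ Subgroup.centralizer (B : Set G))).comap
    (QuotientGroup.mk' (Subgroup.centralizer (B : Set G))) with hD
  have hCD : Subgroup.centralizer (B : Set G) ≤ D := fun x hx => by
    simp [hD, Subgroup.mem_comap, (QuotientGroup.eq_one_iff x).mpr hx]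
  let S₁ : Subgroup G := (S : Subgroup G) ⊓ D
  have hDgen : D = S₁ ⊔ Subgroup.centralizer (B : Set G) := by
    apply le_antisymm _ (sup_le inf_le_right hCD)
    have hmap : (S : Subgroup G).map (QuotientGroup.mk' (Subgroup.centralizer (B : Set G))) =
        (S.mapSurjective (QuotientGroup.mk'_surjective (Subgroup.centralizer (B : Set G))) :
          Subgroup _) := rfl
    intro x hx
    have h1 : QuotientGroup.mk' (Subgroup.centralizer (B : Set G)) x ∈
        (S : Subgroup G).map (QuotientGroup.mk' _) := by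
      rw [hmap]; exact Cfsg.Agent.Thompson.pCore_le_sylow _ hx
    obtain ⟨s, hs, hsx⟩ := h1
    have hcm : s⁻¹ * x ∈ Subgroup.centralizer (B : Set G) := QuotientGroup.eq.mp hsx
    have hsD : s ∈ D := by
      rw [← mul_inv_cancel_right s (s⁻¹ * x)]
      simpa [mul_assoc] using mul_mem hx (inv_mem (hCD hcm))
    rw [← mul_inv_cancel_left s x]
    exact Subgroup.mul_mem_sup ⟨hs, hsD⟩ hcm
  have hDZ : D ≤ Subgroup.normalizer (Z₁ : Set G) := by
    rw [hDgen]
    refine sup_le (fun s hs => ?_) fun c hcm => ?_ <;> apply mem_normalizer_of_conj_mem <;>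
      intro x hx
    · exact ⟨hB.conj_mem x hx.1 s, (Subgroup.mem_normalizer_iff.mp (hSZ hs.1) x).mp hx.2⟩
    · rwa [← Subgroup.mem_centralizer_iff.mp hcm x hx.1, mul_inv_cancel_right]
  have hquadD : ∀ A : Subgroup G, F.IsMax (S : Subgroup G) A →
      B ≤ Subgroup.normalizer (A : Set G) → A ≤ S₁ := by
    intro A hA hBN
    refine le_inf hA.1 (mem_comap_pCore_of_quadratic hstB A (le_bot_iff.mp ?_))
    refine (Subgroup.commutator_mono (Subgroup.le_normalizer_iff_commutator_le_right.mp hBN) le_rfl).trans ?_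
    rw [le_bot_iff, Subgroup.commutator_eq_bot_iff_le_centralizer]
    exact Subgroup.le_centralizer_iff_isMulCommutative.mpr (F.comm A hA.2.1)
  -- `G = D N(S₁)`, so `B ≤ core S₁` once some member of largest order lies in `S₁`
  have hkey : ∀ A' : Subgroup G, F.IsMax (S : Subgroup G) A' → A' ≤ S₁ → B ≤ A' := by
    intro A' hA' hle
    have hmax : F.IsMax S₁ A' :=
      ⟨hle, hA'.2.1, fun E hE hgood => hA'.2.2 E (hE.trans inf_le_left) hgood⟩
    have hZW : Z ≤ F.core S₁ := le_sInf fun E hE => F.core_le_of_isMax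
      ⟨hE.1.trans inf_le_left, hE.2.1, fun E' h1 h2 =>
        (hA'.2.2 E' h1 h2).trans (hE.2.2 A' hle hA'.2.1)⟩
    have hfr : Subgroup.normalizer (S₁ : Set G) ⊔ D = ⊤ := by
      exact normalizer_inf_sup_eq_top S D
    refine le_trans ?_ (F.core_le_of_isMax hmax)
    conv_lhs => rw [← hBeq]
    rw [hB₁, Subgroup.normalClosure, Subgroup.closure_le]
    intro x hx
    obtain ⟨z, hz, hzx⟩ := Group.mem_conjugatesOfSet_iff.mp hx
    obtain ⟨g, rfl⟩ := isConj_iff.mp hzx
    obtain ⟨m, hm, d, hd, rfl⟩ := Subgroup.mem_sup_of_normal_right.mp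
      (hfr ▸ Subgroup.mem_top g : g ∈ Subgroup.normalizer (S₁ : Set G) ⊔ D)
    have h1 : d * z * d⁻¹ ∈ F.core S₁ :=
      hZW ((Subgroup.mem_normalizer_iff.mp (hDZ hd) z).mp hz).2
    have := (Subgroup.mem_normalizer_iff.mp (F.normalizer_le_core _ hm) _).mp h1
    simpa [mul_assoc] using this
  by_cases hall : ∀ A, F.IsMax (S : Subgroup G) A → A ≤ S₁
  · obtain ⟨A, hA⟩ := F.exists_isMax (S : Subgroup G)
    have hB₀ : ∀ A, F.IsMax (S : Subgroup G) A → B ≤ A := fun A h => hkey A h (hall A h)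
    apply hnn
    have : Z₁ = B := inf_eq_left.mpr (le_sInf hB₀)
    rw [hZ₁] at this ⊢
    rw [this]; exact hB
  push Not at hall
  obtain ⟨A, ⟨hA, hAnle⟩, hAmax⟩ := Set.exists_max_image
    {A | F.IsMax (S : Subgroup G) A ∧ ¬ A ≤ S₁} (fun A => Nat.card ↥(A ⊓ B)) (Set.toFinite _)
    (hall.imp fun A h => h)
  have hnotN : ¬ B ≤ Subgroup.normalizer (A : Set G) := fun h => hAnle (hquadD A hA h)
  obtain ⟨A', hA'S, hcard, hA'c, -, -, hlt1, hlt2, -, -, hexp⟩ := replacement_in (S : Subgroup G) B A S.2 hBS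
    (by rw [Subgroup.normalizer_eq_top B]; exact le_top) hB2 hA.1 (F.comm A hA.2.1)
    (hB'Z.trans (F.core_le_of_isMax hA)) hnotN
  have hA' : F.IsMax (S : Subgroup G) A' :=
    ⟨hA'S, F.of_exponent A A' hA.2.1 hA'c (hexp hp), fun E h1 h2 => hcard ▸ hA.2.2 E h1 h2⟩
  have hA'S₁ : A' ≤ S₁ := by
    by_contra h
    have h1 := hAmax A' ⟨hA', h⟩
    exact absurd (Subgroup.eq_of_le_of_card_ge hlt1.le h1) hlt1.ne
  exact hlt2.ne (inf_eq_right.mpr (hkey A' hA' hA'S₁))

/-- **Glauberman's ZJ theorem.** -/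
theorem AbFamily.core_normal [Finite G] {p : ℕ} [Fact p.Prime] (hp : p ≠ 2)
    (hc : Subgroup.centralizer (pCore p G : Set G) ≤ pCore p G)
    (hst : ∀ (P : Subgroup G) [P.Normal], IsPGroup p P → IsPStableOn p P) (S : Sylow p G) :
    (F.core (S : Subgroup G)).Normal := by
  classical
  set Z := F.core (S : Subgroup G) with hZ
  have hZS : Z ≤ (S : Subgroup G) := F.core_le _
  have hSZ : (S : Subgroup G) ≤ Subgroup.normalizer (Z : Set G) :=
    Subgroup.le_normalizer.trans (F.normalizer_le_core _)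
  have hZc : IsMulCommutative Z := F.core_comm _
  set Q := pCore p G with hQdef
  have hQS : Q ≤ (S : Subgroup G) := Cfsg.Agent.Thompson.pCore_le_sylow S
  have hQp : IsPGroup p Q := Cfsg.Agent.Thompson.isPGroup_pCore
  -- `Z ≤ O_p(G)`
  have hZQ : Z ≤ Q := by
    have hq : ⁅⁅Q, Z⁆, Z⁆ = ⊥ := by
      have h1 : ⁅Q, Z⁆ ≤ Z := Subgroup.le_normalizer_iff_commutator_le_right.mp (hQS.trans hSZ)
      refine le_bot_iff.mp ((Subgroup.commutator_mono h1 le_rfl).trans ?_)
      rw [le_bot_iff, Subgroup.commutator_eq_bot_iff_le_centralizer]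
      exact Subgroup.le_centralizer_iff_isMulCommutative.mpr hZc
    refine (mem_comap_pCore_of_quadratic (hst Q hQp) Z hq).trans ?_
    refine Cfsg.Agent.Thompson.le_pCore inferInstance ?_
    refine IsPGroup.comap_of_ker_isPGroup Cfsg.Agent.Thompson.isPGroup_pCore _ ?_
    rw [QuotientGroup.ker_mk']
    exact hQp.to_le hc
  have := F.core_inf_normal hp S
    (fun P _ hP _ => hst P ((Cfsg.Agent.Thompson.isPGroup_pCore).to_le hP)) Q inferInstance le_rfl
  rwa [← hZ, inf_eq_right.mpr hZQ] at this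

theorem AbFamily.core_characteristic [Finite G] {p : ℕ} [Fact p.Prime] (hp : p ≠ 2)
    (hc : Subgroup.centralizer (pCore p G : Set G) ≤ pCore p G)
    (hst : ∀ (P : Subgroup G) [P.Normal], IsPGroup p P → IsPStableOn p P) (S : Sylow p G) :
    (F.core (S : Subgroup G)).Characteristic := by
  rw [Subgroup.characteristic_iff_map_eq]
  intro φ
  rw [F.map_core]
  obtain ⟨g, hg⟩ := MulAction.exists_smul_eq G S (S.mapSurjective (f := φ.toMonoidHom) φ.surjective)
  have e : (S : Subgroup G).map φ.toMonoidHom =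
      (S : Subgroup G).map (MulAut.conj g).toMonoidHom := by
    have := congrArg (fun T : Sylow p G => (T : Subgroup G)) hg
    simp only [Sylow.coe_subgroup_smul] at this
    exact this.symm
  rw [e, ← F.map_core]
  haveI := F.core_normal hp hc hst S
  exact Subgroup.Normal.map_conj_eq _ g

end Cfsg.Agent.PLocalB
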