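import Mathlib
import Cfsg.Prelude.Def_PLocal
import Cfsg.Agent.PLocalB.ZJ

/-!
The intersection of the abelian (elementary abelian) subgroups of largest order and the centre of the
Thompson subgroup.
-/

set_option autoImplicit false
set_option linter.style.haveILetI false

namespace Cfsg.Agent.PLocalB

variable {G : Type*} [Group G]

theorem isMulCommutative_sup_zpowers {A : Subgroup G} (hA : IsMulCommutative A) {x : G}
    (hx : ∀ a ∈ A, a * x = x * a) : IsMulCommutative ↥(A ⊔ Subgroup.zpowers x) := by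
  rw [← Subgroup.le_centralizer_iff_isMulCommutative]
  have h1 : A ⊔ Subgroup.zpowers x ≤ Subgroup.centralizer ({x} : Set G) :=
    sup_le (fun a ha => Subgroup.mem_centralizer_singleton_iff.mpr (hx a ha))
      (Subgroup.zpowers_le.mpr (Subgroup.mem_centralizer_singleton_iff.mpr rfl))
  have h2 : A ⊔ Subgroup.zpowers x ≤ Subgroup.centralizer (A : Set G) :=
    sup_le (Subgroup.le_centralizer_iff_isMulCommutative.mpr hA)
      (Subgroup.zpowers_le.mpr (Subgroup.mem_centralizer_iff.mpr fun a ha => hx a ha))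
  refine sup_le ?_ ?_
  · exact Subgroup.le_centralizer_iff.mp h2
  · refine Subgroup.zpowers_le.mpr (Subgroup.mem_centralizer_iff.mpr fun y hy => ?_)
    exact Subgroup.mem_centralizer_singleton_iff.mp (h1 hy)

/-- Members of largest order absorb elements centralizing them. -/
theorem AbFamily.mem_of_centralizes [Finite G] (F : AbFamily G) {H A : Subgroup G}
    (hA : F.IsMax H A) {x : G} (hxH : x ∈ H) (hgood : F.good (A ⊔ Subgroup.zpowers x)) : x ∈ A := by
  have h := hA.2.2 _ (sup_le hA.1 (Subgroup.zpowers_le.mpr hxH)) hgood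
  have e := Subgroup.eq_of_le_of_card_ge (le_sup_left : A ≤ A ⊔ Subgroup.zpowers x) h
  rw [e]
  exact Subgroup.mem_sup_right (Subgroup.mem_zpowers x)

theorem abelian_isMax_iff [Finite G] (H A : Subgroup G) :
    (abelianFamily G).IsMax H A ↔ A ≤ H ∧ A.subgroupOf H ∈ maxAbelianSubgroups H := by
  constructor
  · rintro ⟨hle, hc, hmax⟩
    haveI : IsMulCommutative A := hc
    refine ⟨hle, inferInstance, fun B hB => ?_⟩
    rw [Nat.card_congr (Subgroup.subgroupOfEquivOfLe hle).toEquiv,
      ← Subgroup.card_map_of_injective H.subtype_injective]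
    haveI := hB
    exact hmax _ (Subgroup.map_subtype_le B) (show IsMulCommutative _ from inferInstance)
  · rintro ⟨hle, hc, hmax⟩
    refine ⟨hle, ?_, fun B hB hBc => ?_⟩
    · haveI := hc
      show IsMulCommutative A
      rw [← Subgroup.map_subgroupOf_eq_of_le hle]; infer_instance
    · haveI : IsMulCommutative B := hBc
      have := hmax (B.subgroupOf H) inferInstance
      rwa [Nat.card_congr (Subgroup.subgroupOfEquivOfLe hB).toEquiv,
        Nat.card_congr (Subgroup.subgroupOfEquivOfLe hle).toEquiv] at this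

theorem elementary_isMax_iff [Finite G] (p : ℕ) (H A : Subgroup G) :
    (elementaryFamily p G).IsMax H A ↔ A ≤ H ∧ A.subgroupOf H ∈ maxElementaryAbelianSubgroups p H := by
  constructor
  · rintro ⟨hle, hc, hmax⟩
    haveI := hc.1
    refine ⟨hle, ⟨inferInstance, fun a ha => Subtype.ext (by simpa using hc.2 a ha)⟩, fun B hB => ?_⟩
    rw [Nat.card_congr (Subgroup.subgroupOfEquivOfLe hle).toEquiv,
      ← Subgroup.card_map_of_injective H.subtype_injective]
    haveI := hB.1
    refine hmax _ (Subgroup.map_subtype_le B) ⟨inferInstance, ?_⟩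
    rintro _ ⟨b, hb, rfl⟩
    rw [← map_pow, hB.2 b hb, map_one]
  · rintro ⟨hle, hc, hmax⟩
    refine ⟨hle, ⟨?_, fun a ha => ?_⟩, fun B hB hBc => ?_⟩
    · haveI := hc.1
      show IsMulCommutative A
      rw [← Subgroup.map_subgroupOf_eq_of_le hle]; infer_instance
    · simpa using congrArg Subtype.val (hc.2 ⟨a, hle ha⟩ ha)
    · haveI := hBc.1
      have := hmax (B.subgroupOf H) ⟨inferInstance, fun b hb => Subtype.ext (by simpa using hBc.2 b hb)⟩
      rwa [Nat.card_congr (Subgroup.subgroupOfEquivOfLe hB).toEquiv,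
        Nat.card_congr (Subgroup.subgroupOfEquivOfLe hle).toEquiv] at this

theorem thompsonSubgroupAOf_eq [Finite G] (H : Subgroup G) :
    thompsonSubgroupAOf H = sSup {A | (abelianFamily G).IsMax H A} := by
  apply le_antisymm
  · rw [thompsonSubgroupAOf, thompsonSubgroupA, Subgroup.map_le_iff_le_comap]
    refine sSup_le fun A hA => Subgroup.map_le_iff_le_comap.mp (le_sSup ?_)
    refine (abelian_isMax_iff H _).mpr ⟨Subgroup.map_subtype_le A, ?_⟩
    rwa [show (A.map H.subtype).subgroupOf H = A from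
      Subgroup.comap_map_eq_self_of_injective H.subtype_injective A]
  · refine sSup_le fun A hA => ?_
    obtain ⟨hle, hmem⟩ := (abelian_isMax_iff H A).mp hA
    rw [← Subgroup.map_subgroupOf_eq_of_le hle]
    exact Subgroup.map_mono (le_sSup hmem)

theorem thompsonSubgroupOf_eq' [Finite G] (p : ℕ) (H : Subgroup G) :
    thompsonSubgroupOf p H = sSup {A | (elementaryFamily p G).IsMax H A} := by
  apply le_antisymm
  · rw [thompsonSubgroupOf, thompsonSubgroup, Subgroup.map_le_iff_le_comap]
    refine sSup_le fun A hA => Subgroup.map_le_iff_le_comap.mp (le_sSup ?_)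
    refine (elementary_isMax_iff p H _).mpr ⟨Subgroup.map_subtype_le A, ?_⟩
    rwa [show (A.map H.subtype).subgroupOf H = A from
      Subgroup.comap_map_eq_self_of_injective H.subtype_injective A]
  · refine sSup_le fun A hA => ?_
    obtain ⟨hle, hmem⟩ := (elementary_isMax_iff p H A).mp hA
    rw [← Subgroup.map_subgroupOf_eq_of_le hle]
    exact Subgroup.map_mono (le_sSup hmem)

/-- `Z(J(P))`, abelian version, is the intersection of the abelian subgroups of largest order. -/
theorem centerThompsonAOf_eq_core [Finite G] (H : Subgroup G) :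
    centerThompsonAOf H = (abelianFamily G).core H := by
  rw [centerThompsonAOf, thompsonSubgroupAOf_eq]
  set J := sSup {A | (abelianFamily G).IsMax H A} with hJ
  have hJH : J ≤ H := sSup_le fun A hA => hA.1
  apply le_antisymm
  · refine le_sInf fun A hA x hx => ?_
    exact (abelianFamily G).mem_of_centralizes hA (hJH hx.1)
      (isMulCommutative_sup_zpowers hA.2.1 fun a ha =>
        Subgroup.mem_centralizer_iff.mp hx.2 a (le_sSup hA ha))
  · obtain ⟨A, hA⟩ := (abelianFamily G).exists_isMax H
    refine le_inf (((abelianFamily G).core_le_of_isMax hA).trans (le_sSup hA : A ≤ J)) ?_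
    refine Subgroup.le_centralizer_iff.mp (sSup_le fun B hB b hb => ?_)
    refine Subgroup.mem_centralizer_iff.mpr fun x hx => ?_
    exact congrArg Subtype.val ((hB.2.1 : IsMulCommutative B).is_comm.comm
      ⟨x, (abelianFamily G).core_le_of_isMax hB hx⟩ ⟨b, hb⟩)

theorem omegaOne_map (p : ℕ) {H : Type*} [Group H] (f : G →* H) (hf : Function.Injective f)
    (K : Subgroup G) : (omegaOne p K).map f = omegaOne p (K.map f) := by
  rw [omegaOne, omegaOne, MonoidHom.map_closure]
  congr 1
  ext y
  constructor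
  · rintro ⟨x, ⟨hx, hxp⟩, rfl⟩
    exact ⟨⟨x, hx, rfl⟩, by rw [← map_pow, hxp, map_one]⟩
  · rintro ⟨⟨x, hx, rfl⟩, hxp⟩
    exact ⟨x, ⟨hx, hf (by rw [map_pow, hxp, map_one])⟩, rfl⟩

/-- `Ω₁(Z(J_e(P)))` is the intersection of the elementary abelian subgroups of largest order. -/
theorem omega_center_eq_core [Finite G] (p : ℕ) (H : Subgroup G) :
    omegaOne p (thompsonSubgroupOf p H ⊓ Subgroup.centralizer (thompsonSubgroupOf p H : Set G)) =
      (elementaryFamily p G).core H := by
  rw [thompsonSubgroupOf_eq']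
  set J := sSup {A | (elementaryFamily p G).IsMax H A} with hJ
  have hJH : J ≤ H := sSup_le fun A hA => hA.1
  apply le_antisymm
  · rw [omegaOne, Subgroup.closure_le]
    rintro x ⟨hx, hxp⟩
    refine Subgroup.mem_sInf.mpr fun A hA => ?_
    have hcom := isMulCommutative_sup_zpowers hA.2.1.1 fun a ha =>
        Subgroup.mem_centralizer_iff.mp hx.2 a (le_sSup hA ha)
    refine (elementaryFamily p G).mem_of_centralizes hA (hJH hx.1) ⟨hcom, fun y hy => ?_⟩
    let P : Subgroup G :=
      { carrier := {g | g ∈ A ⊔ Subgroup.zpowers x ∧ g ^ p = 1}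
        one_mem' := ⟨one_mem _, one_pow p⟩
        mul_mem' := fun {u v} hu hv => ⟨mul_mem hu.1 hv.1, by
          have : Commute u v := congrArg Subtype.val (hcom.is_comm.comm ⟨u, hu.1⟩ ⟨v, hv.1⟩)
          rw [this.mul_pow, hu.2, hv.2, one_mul]⟩
        inv_mem' := fun {u} hu => ⟨inv_mem hu.1, by rw [inv_pow, hu.2, inv_one]⟩ }
    have : A ⊔ Subgroup.zpowers x ≤ P := sup_le
      (fun a ha => ⟨Subgroup.mem_sup_left ha, hA.2.1.2 a ha⟩)
      (Subgroup.zpowers_le.mpr ⟨Subgroup.mem_sup_right (Subgroup.mem_zpowers x), hxp⟩)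
    exact (this hy).2
  · obtain ⟨A, hA⟩ := (elementaryFamily p G).exists_isMax H
    intro x hx
    refine Subgroup.subset_closure ⟨⟨(le_sSup hA : A ≤ J) ((elementaryFamily p G).core_le_of_isMax hA hx), ?_⟩,
      hA.2.1.2 x ((elementaryFamily p G).core_le_of_isMax hA hx)⟩
    revert x
    refine Subgroup.le_centralizer_iff.mp (sSup_le fun B hB b hb => ?_)
    refine Subgroup.mem_centralizer_iff.mpr fun x hx => ?_
    exact congrArg Subtype.val (hB.2.1.1.is_comm.comm
      ⟨x, (elementaryFamily p G).core_le_of_isMax hB hx⟩ ⟨b, hb⟩)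

theorem omegaCenterThompson_map_eq_core [Finite G] (p : ℕ) (H : Subgroup G) :
    (omegaCenterThompson p H).map H.subtype = (elementaryFamily p G).core H := by
  rw [omegaCenterThompson, omegaOne_map p _ H.subtype_injective, ← omega_center_eq_core,
    Subgroup.map_inf _ _ _ H.subtype_injective]
  congr 1
  apply le_antisymm
  · refine le_inf inf_le_left ?_
    rintro y ⟨hy1, c, hc, rfl⟩
    rw [thompsonSubgroupOf, Subgroup.mem_centralizer_iff]
    rintro _ ⟨u, hu, rfl⟩
    exact congrArg Subtype.val (Subgroup.mem_centralizer_iff.mp hc u hu)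
  · rintro y ⟨hy, hyc⟩
    obtain ⟨c, hc, rfl⟩ := hy
    refine ⟨⟨c, hc, rfl⟩, c, Subgroup.mem_centralizer_iff.mpr fun u hu => Subtype.ext ?_, rfl⟩
    exact Subgroup.mem_centralizer_iff.mp hyc _ ⟨u, hu, rfl⟩

end Cfsg.Agent.PLocalB
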