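import Mathlib
import Cfsg.Agent.ConjFunctor.Basic

/-!
An eigenvalue from the prime field on a section of an abelian `p`-group is an eigenvalue on an
element of order `p`, and a full set of powers acting on a subgroup of order `p`.
-/

set_option autoImplicit false
set_option linter.style.haveILetI false

namespace Cfsg.Agent.PLocalB

open Cfsg.Agent.ConjFunctor

variable {p : ℕ} [Fact p.Prime]

/-- A primitive root modulo `p`. -/
theorem exists_primitive_root (p : ℕ) [Fact p.Prime] :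
    ∃ n : ZMod p, n ≠ 0 ∧ orderOf n = p - 1 ∧ ∀ a : ZMod p, a ≠ 0 → ∃ i : ℕ, n ^ i = a := by
  obtain ⟨u, hu⟩ := IsCyclic.exists_monoid_generator (α := (ZMod p)ˣ)
  refine ⟨(u : ZMod p), Units.ne_zero u, ?_, fun a ha => ?_⟩
  · rw [orderOf_units, orderOf_eq_card_of_forall_mem_zpowers (g := u) fun x => ?_,
      Nat.card_eq_fintype_card, ZMod.card_units]
    exact mem_powers_iff_mem_zpowers.1 (hu x)
  · obtain ⟨i, hi⟩ := Submonoid.mem_powers_iff _ _ |>.1 (hu (Units.mk0 a ha))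
    exact ⟨i, by simpa using congrArg Units.val hi⟩

/-- The averaging argument in an abelian `p`-group. -/
theorem exists_eigen_of_section {A : Type*} [CommGroup A] [Finite A] (hA : IsPGroup p A)
    (θ : MulAut A) {M : ℕ} (hM : (p - 1) ∣ M) (hpM : ¬ p ∣ M) (hθ : θ ^ M = 1)
    (Y : Subgroup A) (hY : ∀ y ∈ Y, θ y ∈ Y) {x : A} (hx : x ∉ Y) (hxp : x ^ p ∈ Y) {n : ZMod p}
    (hn : n ≠ 0) (hnx : θ x * (x ^ n.val)⁻¹ ∈ Y) :
    ∃ w : A, orderOf w = p ∧ θ w = w ^ n.val := by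
  classical
  obtain ⟨k, hk⟩ := IsPGroup.iff_card.1 hA
  have hp1 : 0 < p - 1 := Nat.sub_pos_of_lt (Fact.out : p.Prime).one_lt
  set N := n.val ^ p ^ k with hN
  have hmod : ∀ a b : ℕ, ((a : ZMod (p ^ k)) = b) → ∀ z : A, z ^ a = z ^ b := by
    intro a b hab z
    have hz : z ^ p ^ k = 1 := hk ▸ pow_card_eq_one'
    rw [pow_eq_pow_mod a hz, pow_eq_pow_mod b hz, (ZMod.natCast_eq_natCast_iff' a b _).1 hab]
  have hN1 : ((N ^ (p - 1) : ℕ) : ZMod (p ^ k)) = 1 := by
    have h1 : (p : ℤ) ∣ ((n.val ^ (p - 1) : ℕ) : ℤ) - 1 := by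
      rw [← ZMod.intCast_zmod_eq_zero_iff_dvd]
      push_cast
      rw [ZMod.natCast_zmod_val, ZMod.pow_card_sub_one_eq_one hn, sub_self]
    have h2 := dvd_sub_pow_of_dvd_sub h1 k
    rw [one_pow] at h2
    have h3 : ((p ^ k : ℕ) : ℤ) ∣ ((N ^ (p - 1) : ℕ) : ℤ) - 1 := by
      refine dvd_trans ?_ (?_ : (p : ℤ) ^ (k + 1) ∣ _)
      · push_cast; exact pow_dvd_pow _ (Nat.le_succ k)
      · rw [hN, ← pow_mul, mul_comm, pow_mul]
        push_cast at h2 ⊢
        exact h2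
    rw [← ZMod.intCast_zmod_eq_zero_iff_dvd] at h3
    push_cast at h3 ⊢
    exact sub_eq_zero.1 h3
  set c := N ^ (p - 1 - 1) with hc
  have hcN : ((c * N : ℕ) : ZMod (p ^ k)) = 1 := by
    rw [hc, ← pow_succ, Nat.sub_add_cancel hp1]; exact hN1
  have hcM : ((c ^ M : ℕ) : ZMod (p ^ k)) = 1 := by
    obtain ⟨d, rfl⟩ := hM
    rw [hc, ← pow_mul, mul_comm, mul_assoc, pow_mul]
    push_cast at hN1 ⊢
    rw [hN1, one_pow]
  have hNp : ((N : ℕ) : ZMod p) = n := by
    rw [hN]; push_cast; rw [ZMod.natCast_zmod_val, ZMod.pow_card_pow]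
  let F : ℕ → A := fun i => ((θ ^ i) x) ^ (c ^ i)
  set π := ∏ i ∈ Finset.range M, F i with hπ
  have hFM : F M = F 0 := by
    show ((θ ^ M) x) ^ (c ^ M) = ((θ ^ 0) x) ^ (c ^ 0)
    rw [hθ, pow_zero θ]
    exact hmod _ _ (by rw [hcM, pow_zero, Nat.cast_one]) x
  have hshift : ∏ i ∈ Finset.range M, F (i + 1) = π := by
    have h1 : ∏ i ∈ Finset.range (M + 1), F i = π * F M := Finset.prod_range_succ F M
    rw [Finset.prod_range_succ', hFM] at h1
    exact mul_right_cancel h1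
  have hθπ : θ π = π ^ N := by
    conv_rhs => rw [← hshift]
    rw [hπ, map_prod, ← Finset.prod_pow]
    refine Finset.prod_congr rfl fun i _ => ?_
    show θ (((θ ^ i) x) ^ (c ^ i)) = (((θ ^ (i + 1)) x) ^ (c ^ (i + 1))) ^ N
    rw [map_pow, pow_succ' θ, MulAut.mul_apply, ← pow_mul (θ ((θ ^ i) x))]
    refine hmod _ _ ?_ _
    rw [pow_succ, mul_assoc]
    push_cast at hcN ⊢
    rw [hcN, mul_one]
  have hπY : π ∉ Y := by
    set f := QuotientGroup.mk' Y with hf
    have hiter : ∀ i : ℕ, f ((θ ^ i) x) = f x ^ (n.val ^ i) := by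
      intro i
      induction i with
      | zero => simp
      | succ i ih =>
        have h1 : (θ ^ i) x * (x ^ (n.val ^ i))⁻¹ ∈ Y := by
          rw [← QuotientGroup.eq_one_iff]
          show f _ = 1
          rw [map_mul, map_inv, map_pow, ih, mul_inv_cancel]
        have h2 := hY _ h1
        rw [← QuotientGroup.eq_one_iff] at h2 hnx
        change f _ = 1 at h2 hnx
        rw [map_mul θ, map_inv θ, map_pow θ, map_mul, map_inv, map_pow, mul_inv_eq_one] at h2
        rw [map_mul, map_inv, map_pow, mul_inv_eq_one] at hnx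
        rw [pow_succ' θ, MulAut.mul_apply, h2, hnx, ← pow_mul, pow_succ']
    have hord : orderOf (f x) = p :=
      orderOf_eq_prime (by rw [← map_pow]; exact (QuotientGroup.eq_one_iff _).2 hxp)
        (fun h => hx ((QuotientGroup.eq_one_iff _).1 h))
    have hone : ∀ i : ℕ, f (F i) = f x := by
      intro i
      show f (((θ ^ i) x) ^ (c ^ i)) = f x
      rw [map_pow, hiter, ← pow_mul]
      conv_rhs => rw [← pow_one (f x)]
      rw [pow_eq_pow_iff_modEq, hord, ← ZMod.natCast_eq_natCast_iff, hc]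
      push_cast
      rw [ZMod.natCast_zmod_val, hNp, ← mul_pow, ← pow_succ', Nat.sub_add_cancel hp1,
        ZMod.pow_card_sub_one_eq_one hn, one_pow]
    intro hmem
    have h1 : f π = 1 := (QuotientGroup.eq_one_iff _).2 hmem
    rw [hπ, map_prod, Finset.prod_congr rfl fun i _ => hone i, Finset.prod_const,
      Finset.card_range] at h1
    exact hpM (hord ▸ orderOf_dvd_of_pow_eq_one h1)
  have hπ1 : π ≠ 1 := fun h => hπY (h ▸ one_mem Y)
  obtain ⟨t, ht⟩ := IsPGroup.iff_orderOf.1 hA π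
  obtain _ | t := t
  · exact absurd (orderOf_eq_one_iff.1 (by simpa using ht)) hπ1
  have hw : orderOf (π ^ p ^ t) = p := by
    rw [orderOf_pow' _ (pow_pos (Fact.out : p.Prime).pos t).ne', ht,
      Nat.gcd_eq_right (pow_dvd_pow p (Nat.le_succ t)), pow_succ,
      Nat.mul_div_cancel_left _ (pow_pos (Fact.out : p.Prime).pos t)]
  refine ⟨π ^ p ^ t, hw, ?_⟩
  rw [map_pow, hθπ, ← pow_mul, mul_comm, pow_mul, pow_eq_pow_iff_modEq, hw,
    ← ZMod.natCast_eq_natCast_iff, hNp, ZMod.natCast_zmod_val]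

/-- The eigenvalue on an element of order `p`, in group form. -/
theorem exists_weight {G : Type*} [Group G] [Finite G] {X Y : Subgroup G} (hXp : IsPGroup p ↥X)
    (hXc : IsMulCommutative ↥X) {g x : G} (hgX : g ∈ nrm X) (hgY : g ∈ nrm Y) (hYX : Y ≤ X)
    (hxX : x ∈ X) (hx : x ∉ Y) (hxp : x ^ p ∈ Y) {n : ZMod p} (hn : n ≠ 0)
    (hgx : g * x * g⁻¹ * (x ^ n.val)⁻¹ ∈ Y) :
    ∃ g' ∈ Subgroup.zpowers g, ∃ w ∈ X, orderOf w = p ∧ g' * w * g'⁻¹ = w ^ n.val := by
  letI : CommGroup ↥X := { (inferInstance : Group ↥X) with mul_comm := hXc.is_comm.comm }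
  obtain ⟨a, m, hm, hgm⟩ :=
    Nat.exists_eq_pow_mul_and_not_dvd (orderOf_pos g).ne' p (Fact.out : p.Prime).ne_one
  set g' := g ^ p ^ a with hg'
  let θ : MulAut ↥X := X.normalizerMonoidHom ⟨g', pow_mem hgX _⟩
  have hθ : ∀ y : ↥X, ((θ y : ↥X) : G) = g' * y * g'⁻¹ := fun y => rfl
  have hp1 : 0 < p - 1 := Nat.sub_pos_of_lt (Fact.out : p.Prime).one_lt
  have hpM : ¬ p ∣ (p - 1) * m := by
    rw [(Fact.out : p.Prime).dvd_mul]
    rintro (h | h)
    · exact absurd (Nat.le_of_dvd hp1 h) (by omega)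
    · exact hm h
  have hθM : θ ^ ((p - 1) * m) = 1 := by
    have h0 : (⟨g', pow_mem hgX _⟩ : ↥(nrm X)) ^ ((p - 1) * m) = 1 := by
      refine Subtype.ext ?_
      show g' ^ ((p - 1) * m) = 1
      rw [hg', ← pow_mul, ← mul_assoc, mul_comm (p ^ a), mul_assoc, ← hgm, mul_comm, pow_mul,
        pow_orderOf_eq_one, one_pow]
    show (X.normalizerMonoidHom _) ^ _ = 1
    rw [← map_pow, h0, map_one]
  have key : ∀ i : ℕ, g ^ i * x * (g ^ i)⁻¹ * (x ^ (n.val ^ i))⁻¹ ∈ Y := by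
    intro i
    induction i with
    | zero => simp
    | succ i ih =>
      set d := g * x * g⁻¹ * (x ^ n.val)⁻¹ with hd
      have hdX : d ∈ X := X.mul_mem (conj_mem_of_nrm hgX hxX) (X.inv_mem (X.pow_mem hxX _))
      have h2 : (g * x * g⁻¹) ^ (n.val ^ i) * (x ^ (n.val ^ (i + 1)))⁻¹ ∈ Y := by
        have hc : Commute d (x ^ n.val) :=
          congrArg Subtype.val (hXc.is_comm.comm (⟨d, hdX⟩ : ↥X) ⟨_, X.pow_mem hxX _⟩)
        rw [show g * x * g⁻¹ = d * x ^ n.val by rw [hd]; group, hc.mul_pow, ← pow_mul,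
          ← pow_succ', mul_inv_cancel_right]
        exact pow_mem hgx _
      have h3 := conj_mem_of_nrm hgY ih
      have h4 := mul_mem h3 h2
      rw [conj_pow] at h4
      rw [pow_succ' g]
      convert h4 using 1
      group
  have hnpow : (n ^ p ^ a) = n := ZMod.pow_card_pow n
  have hx' : θ ⟨x, hxX⟩ * ((⟨x, hxX⟩ : ↥X) ^ n.val)⁻¹ ∈ Y.subgroupOf X := by
    rw [Subgroup.mem_subgroupOf]
    show g' * x * g'⁻¹ * (x ^ n.val)⁻¹ ∈ Y
    have h1 := key (p ^ a)
    rw [← hg'] at h1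
    have h2 : x ^ (n.val ^ p ^ a) * (x ^ n.val)⁻¹ ∈ Y := by
      obtain ⟨e, he⟩ : (p : ℤ) ∣ ((n.val ^ p ^ a : ℕ) : ℤ) - (n.val : ℤ) := by
        rw [← ZMod.intCast_zmod_eq_zero_iff_dvd]
        push_cast
        rw [ZMod.natCast_zmod_val, hnpow, sub_self]
      rw [← zpow_natCast x (n.val ^ p ^ a), ← zpow_natCast x n.val, ← zpow_sub, he, zpow_mul,
        zpow_natCast]
      exact zpow_mem hxp e
    convert mul_mem h1 h2 using 1
    group
  obtain ⟨w, hw, hθw⟩ := exists_eigen_of_section hXp θ (dvd_mul_right (p - 1) m) hpM hθM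
    (Y.subgroupOf X)
    (fun y hy => by
      rw [Subgroup.mem_subgroupOf] at hy ⊢
      rw [hθ]
      exact conj_mem_of_nrm (pow_mem hgY _) hy)
    (x := ⟨x, hxX⟩) (fun h => hx (Subgroup.mem_subgroupOf.1 h)) (Subgroup.mem_subgroupOf.2 hxp) hn hx'
  refine ⟨g', pow_mem (Subgroup.mem_zpowers g) _, w, w.2, by rw [Subgroup.orderOf_coe]; exact hw, ?_⟩
  rw [← hθ, hθw]
  rfl

/-- Full automizer of a subgroup of order `p`. -/
theorem relIndex_centralizer_eq {G : Type*} [Group G] [Finite G] {H : Subgroup G} {g w : G}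
    (hg : g ∈ H) (hw : orderOf w = p) {n : ZMod p} (hn : orderOf n = p - 1)
    (hgw : g * w * g⁻¹ = w ^ n.val) :
    (H ⊓ Subgroup.centralizer (Subgroup.zpowers w : Set G)).relIndex
      (H ⊓ Subgroup.normalizer (Subgroup.zpowers w : Set G)) = p - 1 := by
  classical
  set C := Subgroup.zpowers w with hC
  set N := H ⊓ nrm C with hN
  have hcard : Nat.card ↥C = p := by rw [hC, Nat.card_zpowers, hw]
  haveI : IsCyclic ↥C := isCyclic_of_prime_card hcard
  let φ : ↥N →* MulAut ↥C := C.normalizerMonoidHom.comp (Subgroup.inclusion inf_le_right)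
  have hker : (H ⊓ Subgroup.centralizer (C : Set G)).subgroupOf N = φ.ker := by
    ext a
    rw [Subgroup.mem_subgroupOf, MonoidHom.mem_ker, MonoidHom.comp_apply, ← MonoidHom.mem_ker,
      Subgroup.normalizerMonoidHom_ker, Subgroup.mem_subgroupOf, Subgroup.coe_inclusion]
    exact ⟨fun h => h.2, fun h => ⟨a.2.1, h⟩⟩
  show (H ⊓ Subgroup.centralizer (C : Set G)).relIndex N = p - 1
  rw [Subgroup.relIndex, hker, Subgroup.index_ker]
  refine le_antisymm ?_ ?_
  · refine (Finite.card_subtype_le _).trans ?_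
    rw [IsCyclic.card_mulAut, hcard, Nat.totient_prime Fact.out]
  · have hgN : g ∈ N := by
      refine ⟨hg, mem_nrm_of_forall fun y hy => ?_⟩
      obtain ⟨j, rfl⟩ := Subgroup.mem_zpowers_iff.1 hy
      rw [← conj_zpow, hgw]
      exact zpow_mem (pow_mem (Subgroup.mem_zpowers w) _) _
    have hiter : ∀ i : ℕ, g ^ i * w * (g ^ i)⁻¹ = w ^ (n.val ^ i) := by
      intro i
      induction i with
      | zero => simp
      | succ i ih =>
        rw [pow_succ' g, show g * g ^ i * w * (g * g ^ i)⁻¹ = g * (g ^ i * w * (g ^ i)⁻¹) * g⁻¹ by group,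
          ih, ← conj_pow, hgw, ← pow_mul, pow_succ']
    let Φ : Fin (p - 1) → φ.range := fun i => ⟨φ (⟨g, hgN⟩ ^ (i : ℕ)), _, rfl⟩
    have hinj : Function.Injective Φ := by
      intro i j hij
      have h1 := congrArg (fun a : φ.range => (((a : MulAut ↥C) ⟨w, Subgroup.mem_zpowers w⟩ : ↥C) : G)) hij
      change g ^ (i : ℕ) * w * (g ^ (i : ℕ))⁻¹ = g ^ (j : ℕ) * w * (g ^ (j : ℕ))⁻¹ at h1
      rw [hiter, hiter, pow_eq_pow_iff_modEq, hw, ← ZMod.natCast_eq_natCast_iff] at h1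
      push_cast at h1
      rw [ZMod.natCast_zmod_val] at h1
      exact Fin.ext (pow_injOn_Iio_orderOf (by rw [Set.mem_Iio, hn]; exact i.2)
        (by rw [Set.mem_Iio, hn]; exact j.2) h1)
    simpa using Nat.card_le_card_of_injective Φ hinj

end Cfsg.Agent.PLocalB
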