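import Cfsg.Agent.PLocalB.QdSection
import Cfsg.Agent.LocalEven61.Involves
import Cfsg.Agent.ConjFunctor.Basic

/-!
A two dimensional section normalized by a transvection and by a torus element generating all of
`𝔽_p^×` gives an involvement of the group `F(p)`.
-/

set_option autoImplicit false
set_option linter.style.haveILetI false

open scoped MatrixGroups Matrix commutatorElement

namespace Cfsg.Agent.PLocalB

open Cfsg.Agent.ConjFunctor

variable {p : ℕ} [Fact p.Prime]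

@[simp] theorem coe_diagOne_zmod (a : ZMod p) (ha : a ≠ 0) :
    (diagOne a ha : Matrix (Fin 2) (Fin 2) (ZMod p)) = !![a, 0; 0, a⁻¹] := rfl

theorem aff_mem_fOver (v : Fin 2 → ZMod p) {M : SL(2, ZMod p)} (h : M 1 0 = 0) :
    aff v M ∈ Cfsg.fOver (ZMod p) :=
  Subgroup.subset_closure ⟨by simp [coe_aff, h], by simp [coe_aff], by simp [coe_aff],
    by simp [coe_aff]⟩

theorem aff_inv (v : Fin 2 → ZMod p) (M : SL(2, ZMod p)) :
    (aff v M)⁻¹ = aff (-(((M⁻¹ : SL(2, ZMod p)) : Matrix (Fin 2) (Fin 2) (ZMod p)) *ᵥ v)) M⁻¹ := by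
  refine inv_eq_of_mul_eq_one_left ?_
  rw [aff_mul, inv_mul_cancel, neg_add_cancel, aff_one]

theorem mul_lower_left {k : Type*} [Field k] {M N : SL(2, k)} (hM : M 1 0 = 0) (hN : N 1 0 = 0) :
    (M * N) 1 0 = 0 := by
  simp [Matrix.mul_apply, Fin.sum_univ_two, hM, hN]

theorem inv_lower_left {k : Type*} [Field k] {M : SL(2, k)} (hM : M 1 0 = 0) : M⁻¹ 1 0 = 0 := by
  simp [Matrix.SpecialLinearGroup.coe_inv, Matrix.adjugate_fin_two, hM]

theorem exists_aff_of_mem_fOver {A : Matrix.SpecialLinearGroup (Fin 3) (ZMod p)}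
    (h : A ∈ Cfsg.fOver (ZMod p)) : ∃ v M, M 1 0 = 0 ∧ A = aff v M := by
  induction h using Subgroup.closure_induction with
  | mem A hA =>
    obtain ⟨h0, h1, h2, h3⟩ := hA
    obtain ⟨v, M, rfl⟩ := exists_aff_of_mem_qd (p := p) (A := A) (Subgroup.subset_closure ⟨h1, h2, h3⟩)
    exact ⟨v, M, by simpa [coe_aff] using h0, rfl⟩
  | one => exact ⟨0, 1, by simp, aff_one.symm⟩
  | mul a b _ _ ha hb =>
    obtain ⟨v, M, hM, rfl⟩ := ha
    obtain ⟨w, N, hN, rfl⟩ := hb
    exact ⟨_, _, mul_lower_left hM hN, aff_mul v w M N⟩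
  | inv a _ ha =>
    obtain ⟨v, M, hM, rfl⟩ := ha
    exact ⟨_, _, inv_lower_left hM, aff_inv v M⟩

/-- The split case. -/
theorem involves_fOver_of_module (hp : p ≠ 2) {G : Type*} [Group G] [Finite G]
    (f : Multiplicative (Fin 2 → ZMod p) →* G) (hf : Function.Injective f)
    {n : ZMod p} (hn : n ≠ 0) (hgen : ∀ a : ZMod p, a ≠ 0 → ∃ i : ℕ, n ^ i = a) (q h : G)
    (hq : ∀ v : Fin 2 → ZMod p, q * f (Multiplicative.ofAdd v) * q⁻¹ =
      f (Multiplicative.ofAdd ((upper (1 : ZMod p) : Matrix (Fin 2) (Fin 2) (ZMod p)) *ᵥ v)))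
    (hh : ∀ v : Fin 2 → ZMod p, h * f (Multiplicative.ofAdd v) * h⁻¹ =
      f (Multiplicative.ofAdd ((diagOne n hn : Matrix (Fin 2) (Fin 2) (ZMod p)) *ᵥ v))) :
    Cfsg.Involves ↥(Cfsg.fOver (ZMod p)) G := by
  classical
  let Act : G → SL(2, ZMod p) → Prop := fun j M => ∀ v : Fin 2 → ZMod p,
    j * f (Multiplicative.ofAdd v) * j⁻¹ =
      f (Multiplicative.ofAdd ((M : Matrix (Fin 2) (Fin 2) (ZMod p)) *ᵥ v))
  have act_mul : ∀ {j k M N}, Act j M → Act k N → Act (j * k) (M * N) := by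
    intro j k M N hj hk v
    rw [Matrix.SpecialLinearGroup.coe_mul, ← Matrix.mulVec_mulVec, ← hj, ← hk]
    group
  have act_one : Act 1 1 := fun v => by simp
  have act_inv : ∀ {j M}, Act j M → Act j⁻¹ M⁻¹ := by
    intro j M hj v
    have h1 := hj (((M⁻¹ : SL(2, ZMod p)) : Matrix (Fin 2) (Fin 2) (ZMod p)) *ᵥ v)
    rw [Matrix.mulVec_mulVec, ← Matrix.SpecialLinearGroup.coe_mul, mul_inv_cancel,
      Matrix.SpecialLinearGroup.coe_one, Matrix.one_mulVec] at h1
    rw [inv_inv, ← h1]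
    group
  have act_unique : ∀ {j M N}, Act j M → Act j N → M = N := by
    intro j M N hM hN
    refine Subtype.ext (Matrix.ext_of_mulVec_single fun i => ?_)
    exact Multiplicative.ofAdd.injective (hf ((hM _).symm.trans (hN _)))
  have act_pow : ∀ {j M}, Act j M → ∀ i : ℕ, Act (j ^ i) (M ^ i) := by
    intro j M hj i
    induction i with
    | zero => rw [pow_zero, pow_zero]; exact act_one
    | succ i ih => rw [pow_succ, pow_succ]; exact act_mul ih hj
  let J : Subgroup G :=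
    { carrier := {j | ∃ M, M 1 0 = 0 ∧ Act j M}
      one_mem' := ⟨1, by simp, act_one⟩
      mul_mem' := by
        rintro j k ⟨M, hM, hj⟩ ⟨N, hN, hk⟩
        exact ⟨M * N, mul_lower_left hM hN, act_mul hj hk⟩
      inv_mem' := by
        rintro j ⟨M, hM, hj⟩
        exact ⟨M⁻¹, inv_lower_left hM, act_inv hj⟩ }
  have hcent : ∀ M : SL(2, ZMod p), M * -1 = -M ∧ -1 * M = -M := fun M => by simp
  let D : Subgroup G :=
    { carrier := {j | Act j 1 ∨ Act j (-1)}
      one_mem' := Or.inl act_one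
      mul_mem' := by
        rintro j k (hj | hj) (hk | hk)
        · exact Or.inl (by simpa using act_mul hj hk)
        · exact Or.inr (by simpa using act_mul hj hk)
        · exact Or.inr (by simpa using act_mul hj hk)
        · exact Or.inl (by simpa using act_mul hj hk)
      inv_mem' := by
        rintro j (hj | hj)
        · exact Or.inl (by simpa using act_inv hj)
        · exact Or.inr (by
            have := act_inv hj
            rwa [show (-1 : SL(2, ZMod p))⁻¹ = -1 from inv_eq_of_mul_eq_one_left (by simp)] at this) }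
  have hDn : J ≤ nrm D := by
    rintro j ⟨M, hM, hj⟩
    refine mem_nrm_of_forall fun d hd => ?_
    rcases hd with hd | hd
    · exact Or.inl (by simpa using act_mul (act_mul hj hd) (act_inv hj))
    · exact Or.inr (by simpa using act_mul (act_mul hj hd) (act_inv hj))
  have hqJ : Act q (upper 1) := hq
  have hhJ : Act h (diagOne n hn) := hh
  have hdiag : ∀ i : ℕ, (diagOne n hn) ^ i = diagOne (n ^ i) (pow_ne_zero i hn) := by
    intro i
    induction i with
    | zero => ext a b; fin_cases a <;> fin_cases b <;> simp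
    | succ i ih =>
      rw [pow_succ, ih]
      ext a b
      fin_cases a <;> fin_cases b <;> simp [pow_succ, mul_comm]
  have hsurj : ∀ M : SL(2, ZMod p), M 1 0 = 0 → ∃ j, Act j M := by
    intro M hM
    have hd := det_entries M
    rw [hM, mul_zero, sub_zero] at hd
    have h00 : M 0 0 ≠ 0 := fun h0 => by rw [h0, zero_mul] at hd; exact zero_ne_one hd
    obtain ⟨i, hi⟩ := hgen _ h00
    refine ⟨h ^ i * q ^ ((M 0 0)⁻¹ * M 0 1).val, ?_⟩
    have := act_mul (act_pow hhJ i) (act_pow hqJ ((M 0 0)⁻¹ * M 0 1).val)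
    convert this using 1
    rw [hdiag, upper_pow, mul_one, ZMod.natCast_zmod_val]
    have h11 : M 1 1 = (M 0 0)⁻¹ := eq_inv_of_mul_eq_one_right hd
    ext a b
    fin_cases a <;> fin_cases b <;> simp [Matrix.mul_apply, Fin.sum_univ_two, hi, hM, h11]
    field_simp
  -- a `2`-element acting as `-1`
  haveI : Fact (Nat.Prime 2) := ⟨Nat.prime_two⟩
  obtain ⟨z, hz⟩ := hsurj (-1) (by simp [Matrix.SpecialLinearGroup.coe_neg])
  obtain ⟨e, m, hm, hem⟩ := Nat.exists_eq_pow_mul_and_not_dvd (orderOf_pos z).ne' 2 (by norm_num)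
  have hz' : Act (z ^ m) (-1) := by
    have := act_pow hz m
    rwa [Odd.neg_one_pow (Nat.odd_iff.2 (Nat.two_dvd_ne_zero.1 hm))] at this
  have hzp : IsPGroup 2 ↥(Subgroup.zpowers (z ^ m)) := by
    refine IsPGroup.of_card_dvd_pow (n := e) ?_
    rw [Nat.card_zpowers]
    exact orderOf_dvd_of_pow_eq_one (by rw [← pow_mul, mul_comm, ← hem, pow_orderOf_eq_one])
  obtain ⟨T, hT, hzT⟩ := exists_isSylowIn (p := 2) D hzp (Subgroup.zpowers_le.2 (Or.inr hz'))
  have htT : z ^ m ∈ T := hzT (Subgroup.mem_zpowers _)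
  -- the complement
  have hrepr : ∀ M : SL(2, ZMod p), M 1 0 = 0 → ∃ j ∈ nrm T, Act j M := by
    intro M hM
    obtain ⟨j, hj⟩ := hsurj M hM
    obtain ⟨c, hc, s, hs, rfl⟩ := exists_mul_of_frattini hT (hDn ⟨M, hM, hj⟩)
    rcases hc with hc | hc
    · refine ⟨s, hs, ?_⟩
      simpa using act_mul (act_inv hc) hj
    · refine ⟨z ^ m * s, mul_mem (Subgroup.le_normalizer htT) hs, ?_⟩
      have := act_mul hz' (act_mul (act_inv hc) hj)
      rw [inv_mul_cancel_left] at this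
      convert this using 1
      rw [show (-1 : SL(2, ZMod p))⁻¹ = -1 from inv_eq_of_mul_eq_one_left (by simp)]
      simp
  have hdisj : ∀ j ∈ nrm T, j ∈ f.range → j = 1 := by
    rintro _ hj ⟨u, rfl⟩
    have h1 : z ^ m * f u * (z ^ m)⁻¹ * (f u)⁻¹ ∈ T := by
      have := conj_mem_of_nrm hj (inv_mem htT)
      simpa [mul_assoc] using mul_mem htT this
    have h2 := hz' u.toAdd
    rw [ofAdd_toAdd, Matrix.SpecialLinearGroup.coe_neg, Matrix.SpecialLinearGroup.coe_one,
      Matrix.neg_mulVec, Matrix.one_mulVec, ofAdd_neg, ofAdd_toAdd] at h2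
    rw [h2, ← map_inv f, ← map_mul] at h1
    obtain ⟨k, hk⟩ := hT.isPGroup ⟨_, h1⟩
    have hk' : f ((u⁻¹ * u⁻¹) ^ 2 ^ k) = 1 := by
      rw [map_pow]; exact congrArg Subtype.val hk
    have h3 : (u⁻¹ * u⁻¹) ^ 2 ^ k = 1 := hf (hk'.trans (map_one f).symm)
    have h4 : ((2 : ℕ) ^ (k + 1)) • u.toAdd = 0 := by
      rw [← sq, ← pow_mul, ← pow_succ', inv_pow, inv_eq_one] at h3
      exact congrArg Multiplicative.toAdd h3
    have h5 : u.toAdd = 0 := by
      rw [← Nat.cast_smul_eq_nsmul (ZMod p), Nat.cast_pow] at h4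
      refine (smul_eq_zero.1 h4).resolve_left (pow_ne_zero _ ?_)
      exact_mod_cast two_ne_zero_char (k := ZMod p) hp
    rw [show u = 1 from h5, map_one]
  let S : Subgroup (G × Cfsg.fOver (ZMod p)) :=
    { carrier := {x | ∃ (v : Fin 2 → ZMod p) (M : SL(2, ZMod p)) (j : G), j ∈ nrm T ∧ Act j M ∧
        x.1 = f (Multiplicative.ofAdd v) * j ∧ (x.2 : Matrix.SpecialLinearGroup (Fin 3) (ZMod p)) = aff v M}
      one_mem' := ⟨0, 1, 1, one_mem _, act_one, by simp, by simp [aff_one]⟩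
      mul_mem' := by
        rintro ⟨a, A⟩ ⟨b, B⟩ ⟨v, M, j, hj, hjM, rfl, hA⟩ ⟨w, N, k, hk, hkN, rfl, hB⟩
        refine ⟨v + (M : Matrix (Fin 2) (Fin 2) (ZMod p)) *ᵥ w, M * N, j * k, mul_mem hj hk,
          act_mul hjM hkN, ?_, ?_⟩
        · simp only [Prod.mk_mul_mk, ofAdd_add, map_mul, ← hjM w]
          group
        · simp only [Prod.mk_mul_mk, Subgroup.coe_mul] at hA hB ⊢
          rw [hA, hB, aff_mul]
      inv_mem' := by
        rintro ⟨a, A⟩ ⟨v, M, j, hj, hjM, rfl, hA⟩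
        refine ⟨-(((M⁻¹ : SL(2, ZMod p)) : Matrix (Fin 2) (Fin 2) (ZMod p)) *ᵥ v), M⁻¹, j⁻¹,
          inv_mem hj, act_inv hjM, ?_, ?_⟩
        · simp only [Prod.fst_inv, ofAdd_neg, map_inv f, ← (act_inv hjM) v]
          group
        · simp only [Prod.snd_inv, InvMemClass.coe_inv] at hA ⊢
          rw [hA, aff_inv] }
  refine LocalEven61.involves_of_hom ((MonoidHom.snd _ _).comp S.subtype) ?_
    ((MonoidHom.fst _ _).comp S.subtype) ?_
  · rintro ⟨A, hA⟩
    obtain ⟨v, M, hM, rfl⟩ := exists_aff_of_mem_fOver hA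
    obtain ⟨j, hj, hjM⟩ := hrepr M hM
    exact ⟨⟨(_, ⟨_, hA⟩), v, M, j, hj, hjM, rfl, rfl⟩, rfl⟩
  · rw [← MonoidHom.ker_eq_bot_iff, eq_bot_iff]
    rintro ⟨⟨a, A⟩, v, M, j, hj, hjM, ha, hA⟩ hx
    have h1 : f (Multiplicative.ofAdd v) * j = 1 := ha.symm.trans hx
    have hj1 : j = 1 := hdisj j hj (by
      rw [eq_inv_of_mul_eq_one_right h1]; exact inv_mem ⟨_, rfl⟩)
    have hv : v = 0 := by
      rw [hj1, mul_one, ← map_one f] at h1
      exact hf h1
    have hM : M = 1 := act_unique (hj1 ▸ hjM) act_one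
    refine Subgroup.mem_bot.2 (Subtype.ext (Prod.ext (ha.trans h1) (Subtype.ext ?_)))
    show (A : Matrix.SpecialLinearGroup (Fin 3) (ZMod p)) = 1
    have hA' : (A : Matrix.SpecialLinearGroup (Fin 3) (ZMod p)) = aff v M := hA
    rw [hA', hv, hM, aff_one]

/-- The version modulo a subgroup `Y`, inside `H`. -/
theorem involves_fOver_of_section (hp : p ≠ 2) {G : Type*} [Group G] [Finite G]
    {H Y : Subgroup G} {n : ZMod p} (hn : n ≠ 0)
    (hgen : ∀ a : ZMod p, a ≠ 0 → ∃ i : ℕ, n ^ i = a) {q h x y : G}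
    (hq : q ∈ H ⊓ nrm Y) (hh : h ∈ H ⊓ nrm Y) (hx : x ∈ H ⊓ nrm Y) (hy : y ∈ H ⊓ nrm Y)
    (hx1 : x ∉ Y) (hxp : x ^ p ∈ Y) (hyp : y ^ p ∈ Y) (hxy : ⁅x, y⁆ ∈ Y)
    (hqx : ⁅q, x⁆ ∈ Y) (hqy : ⁅q, y⁆ * x⁻¹ ∈ Y)
    (hhx : h * x * h⁻¹ * (x ^ n.val)⁻¹ ∈ Y) (hhy : h * y * h⁻¹ * (y ^ n⁻¹.val)⁻¹ ∈ Y) :
    Cfsg.Involves ↥(Cfsg.fOver (ZMod p)) ↥H := by
  classical
  set N := (nrm Y).subgroupOf H with hN
  refine LocalEven61.involves_of_subgroup N ?_
  haveI : ((Y.subgroupOf H).subgroupOf N).Normal :=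
    ⟨fun a ha b => by
      have h := conj_mem_of_nrm (show ((b : ↥H) : G) ∈ nrm Y from b.2)
        (show ((a : ↥H) : G) ∈ Y from ha)
      exact h⟩
  refine LocalEven61.involves_of_quotient ((Y.subgroupOf H).subgroupOf N) ?_
  set π := QuotientGroup.mk' ((Y.subgroupOf H).subgroupOf N) with hπ
  have hπ1 : ∀ a : ↥N, π a = 1 ↔ ((a : ↥H) : G) ∈ Y := fun a => QuotientGroup.eq_one_iff a
  let mk : ∀ a : G, a ∈ H ⊓ nrm Y → ↥N := fun a ha => ⟨⟨a, ha.1⟩, ha.2⟩
  have heq : ∀ a b : ↥N, ((a : ↥H) : G) * ((b : ↥H) : G)⁻¹ ∈ Y → π a = π b := fun a b hab => by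
    rw [← mul_inv_eq_one, ← map_inv, ← map_mul, hπ1]
    exact hab
  set xb := π (mk x hx) with hxb
  set yb := π (mk y hy) with hyb
  set qb := π (mk q hq) with hqb
  set hb := π (mk h hh) with hhb
  have hxbp : xb ^ p = 1 := by rw [hxb, ← map_pow, hπ1]; exact hxp
  have hybp : yb ^ p = 1 := by rw [hyb, ← map_pow, hπ1]; exact hyp
  have hcomm : Commute xb yb := by
    show xb * yb = yb * xb
    rw [← commutatorElement_eq_one_iff_mul_comm, hxb, hyb, ← map_commutatorElement, hπ1]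
    exact hxy
  have hqxb : qb * xb * qb⁻¹ = xb := by
    rw [hqb, hxb, ← map_inv, ← map_mul, ← map_mul]
    exact heq _ _ (by simpa [mk, commutatorElement_def] using hqx)
  have hqyb : qb * yb * qb⁻¹ = xb * yb := by
    have h1 : π ⁅mk q hq, mk y hy⁆ = xb := heq _ _ (by simpa [mk, commutatorElement_def] using hqy)
    rw [map_commutatorElement, ← hqb, ← hyb, commutatorElement_def] at h1
    rw [← h1]; group
  have hhxb : hb * xb * hb⁻¹ = xb ^ n.val := by
    rw [hhb, hxb, ← map_inv, ← map_mul, ← map_mul, ← map_pow]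
    exact heq _ _ (by simpa [mk] using hhx)
  have hhyb : hb * yb * hb⁻¹ = yb ^ n⁻¹.val := by
    rw [hhb, hyb, ← map_inv, ← map_mul, ← map_mul, ← map_pow]
    exact heq _ _ (by simpa [mk] using hhy)
  have hval : ∀ (w : ↥N ⧸ (Y.subgroupOf H).subgroupOf N), w ^ p = 1 → ∀ a b : ℕ,
      (a : ZMod p) = (b : ZMod p) → w ^ a = w ^ b := by
    intro w hw a b hab
    rw [pow_eq_pow_mod a hw, pow_eq_pow_mod b hw,
      (ZMod.natCast_eq_natCast_iff' a b p).1 hab]
  let F : Multiplicative (Fin 2 → ZMod p) →* ↥N ⧸ (Y.subgroupOf H).subgroupOf N :=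
    { toFun := fun v => xb ^ (v.toAdd 0).val * yb ^ (v.toAdd 1).val
      map_one' := by simp
      map_mul' := fun v w => by
        rw [(hcomm.symm.pow_pow _ _).mul_mul_mul_comm, ← pow_add, ← pow_add,
          hval xb hxbp ((v * w).toAdd 0).val ((v.toAdd 0).val + (w.toAdd 0).val) (by simp),
          hval yb hybp ((v * w).toAdd 1).val ((v.toAdd 1).val + (w.toAdd 1).val) (by simp)] }
  have hF : ∀ v : Fin 2 → ZMod p, F (Multiplicative.ofAdd v) = xb ^ (v 0).val * yb ^ (v 1).val :=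
    fun v => rfl
  have hqv : ∀ v : Fin 2 → ZMod p, qb * F (Multiplicative.ofAdd v) * qb⁻¹ =
      F (Multiplicative.ofAdd ((upper (1 : ZMod p) : Matrix (Fin 2) (Fin 2) (ZMod p)) *ᵥ v)) := by
    intro v
    rw [hF, hF, ← conj_mul, ← conj_pow, ← conj_pow, hqxb, hqyb, hcomm.mul_pow, ← mul_assoc, ← pow_add,
      hval xb hxbp _ (((upper (1 : ZMod p) : Matrix (Fin 2) (Fin 2) (ZMod p)) *ᵥ v) 0).val
        (by simp [Matrix.mulVec, dotProduct, Fin.sum_univ_two])]
    congr 2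
    simp [Matrix.mulVec, dotProduct, Fin.sum_univ_two]
  have hx_ne : xb ≠ 1 := by rw [hxb, Ne, hπ1]; exact hx1
  have hinj : Function.Injective F := by
    rw [← MonoidHom.ker_eq_bot_iff, eq_bot_iff]
    intro u hu
    set v := u.toAdd with hv
    have hu' : F (Multiplicative.ofAdd v) = 1 := hu
    have hzero : ∀ a : ZMod p, xb ^ a.val = 1 → a = 0 := by
      intro a ha
      have h1 := orderOf_eq_prime hxbp hx_ne
      rw [← ZMod.val_eq_zero]
      refine Nat.eq_zero_of_dvd_of_lt ?_ (ZMod.val_lt a)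
      have h2 := orderOf_dvd_of_pow_eq_one ha
      rwa [h1] at h2
    have hv1 : v 1 = 0 := by
      apply hzero
      have h1 := hqv v
      rw [hu', mul_one, mul_inv_cancel] at h1
      rw [hF] at h1 hu'
      simp [Matrix.mulVec, dotProduct, Fin.sum_univ_two] at h1
      rw [hval xb hxbp (v 0 + v 1).val ((v 1).val + (v 0).val) (by simp [add_comm]), pow_add,
        mul_assoc, hu', mul_one] at h1
      exact h1.symm
    have hv0 : v 0 = 0 := by
      apply hzero
      rw [hF, hv1, ZMod.val_zero, pow_zero, mul_one] at hu'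
      exact hu'
    rw [Subgroup.mem_bot]
    refine Multiplicative.toAdd.injective (funext fun i => ?_)
    fin_cases i
    · exact hv0
    · exact hv1
  refine involves_fOver_of_module hp F hinj hn hgen qb hb hqv fun v => ?_
  rw [hF, hF, ← conj_mul, ← conj_pow, ← conj_pow, hhxb, hhyb, ← pow_mul, ← pow_mul,
    hval xb hxbp _ (((diagOne n hn : Matrix (Fin 2) (Fin 2) (ZMod p)) *ᵥ v) 0).val
      (by simp [Matrix.mulVec, dotProduct, Fin.sum_univ_two]),
    hval yb hybp _ (((diagOne n hn : Matrix (Fin 2) (Fin 2) (ZMod p)) *ᵥ v) 1).val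
      (by simp [Matrix.mulVec, dotProduct, Fin.sum_univ_two])]

end Cfsg.Agent.PLocalB
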