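import Cfsg.Agent.PLocalB.PairMinimal
import Cfsg.Agent.PLocalB.FSection
import Cfsg.Agent.PLocalB.CoprimeWeight
import Cfsg.Agent.PLocalB.CenterThompson
import Cfsg.Agent.LocalEven61.ZJFunctor
import Cfsg.Agent.ConjFunctor.Fusion
import Cfsg.Prelude.Def_LocalEven

/-!
The structure of `N(Z(J(S)))` when `Z(J(S))` does not control strong fusion (`p` odd).

A subgroup `T ≤ S` is good when every element of `N(T)` agrees on `T` with an element of
`H = N(Z(J(S)))`. A failing `T`, maximal in the pair (`|N_S(T)|`, `|T|`), gives a local subgroup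
`K = N(T)` to which the pair lemma applies.
-/

set_option autoImplicit false
set_option linter.style.haveILetI false

open scoped commutatorElement

namespace Cfsg.Agent.PLocalB.ZJFail

open Cfsg.Agent.ConjFunctor

universe u

variable {G : Type u} [Group G] {p : ℕ}

/-- `Z(J(S))`. -/
abbrev zj (S : Sylow p G) : Subgroup G := Cfsg.centerThompsonAOf (S : Subgroup G)

/-- `g` agrees on `T` with an element of `H`. -/
def Real (H T : Subgroup G) (g : G) : Prop := ∃ x ∈ H, ∀ t ∈ T, x * t * x⁻¹ = g * t * g⁻¹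

theorem Real.mono {H T U : Subgroup G} {g : G} (h : Real H T g) (hU : U ≤ T) : Real H U g :=
  let ⟨x, hx, he⟩ := h; ⟨x, hx, fun t ht => he t (hU ht)⟩

/-- All fusion inside `S` is realized in `H`. -/
def Ctl (S : Sylow p G) : Prop :=
  ∀ (A : Set G) (g : G), A ⊆ (S : Subgroup G) → img g A ⊆ (S : Subgroup G) →
    ∃ x ∈ nrm (zj S), ∀ a ∈ A, x * a * x⁻¹ = g * a * g⁻¹

/-- The conclusion. -/
def Conclusion [Fact p.Prime] (S : Sylow p G) (n : ZMod p) : Prop :=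
  Cfsg.Involves ↥(Cfsg.fOver (ZMod p)) ↥(nrm (zj S)) ∧
    ∃ g ∈ nrm (zj S), ∃ w ∈ zj S, orderOf w = p ∧ g * w * g⁻¹ = w ^ n.val

/-- The elements of `nrm X` agreeing on `X` with an element of `H`. -/
def realGroup (H X : Subgroup G) : Subgroup G where
  carrier := {g | g ∈ nrm X ∧ Real H X g}
  one_mem' := ⟨one_mem _, 1, one_mem _, fun t _ => by simp⟩
  mul_mem' := by
    rintro g k ⟨hg, x, hx, hxe⟩ ⟨hk, y, hy, hye⟩
    refine ⟨mul_mem hg hk, x * y, mul_mem hx hy, fun t ht => ?_⟩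
    calc x * y * t * (x * y)⁻¹ = x * (y * t * y⁻¹) * x⁻¹ := by group
      _ = g * (k * t * k⁻¹) * g⁻¹ := by rw [hye t ht, hxe _ (conj_mem_of_nrm hk ht)]
      _ = g * k * t * (g * k)⁻¹ := by group
  inv_mem' := by
    rintro g ⟨hg, x, hx, hxe⟩
    refine ⟨inv_mem hg, x⁻¹, inv_mem hx, fun t ht => ?_⟩
    have h1 := hxe (g⁻¹ * t * g⁻¹⁻¹) (conj_mem_of_nrm (inv_mem hg) ht)
    have h2 : x * (g⁻¹ * t * g⁻¹⁻¹) * x⁻¹ = t := by rw [h1]; group
    conv_lhs => rw [← h2]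
    group

theorem mem_realGroup {H X : Subgroup G} {g : G} :
    g ∈ realGroup H X ↔ g ∈ nrm X ∧ Real H X g := Iff.rfl

variable [Finite G] [Fact p.Prime]

/-- A subgroup is inside `M` once its `p'`-elements and a Sylow subgroup are. -/
theorem le_of_coprime_of_sylow {U P M : Subgroup G} (hP : IsSylowIn p P U) (hPM : P ≤ M)
    (h : ∀ g ∈ U, (orderOf g).Coprime p → g ∈ M) : U ≤ M := by
  obtain ⟨PU, hPU⟩ := hP.exists_sylow
  have hres : pResidual p ↥U ≤ M.subgroupOf U := by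
    rw [pResidual, Subgroup.closure_le]
    intro g hg
    exact h g g.2 (by rw [Subgroup.orderOf_coe]; exact hg)
  have htop : pResidual p ↥U ⊔ (PU : Subgroup ↥U) = ⊤ := by
    rw [← Subgroup.index_eq_one]
    obtain ⟨j, hj⟩ := IsPGroup.iff_card.1 (Thompson.isPGroup_quotient_pResidual (G := ↥U) (p := p))
    have h1 : (pResidual p ↥U ⊔ (PU : Subgroup ↥U)).index ∣ p ^ j :=
      hj ▸ Subgroup.index_dvd_of_le le_sup_left
    obtain ⟨i, -, hi⟩ := (Nat.dvd_prime_pow Fact.out).1 h1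
    rcases i with _ | i
    · simpa using hi
    · exact absurd ((dvd_pow_self p (Nat.succ_ne_zero i)).trans
        (hi ▸ Subgroup.index_dvd_of_le le_sup_right)) PU.not_dvd_index
  have hP' : (PU : Subgroup ↥U) ≤ M.subgroupOf U := fun u hu =>
    hPM (hPU ▸ ⟨u, hu, rfl⟩ : (u : G) ∈ P)
  intro u hu
  have h2 : (⊤ : Subgroup ↥U) ≤ M.subgroupOf U := htop ▸ sup_le hres hP'
  exact h2 (Subgroup.mem_top ⟨u, hu⟩)

/-- The subgroup `zj` is mapped to `zj`. -/
theorem map_zj {M : Subgroup G} (P : Sylow p ↥M) :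
    (zj P).map M.subtype = Cfsg.centerThompsonAOf ((P : Subgroup ↥M).map M.subtype) := by
  have h := inducedFunctor_map (LocalEven61.isCharPFunctor_zjA (p := p)) M.subtype
    (P : Subgroup ↥M) P.2 M.subtype_injective.injOn
  rw [LocalEven61.inducedFunctor_zjA, LocalEven61.inducedFunctor_zjA] at h
  exact h.symm

/-- An element of the weight from an element realized on `X`. -/
theorem weight_of_frame {B Y₀ X M : Subgroup G} {S : Sylow p G} {n : ZMod p} (hn : n ≠ 0)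
    (F : SectionFrame p B Y₀ X M n) (hXW : X ≤ zj S) (hM : M ≤ realGroup (nrm (zj S)) X)
    (hXp : IsPGroup p ↥X) :
    ∃ g ∈ nrm (zj S), ∃ w ∈ zj S, orderOf w = p ∧ g * w * g⁻¹ = w ^ n.val := by
  have hXc : IsMulCommutative ↥X := by
    have hc : IsMulCommutative ↥(zj S) := by
      rw [zj, centerThompsonAOf_eq_core]
      exact (abelianFamily G).core_comm _
    exact ⟨⟨fun a b => Subtype.ext (show (a : G) * b = b * a from congrArg Subtype.val
      (hc.is_comm.comm (⟨a, hXW a.2⟩ : ↥(zj S)) ⟨b, hXW b.2⟩))⟩⟩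
  obtain ⟨hhX, x, hx, hxe⟩ := hM F.h_mem
  have hxX : x ∈ nrm X := mem_nrm_of_forall fun t ht => by
    rw [hxe t ht]; exact conj_mem_of_nrm hhX ht
  have hxY : x ∈ nrm (F.Y ⊓ X) := mem_nrm_of_forall fun t ht => by
    rw [hxe t ht.2]; exact ⟨conj_mem_of_nrm F.h_nrm ht.1, conj_mem_of_nrm hhX ht.2⟩
  obtain ⟨g, hg, w, hw, hwp, hgw⟩ := exists_weight (p := p) (Y := F.Y ⊓ X) hXp hXc hxX hxY
    inf_le_right F.x₀_X (fun h => F.x₀_not h.1) ⟨F.x₀_pow, pow_mem F.x₀_X p⟩ hn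
    (by
      rw [hxe _ F.x₀_X]
      exact ⟨F.h_x₀, X.mul_mem (conj_mem_of_nrm hhX F.x₀_X) (X.inv_mem (pow_mem F.x₀_X _))⟩)
  exact ⟨g, (Subgroup.zpowers_le.2 hx) hg, w, hXW hw, hwp, hgw⟩

/-- `F(p)` from a frame realized in `H`. -/
theorem involves_of_frame (hp : p ≠ 2) {B Y₀ M T : Subgroup G} {S : Sylow p G} {n : ZMod p}
    (hn : n ≠ 0) (hgen : ∀ a : ZMod p, a ≠ 0 → ∃ i : ℕ, n ^ i = a)
    (F : SectionFrame p B Y₀ B M n) (hBT : B ≤ T) (hTS : T ≤ (S : Subgroup G))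
    (hSH : (S : Subgroup G) ≤ nrm (zj S)) (hM : M ≤ realGroup (nrm (zj S)) T) :
    Cfsg.Involves ↥(Cfsg.fOver (ZMod p)) ↥(nrm (zj S)) := by
  obtain ⟨hqT, xq, hxq, hqe⟩ := hM F.q_mem
  obtain ⟨hhT, xh, hxh, hhe⟩ := hM F.h_mem
  have hYT : F.Y ≤ T := F.le_B.trans hBT
  have hnY : ∀ {g x : G}, g ∈ nrm F.Y → (∀ t ∈ T, x * t * x⁻¹ = g * t * g⁻¹) → x ∈ nrm F.Y :=
    fun hg he => mem_nrm_of_forall fun y hy => by rw [he y (hYT hy)]; exact conj_mem_of_nrm hg hy
  have hx₀T : F.x₀ ∈ T := hBT F.x₀_X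
  have hy₂T : F.y₂ ∈ T := hBT F.y₂_B
  refine involves_fOver_of_section hp hn hgen (Y := F.Y) (q := xq) (h := xh) (x := F.x₀) (y := F.y₂)
    ⟨hxq, hnY F.q_nrm hqe⟩ ⟨hxh, hnY F.h_nrm hhe⟩ ⟨hSH (hTS hx₀T), F.B_nrm F.x₀_X⟩
    ⟨hSH (hTS hy₂T), F.B_nrm F.y₂_B⟩ F.x₀_not F.x₀_pow F.y₂_pow F.comm ?_ ?_ ?_ ?_
  · rw [commutatorElement_def, hqe _ hx₀T, ← commutatorElement_def]; exact F.q_x₀
  · rw [commutatorElement_def, hqe _ hy₂T, ← commutatorElement_def]; exact F.q_y₂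
  · rw [hhe _ hx₀T]; exact F.h_x₀
  · rw [hhe _ hy₂T]; exact F.h_y₂

/-- Apply the pair lemma twice. -/
theorem conclusion_of_local (hp : p ≠ 2) (S : Sylow p G) {n : ZMod p} (hn : n ≠ 0)
    (hgen : ∀ a : ZMod p, a ≠ 0 → ∃ i : ℕ, n ^ i = a) {K T R B Y₀ X M MX : Subgroup G}
    (hSH : (S : Subgroup G) ≤ nrm (zj S)) (hTS : T ≤ (S : Subgroup G)) (hBT : B ≤ T)
    (hY₀B : Y₀ ≤ B) (hBY₀ : B ≤ nrm Y₀) (hKB : K ≤ nrm B) (hKY : K ≤ nrm Y₀)
    (hR : IsSylowIn p R K) (hRM : R ≤ M) (hgood : K ⊓ nrm (qgen B Y₀ R) ≤ M)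
    (hMT : M ≤ realGroup (nrm (zj S)) T) (hMB : M ≤ nrm B) (hKM : ¬ K ≤ M)
    (hfinM : ∀ g ∈ K, g ∈ centMod Y₀ (B : Set G) → g ∈ M)
    (hXB : X ≤ B) (hXW : X ≤ zj S) (hMMX : M ≤ MX) (hMX : MX ≤ realGroup (nrm (zj S)) X)
    (hKMX : ¬ K ≤ MX) (hfinX : ∀ g ∈ K, g ∈ centMod Y₀ (X : Set G) → g ∈ MX) :
    Conclusion S n := by
  have hBp : IsPGroup p ↥B := S.2.to_le (hBT.trans hTS)
  obtain ⟨F1⟩ := exists_frame hp hBp hY₀B hBY₀ hKB hKY le_rfl hMB hfinM hn (le_refl K)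
    ⟨hKM, R, hR, hRM, hgood⟩
  obtain ⟨F2⟩ := exists_frame hp hBp hY₀B hBY₀ hKB hKY hXB (fun g hg => (hMX hg).1) hfinX hn (le_refl K)
    ⟨hKMX, R, hR, hRM.trans hMMX, hgood.trans hMMX⟩
  exact ⟨involves_of_frame hp hn hgen F1 hBT hTS hSH hMT,
    weight_of_frame hn F2 hXW hMX (hBp.to_le hXB)⟩

/-- A quadratic element, or every abelian subgroup of largest order contains `B`. -/
theorem exists_quad_or_le {Q : Type*} [Group Q] [Finite Q] (hp : p ≠ 2) {R B : Subgroup Q}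
    (hR : IsPGroup p ↥R) (hBR : B ≤ R) (hRB : R ≤ nrm B) (hB : IsMulCommutative ↥B) :
    (∃ a ∈ R, a ∉ Subgroup.centralizer (B : Set Q) ∧ ∀ b ∈ B, ⁅a, ⁅a, b⁆⁆ = 1) ∨
      ∀ A, (abelianFamily Q).IsMax R A → B ≤ A := by
  classical
  have habs : ∀ A, (abelianFamily Q).IsMax R A → A ≤ Subgroup.centralizer (B : Set Q) → B ≤ A := by
    intro A hA hAC b hb
    exact (abelianFamily Q).mem_of_centralizes hA (hBR hb) (isMulCommutative_sup_zpowers hA.2.1
      fun a ha => (Subgroup.mem_centralizer_iff.1 (hAC ha) b hb).symm)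
  by_cases hall : ∀ A, (abelianFamily Q).IsMax R A → A ≤ Subgroup.centralizer (B : Set Q)
  · exact Or.inr fun A hA => habs A hA (hall A hA)
  push Not at hall
  left
  obtain ⟨A, ⟨hA, hAC⟩, hAmax⟩ := Set.exists_max_image
    {A | (abelianFamily Q).IsMax R A ∧ ¬ A ≤ Subgroup.centralizer (B : Set Q)}
    (fun A => Nat.card ↥(A ⊓ B)) (Set.toFinite _) (hall.imp fun A h => h)
  have hBA : B ≤ Subgroup.normalizer (A : Set Q) := by
    by_contra hnot
    have hBB : ⁅B, B⁆ ≤ A := by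
      rw [Subgroup.commutator_le]
      intro a ha b hb
      rw [commutatorElement_eq_one_iff_mul_comm.2
        (congrArg Subtype.val (hB.is_comm.comm (⟨a, ha⟩ : ↥B) ⟨b, hb⟩))]
      exact A.one_mem
    obtain ⟨A', hA'R, hcard, hA'c, -, -, hlt1, hlt2, -, -, hexp⟩ := replacement_in R B A hR hBR hRB
      (fun _ => hB) hA.1 hA.2.1 hBB hnot
    have hA' : (abelianFamily Q).IsMax R A' := ⟨hA'R, hA'c, fun E h1 h2 => hcard ▸ hA.2.2 E h1 h2⟩
    have hA'C : A' ≤ Subgroup.centralizer (B : Set Q) := by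
      by_contra h
      exact hlt1.ne (Subgroup.eq_of_le_of_card_ge hlt1.le (hAmax A' ⟨hA', h⟩))
    exact hlt2.ne (inf_eq_right.2 (habs A' hA' hA'C))
  obtain ⟨a, haA, haC⟩ := SetLike.not_le_iff_exists.1 hAC
  refine ⟨a, hA.1 haA, haC, fun b hb => ?_⟩
  have h1 : ⁅a, b⁆ ∈ A := by
    have := conj_mem_of_nrm (hBA hb) (inv_mem haA)
    rw [show ⁅a, b⁆ = a * (b * a⁻¹ * b⁻¹) by simp [commutatorElement_def, mul_assoc]]
    exact mul_mem haA this
  exact commutatorElement_eq_one_iff_mul_comm.2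
    (congrArg Subtype.val (hA.2.1.is_comm.comm (⟨a, haA⟩ : ↥A) ⟨_, h1⟩))

theorem le_nrm_sup_aux {A B T : Subgroup G} (hA : T ≤ nrm A) (hB : T ≤ nrm B) : T ≤ nrm (A ⊔ B) := by
  intro t ht
  rw [mem_nrm_iff_cnj, cnj, Subgroup.map_sup, ← cnj, ← cnj, mem_nrm_iff_cnj.1 (hA ht),
    mem_nrm_iff_cnj.1 (hB ht)]

theorem zj_le (S : Sylow p G) : zj S ≤ (S : Subgroup G) := by
  rw [zj, centerThompsonAOf_eq_core]; exact (abelianFamily G).core_le _

theorem nrm_le_nrm_zj (S : Sylow p G) : nrm (S : Subgroup G) ≤ nrm (zj S) := by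
  rw [zj, centerThompsonAOf_eq_core]; exact (abelianFamily G).normalizer_le_core _

theorem le_nrm_zj (S : Sylow p G) : (S : Subgroup G) ≤ nrm (zj S) :=
  Subgroup.le_normalizer.trans (nrm_le_nrm_zj S)

theorem zj_comm (S : Sylow p G) {a b : G} (ha : a ∈ zj S) (hb : b ∈ zj S) : a * b = b * a := by
  have hc : IsMulCommutative ↥(zj S) := by
    rw [zj, centerThompsonAOf_eq_core]; exact (abelianFamily G).core_comm _
  exact congrArg Subtype.val (hc.is_comm.comm (⟨a, ha⟩ : ↥(zj S)) ⟨b, hb⟩)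

/-- The case `Z(J(S)) ≤ O_p(G)`. -/
theorem conclusion_of_le_pCore (hp : p ≠ 2) (S : Sylow p G) {n : ZMod p} (hn : n ≠ 0)
    (hgen : ∀ a : ZMod p, a ≠ 0 → ∃ i : ℕ, n ^ i = a) (hne : nrm (zj S) ≠ ⊤)
    (hsub : ∀ M : Subgroup G, (S : Subgroup G) ≤ M → M ≠ ⊤ → ∀ (A : Set G), ∀ g ∈ M,
      A ⊆ (S : Subgroup G) → img g A ⊆ (S : Subgroup G) →
        ∃ x ∈ nrm (zj S), ∀ a ∈ A, x * a * x⁻¹ = g * a * g⁻¹)
    (hWQ : zj S ≤ pCore p G) : Conclusion S n := by
  classical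
  set W := zj S with hW
  set H := nrm W with hH
  set Q := pCore p G with hQ
  have hQS : Q ≤ (S : Subgroup G) := Thompson.pCore_le_sylow S
  have hC : ∀ g : G, (∀ t ∈ Q, g * t * g⁻¹ = t) → g ∈ H := fun g hg =>
    mem_nrm_of_forall fun w hw => by rw [hg w (hWQ hw)]; exact hw
  -- proper overgroups of `S` lie in `H`
  have hover : ∀ M : Subgroup G, (S : Subgroup G) ≤ M → M ≠ ⊤ → M ≤ H := by
    intro M h1 h2 m hm
    obtain ⟨x, hx, he⟩ := hsub M h1 h2 (Q : Set G) m hm hQS (by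
      rintro _ ⟨t, ht, rfl⟩; exact hQS ((inferInstance : Q.Normal).conj_mem t ht m))
    have hc : x⁻¹ * m ∈ H := hC _ fun t ht => by
      rw [show x⁻¹ * m * t * (x⁻¹ * m)⁻¹ = x⁻¹ * (m * t * m⁻¹) * x by group, ← he t ht]
      group
    simpa using mul_mem hx hc
  -- a bad normal subgroup
  obtain ⟨B, hB, hBQ, hBW, hBns⟩ : ∃ (B : Subgroup G) (_ : B.Normal), B ≤ Q ∧ ¬ (B ⊓ W).Normal ∧
      ¬ Cfsg.IsPStableOn p B := by
    by_contra h
    push Not at h
    have hh := (abelianFamily G).core_inf_normal hp S (fun P hP1 hP2 hP3 =>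
      h P hP1 hP2 (by rw [hW, zj, centerThompsonAOf_eq_core]; exact hP3)) Q inferInstance le_rfl
    rw [← centerThompsonAOf_eq_core, inf_eq_right.2 hWQ] at hh
    exact hne (Subgroup.normalizer_eq_top_iff.2 hh)
  have hXB : B ⊓ W ≤ B := inf_le_left
  have hstab : nrm (B ⊓ W) ≤ H := hover _
    (fun s hs => mem_nrm_of_forall fun y hy =>
      ⟨hB.conj_mem y hy.1 s, conj_mem_of_nrm (le_nrm_zj S hs) hy.2⟩)
    (fun h => hBW (Subgroup.normalizer_eq_top_iff.1 h))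
  obtain ⟨a, haq, ha⟩ : ∃ a, ⁅⁅B, Subgroup.zpowers a⁆, Subgroup.zpowers a⁆ = ⊥ ∧
      (QuotientGroup.mk a : G ⧸ Subgroup.centralizer (B : Set G)) ∉
        pCore p (G ⧸ Subgroup.centralizer (B : Set G)) := by
    by_contra h
    push Not at h
    exact hBns h
  set f := QuotientGroup.mk' (Subgroup.centralizer (B : Set G)) with hf
  set D := (pCore p (G ⧸ Subgroup.centralizer (B : Set G))).comap f with hD
  have hQD : Q ≤ D := Subgroup.map_le_iff_le_comap.1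
    (Thompson.le_pCore (Subgroup.Normal.map inferInstance _ (QuotientGroup.mk'_surjective _))
      ((Thompson.isPGroup_pCore (p := p) (G := G)).map f))
  -- a `p`-element with the same action, inside `S`
  have haquad : ∀ b ∈ B, ⁅a, ⁅a, b⁆⁆ = 1 := by
    intro b hb
    have h1 : ⁅⁅b, a⁆, a⁆ ∈ (⊥ : Subgroup G) := haq ▸ Subgroup.commutator_mem_commutator
      (Subgroup.commutator_mem_commutator hb (Subgroup.mem_zpowers a)) (Subgroup.mem_zpowers a)
    rw [Subgroup.mem_bot, commutatorElement_eq_one_iff_mul_comm] at h1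
    rw [commutatorElement_eq_one_iff_mul_comm, ← commutatorElement_inv b a]
    exact (Commute.inv_left (h1 : Commute ⁅b, a⁆ a)).symm.eq
  have hap : f a ^ p ^ Nat.card ↥B = 1 := by
    rw [← map_pow]
    refine (QuotientGroup.eq_one_iff _).2 (Subgroup.mem_centralizer_iff.2 fun b hb => ?_)
    have key : ∀ i : ℕ, a ^ i * b * (a ^ i)⁻¹ = ⁅a, b⁆ ^ i * b := by
      intro i
      induction i with
      | zero => simp
      | succ i ih =>
        have hc : Commute a ⁅a, b⁆ := commutatorElement_eq_one_iff_mul_comm.1 (haquad b hb)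
        rw [pow_succ', show a * a ^ i * b * (a * a ^ i)⁻¹ = a * (a ^ i * b * (a ^ i)⁻¹) * a⁻¹ by group,
          ih, ← mul_assoc, (hc.pow_right i).eq, pow_succ]
        simp [commutatorElement_def, mul_assoc]
    have hd : ⁅a, b⁆ ∈ B := mul_mem (hB.conj_mem b hb a) (inv_mem hb)
    have hpow : ⁅a, b⁆ ^ p ^ Nat.card ↥B = 1 := by
      obtain ⟨k, hk⟩ := IsPGroup.iff_card.1 ((Thompson.isPGroup_pCore (p := p) (G := G)).to_le hBQ)
      have h1 : ⁅a, b⁆ ^ Nat.card ↥B = 1 :=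
        congrArg Subtype.val (pow_card_eq_one' (x := (⟨_, hd⟩ : ↥B)))
      rw [hk] at h1 ⊢
      have hle : k ≤ p ^ k := (Nat.lt_pow_self (Fact.out : p.Prime).one_lt).le
      rw [← Nat.sub_add_cancel hle, pow_add p, mul_comm, pow_mul, h1, one_pow]
    have h2 := key (p ^ Nat.card ↥B)
    rw [hpow, one_mul, mul_inv_eq_iff_eq_mul] at h2
    exact h2.symm
  obtain ⟨a', ha'S, ha'q, ha'D⟩ : ∃ a' ∈ (S : Subgroup G), a' ∈ quadSet B (⊥ : Subgroup G) ∧ a' ∉ D := by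
    let S' := S.mapSurjective (f := f) (QuotientGroup.mk'_surjective _)
    have hpa : IsPGroup p ↥(Subgroup.zpowers (f a)) := IsPGroup.of_card_dvd_pow (n := Nat.card ↥B)
      (by rw [Nat.card_zpowers]; exact orderOf_dvd_of_pow_eq_one hap)
    obtain ⟨P', hP'⟩ := hpa.exists_le_sylow
    obtain ⟨g', hg'⟩ := MulAction.exists_smul_eq (G ⧸ Subgroup.centralizer (B : Set G)) P' S'
    obtain ⟨g, rfl⟩ := QuotientGroup.mk'_surjective _ g'
    have hmem : f (g * a * g⁻¹) ∈ (S : Subgroup G).map f := by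
      have h1 : f g * f a * (f g)⁻¹ ∈ (S' : Subgroup _) := by
        rw [← hg']
        exact Subgroup.smul_mem_pointwise_smul _ (MulAut.conj (f g)) _ (hP' (Subgroup.mem_zpowers _))
      rw [map_mul, map_mul, map_inv]
      exact h1
    obtain ⟨s, hs, hse⟩ := hmem
    have hsc : ∀ b ∈ B, s * b * s⁻¹ = g * a * g⁻¹ * b * (g * a * g⁻¹)⁻¹ := by
      intro b hb
      have hc : (g * a * g⁻¹)⁻¹ * s ∈ Subgroup.centralizer (B : Set G) := QuotientGroup.eq.1 hse.symm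
      have h1 := Subgroup.mem_centralizer_iff.1 hc b hb
      calc s * b * s⁻¹ = (g * a * g⁻¹) * (((g * a * g⁻¹)⁻¹ * s) * b) * ((g * a * g⁻¹)⁻¹ * s)⁻¹ *
            (g * a * g⁻¹)⁻¹ := by group
        _ = g * a * g⁻¹ * b * (g * a * g⁻¹)⁻¹ := by rw [← h1]; group
    refine ⟨s, hs, fun b hb => ?_, fun hsD => ha ?_⟩
    · have hgB : g ∈ nrm B := by rw [nrm_eq_top]; exact Subgroup.mem_top g
      have hq := conj_mem_quadSet (Y₀ := (⊥ : Subgroup G)) hgB (by rw [nrm_eq_top]; exact Subgroup.mem_top g)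
        (fun b hb => Subgroup.mem_bot.2 (haquad b hb)) b hb
      have hd : ⁅g * a * g⁻¹, b⁆ ∈ B := mul_mem (hB.conj_mem b hb _) (inv_mem hb)
      have e1 : ⁅s, b⁆ = ⁅g * a * g⁻¹, b⁆ := by
        rw [commutatorElement_def, hsc b hb, ← commutatorElement_def]
      rw [e1, commutatorElement_def, hsc _ hd, ← commutatorElement_def]
      exact hq
    · have h1 : f (g * a * g⁻¹) ∈ pCore p (G ⧸ Subgroup.centralizer (B : Set G)) := hse ▸ hsD
      have h2 := (inferInstance : (pCore p (G ⧸ Subgroup.centralizer (B : Set G))).Normal).conj_mem _ h1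
        (f g)⁻¹
      convert h2 using 1
      show f a = _
      simp only [map_mul, map_inv]
      group
  -- the quadratic part of `S` is not normal
  have hgen0 : nrm (qgen B (⊥ : Subgroup G) (S : Subgroup G)) ≠ ⊤ := by
    intro h
    haveI : (qgen B (⊥ : Subgroup G) (S : Subgroup G)).Normal := Subgroup.normalizer_eq_top_iff.1 h
    exact ha'D (hQD (Thompson.le_pCore ‹_› (S.2.to_le (qgen_le _ _ _)) (mem_qgen ha'S ha'q)))
  have hBT : nrm B = ⊤ := nrm_eq_top B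
  have hbot : nrm (⊥ : Subgroup G) = ⊤ := nrm_eq_top _
  have hHQ : H ≤ realGroup H Q := fun g hg => ⟨by rw [nrm_eq_top]; exact Subgroup.mem_top g,
    g, hg, fun t _ => rfl⟩
  have hHX : H ≤ realGroup H (B ⊓ W) := fun g hg => ⟨mem_nrm_of_forall fun y hy =>
    ⟨hB.conj_mem y hy.1 g, conj_mem_of_nrm hg hy.2⟩, g, hg, fun t _ => rfl⟩
  have hfin : ∀ g ∈ (⊤ : Subgroup G), g ∈ centMod (⊥ : Subgroup G) ((B ⊓ W : Subgroup G) : Set G) → g ∈ H := by
    intro g _ hg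
    refine hstab (mem_nrm_of_forall fun y hy => ?_)
    have h1 : g * y = y * g := commutatorElement_eq_one_iff_mul_comm.1 (Subgroup.mem_bot.1 (hg.2 y hy))
    rw [h1, mul_inv_cancel_right]; exact hy
  refine conclusion_of_local hp S hn hgen (K := ⊤) (T := Q) (R := (S : Subgroup G)) (B := B)
    (Y₀ := ⊥) (X := B ⊓ W) (M := H) (MX := H) (le_nrm_zj S) hQS hBQ bot_le (by rw [hbot]; exact le_top)
    (by rw [hBT]) (by rw [hbot]) (isSylowIn_top S) (le_nrm_zj S) ?_ hHQ (by rw [hBT]; exact le_top)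
    (fun h => hne (top_le_iff.1 h)) (fun g hg hg' => hfin g hg ⟨hg'.1, fun y hy => hg'.2 y hy.1⟩)
    hXB inf_le_right le_rfl hHX (fun h => hne (top_le_iff.1 h)) hfin
  rw [top_inf_eq]
  exact hover _ (fun s hs => mem_nrm_qgen (by rw [hBT]; exact Subgroup.mem_top s)
    (by rw [hbot]; exact Subgroup.mem_top s) (Subgroup.le_normalizer hs)) hgen0

set_option maxHeartbeats 1000000 in
/-- The case `Z(J(S)) ≰ O_p(G)`. -/
theorem conclusion_of_not_le_pCore (hp : p ≠ 2) (S : Sylow p G) {n : ZMod p} (hn : n ≠ 0)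
    (hgen : ∀ a : ZMod p, a ≠ 0 → ∃ i : ℕ, n ^ i = a)
    (hsub : ∀ M : Subgroup G, (S : Subgroup G) ≤ M → M ≠ ⊤ → ∀ (A : Set G), ∀ g ∈ M,
      A ⊆ (S : Subgroup G) → img g A ⊆ (S : Subgroup G) →
        ∃ x ∈ nrm (zj S), ∀ a ∈ A, x * a * x⁻¹ = g * a * g⁻¹)
    (hWQ : ¬ zj S ≤ pCore p G) (hfail : ¬ Ctl S) : Conclusion S n := by
  classical
  set W := zj S with hW
  set H := nrm W with hH
  set Q := pCore p G with hQ
  have hQS : Q ≤ (S : Subgroup G) := Thompson.pCore_le_sylow S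
  have hWS : W ≤ (S : Subgroup G) := zj_le S
  have hSH : (S : Subgroup G) ≤ H := le_nrm_zj S
  let Good : Subgroup G → Prop := fun T => ∀ g ∈ nrm T, Real H T g
  let S' : Subgroup G := (S : Subgroup G)
  -- composition along chains
  have hchain : ∀ (𝓕 : Set (Subgroup G)), (∀ T ∈ 𝓕, Good T) → ∀ (A : Set G) (g : G), Reach 𝓕 A g →
      ∃ x ∈ H, ∀ a ∈ A, x * a * x⁻¹ = g * a * g⁻¹ := by
    intro 𝓕 hF A g h
    induction h with
    | one A => exact ⟨1, one_mem _, fun a _ => rfl⟩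
    | @cons A T x g hT hA hx _ ih =>
      obtain ⟨y, hy, hye⟩ := ih
      obtain ⟨w, hw, hwe⟩ := hF T hT x hx
      refine ⟨y * w, mul_mem hy hw, fun a ha => ?_⟩
      calc y * w * a * (y * w)⁻¹ = y * (w * a * w⁻¹) * y⁻¹ := by group
        _ = g * (x * a * x⁻¹) * g⁻¹ := by rw [hwe a (hA ha), hye _ ⟨a, ha, rfl⟩]
        _ = g * x * a * (g * x)⁻¹ := by group
  -- a failing subgroup of maximal key
  obtain ⟨T₀, hT₀S, hT₀⟩ : ∃ T : Subgroup G, T ≤ S' ∧ ¬ Good T := by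
    by_contra h
    push Not at h
    exact hfail fun A g hA hgA =>
      hchain _ (fun T hT => h T hT.1) A g (reach_fully S A g hA hgA)
  obtain ⟨T₁, ⟨hT₁S, hT₁⟩, hT₁max⟩ := Set.exists_max_image {T : Subgroup G | T ≤ S' ∧ ¬ Good T}
    (fun T => Nat.card ↥(S' ⊓ nrm T)) (Set.toFinite _) ⟨T₀, hT₀S, hT₀⟩
  obtain ⟨T, ⟨hTS, hTbad, hTR⟩, hTmax⟩ := Set.exists_max_image
    {T : Subgroup G | T ≤ S' ∧ ¬ Good T ∧ Nat.card ↥(S' ⊓ nrm T) = Nat.card ↥(S' ⊓ nrm T₁)}
    (fun T => Nat.card ↥T) (Set.toFinite _) ⟨T₁, hT₁S, hT₁, rfl⟩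
  set R := S' ⊓ nrm T with hRdef
  set K := nrm T with hKdef
  have hbig : ∀ E : Subgroup G, E ≤ S' → Nat.card ↥R < Nat.card ↥(S' ⊓ nrm E) → Good E := by
    intro E hE hlt
    by_contra h
    exact absurd (hT₁max E ⟨hE, h⟩) (by rw [hTR] at hlt; omega)
  have hbig' : ∀ E : Subgroup G, E ≤ S' → Nat.card ↥R ≤ Nat.card ↥(S' ⊓ nrm E) →
      Nat.card ↥T < Nat.card ↥E → Good E := by
    intro E hE hle hlt
    by_contra h
    have h1 := hT₁max E ⟨hE, h⟩
    have h2 : Nat.card ↥(S' ⊓ nrm E) = Nat.card ↥(S' ⊓ nrm T₁) := by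
      rw [hTR] at hle; omega
    exact absurd (hTmax E ⟨hE, h, h2⟩) (by omega)
  have hTne : T ≠ S' := fun e => hTbad fun g hg =>
    ⟨g, nrm_le_nrm_zj S (by simpa [e, S'] using hg), fun t _ => rfl⟩
  have hTR' : T ≤ R := le_inf hTS Subgroup.le_normalizer
  have hTlt : Nat.card ↥T < Nat.card ↥R :=
    (Subgroup.card_le_of_le hTR').lt_of_ne fun h =>
      (lt_inf_nrm S.2 hTS hTne).ne (Subgroup.eq_of_le_of_card_ge hTR' h.ge)
  have hRS : R ≤ S' := inf_le_left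
  have hRK : R ≤ K := inf_le_right
  have hRp : IsPGroup p ↥R := S.2.to_le hRS
  -- maps defined on `R`
  have hagree : ∀ g : G, cnj g R ≤ S' → Real H R g := by
    intro g hg
    have hr := (reach_fully S (R : Set G) g hRS (by rw [← coe_cnj]; exact hg)).filter
      (fun B => Nat.card ↥R ≤ B.ncard) (fun B x hB => by
        rw [img, Set.ncard_image_of_injective _ (fun a b h => by simpa using h)]; exact hB)
      (Ψ := {U | U ≤ S' ∧ Nat.card ↥R ≤ Nat.card ↥U})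
      (fun B U hU hBU hB => ⟨hU.1, hB.trans ((Set.ncard_le_ncard hBU (Set.toFinite _)).trans_eq
        (Nat.card_coe_set_eq _).symm)⟩) (Nat.card_coe_set_eq _).le
    refine hchain _ (fun U hU => hbig' U hU.1 ?_ (hTlt.trans_le hU.2)) _ _ hr
    exact hU.2.trans (Subgroup.card_le_of_le (le_inf hU.1 Subgroup.le_normalizer))
  -- `R` is a Sylow subgroup of `K`
  have hRsyl : IsSylowIn p R K := by
    obtain ⟨P, hP, hRP⟩ := exists_isSylowIn K hRp hRK
    rcases eq_or_ne P R with rfl | hne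
    · exact hP
    exfalso
    obtain ⟨g, -, hg⟩ := (isSylowIn_top S).exists_cnj_le hP.isPGroup le_top
    obtain ⟨x, hx, hxe⟩ := hagree g ((cnj_le_cnj.2 hRP).trans hg)
    have hgood : Good (cnj g T) := by
      refine hbig _ ((cnj_le_cnj.2 (hTR'.trans hRP)).trans hg) ?_
      refine lt_of_lt_of_le ?_ (Subgroup.card_le_of_le
        (le_inf hg ((cnj_le_cnj.2 hP.le).trans_eq (cnj_nrm g T))))
      rw [card_cnj]
      exact (Subgroup.card_le_of_le hRP).lt_of_ne fun h => hne (Subgroup.eq_of_le_of_card_ge hRP h.ge).symm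
    refine hTbad fun k hk => ?_
    have hk' : g * k * g⁻¹ ∈ nrm (cnj g T) := by rw [← cnj_nrm]; exact conj_mem_cnj.2 hk
    obtain ⟨y, hy, hye⟩ := hgood _ hk'
    refine ⟨x⁻¹ * y * x, mul_mem (mul_mem (inv_mem hx) hy) hx, fun t ht => ?_⟩
    calc x⁻¹ * y * x * t * (x⁻¹ * y * x)⁻¹ = x⁻¹ * (y * (x * t * x⁻¹) * y⁻¹) * x := by group
      _ = x⁻¹ * (g * (k * t * k⁻¹) * g⁻¹) * x := by
          rw [hxe t (hTR' ht), hye _ (conj_mem_cnj.2 ht)]; group
      _ = x⁻¹ * (x * (k * t * k⁻¹) * x⁻¹) * x := by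
          rw [hxe _ (hTR' (conj_mem_of_nrm hk ht))]
      _ = k * t * k⁻¹ := by group
  set M := K ⊓ realGroup H T with hM
  have hMreal : M ≤ realGroup H T := inf_le_right
  have hMmem : ∀ {k : G}, k ∈ K → Real H T k → k ∈ M := fun hk h => ⟨hk, hk, h⟩
  have hKM : ¬ K ≤ M := fun h => hTbad fun k hk => (h hk).2.2
  have hRM : R ≤ M := fun r hr => hMmem (hRK hr) ⟨r, hSH (hRS hr), fun t _ => rfl⟩
  have hCM : ∀ k ∈ K, (∀ t ∈ T, k * t * k⁻¹ = t) → k ∈ M := fun k hk h =>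
    hMmem hk ⟨1, one_mem _, fun t ht => by rw [h t ht]; simp⟩
  have hgoodE : ∀ E : Subgroup G, T < E → E ≤ R → R ≤ nrm E → K ⊓ nrm E ≤ M := by
    intro E hlt hER hRE k hk
    refine hMmem hk.1 ((hbig' E (hER.trans hRS)
      (Subgroup.card_le_of_le (le_inf hRS hRE)) ?_ k hk.2).mono hlt.le)
    exact (Subgroup.card_le_of_le hlt.le).lt_of_ne fun h => hlt.ne (Subgroup.eq_of_le_of_card_ge hlt.le h.ge)
  have hTn : R ≤ nrm T := hRK
  have hKT : K ≤ nrm T := le_rfl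
  have hQT : Q ≤ T := by
    have hQn : ∀ g : G, g ∈ nrm Q := fun g => by rw [nrm_eq_top]; exact Subgroup.mem_top g
    set E := (T ⊔ Q) ⊓ nrm T with hE
    have hER : E ≤ R := le_inf (inf_le_left.trans (sup_le hTS hQS)) inf_le_right
    have hTE : T ≤ E := le_inf le_sup_left Subgroup.le_normalizer
    have hKE : K ≤ nrm E := fun k hk => mem_nrm_iff_cnj.2 (by
      rw [hE, cnj_inf, cnj_nrm, cnj, Subgroup.map_sup, ← cnj, ← cnj, mem_nrm_iff_cnj.1 hk,
        mem_nrm_iff_cnj.1 (hQn k)])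
    rcases eq_or_lt_of_le hTE with he | hlt
    · have hp' : IsPGroup p ↥(T ⊔ Q) := S.2.to_le (sup_le hTS hQS)
      by_contra hcon
      exact (lt_inf_nrm hp' le_sup_left (fun e => hcon (e ▸ le_sup_right))).ne he
    · exact absurd (fun k hk => hgoodE E hlt hER (hRK.trans hKE) ⟨hk, hKE hk⟩) hKM
  -- normal subgroups of `K` inside `M`
  have hkill : ∀ N : Subgroup G, N ≤ M → K ≤ nrm N → R ⊓ N ≤ T := by
    intro N hNM hKN
    by_contra hnot
    have hS := isSylowIn_inf_of_normal hRsyl (hNM.trans inf_le_left) hKN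
    set E := T ⊔ (R ⊓ N)
    have hlt : T < E := lt_of_le_not_ge le_sup_left fun h => hnot (le_sup_right.trans h)
    refine hKM fun k hk => ?_
    obtain ⟨c, hc, s, hs, rfl⟩ := exists_mul_of_frattini hS (hKN hk)
    have hsK : s ∈ K := by
      have h1 : c⁻¹ * (c * s) ∈ K := K.mul_mem (K.inv_mem (hNM hc).1) hk
      rwa [inv_mul_cancel_left] at h1
    refine M.mul_mem (hNM hc) (hgoodE E hlt (sup_le hTR' inf_le_left)
      (le_nrm_sup_aux hTn (fun r hr => mem_nrm_of_forall fun y hy =>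
        ⟨conj_mem_of_nrm (Subgroup.le_normalizer hr) hy.1, conj_mem_of_nrm (hKN (hRK hr)) hy.2⟩))
      ⟨hsK, le_nrm_sup_aux (T := Subgroup.zpowers s) (Subgroup.zpowers_le.2 (hKT hsK))
        (Subgroup.zpowers_le.2 hs) (Subgroup.mem_zpowers s)⟩)
  -- `R = S` forces `T = Q`
  have hRlt : T ≠ Q → R < S' := by
    intro hne
    refine lt_of_le_of_ne hRS fun e => ?_
    have hKtop : K ≠ ⊤ := fun h => hne (le_antisymm (Thompson.le_pCore
      (Subgroup.normalizer_eq_top_iff.1 h) (S.2.to_le hTS)) hQT)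
    refine hTbad fun k hk => ?_
    obtain ⟨x, hx, he⟩ := hsub K (e.ge.trans hRK) hKtop (T : Set G) k hk hTS (by
      rintro _ ⟨t, ht, rfl⟩; exact hTS (conj_mem_of_nrm hk ht))
    exact ⟨x, hx, he⟩
  set qB := fun (B Y₀ : Subgroup G) => qgen B Y₀ R
  have hgoodq : ∀ B Y₀ : Subgroup G, K ≤ nrm B → K ≤ nrm Y₀ → (∃ a ∈ R, a ∈ quadSet B Y₀ ∧ a ∉ T) →
      K ⊓ nrm (qgen B Y₀ R) ≤ M := by
    rintro B Y₀ hB hY ⟨a, haR, haq, haT⟩ k hk
    have hlt : T < T ⊔ qgen B Y₀ R := lt_of_le_not_ge le_sup_left fun h =>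
      haT (h (Subgroup.mem_sup_right (mem_qgen haR haq)))
    exact hgoodE _ hlt (sup_le hTR' (qgen_le _ _ _))
      (le_nrm_sup_aux hTn fun r hr =>
        mem_nrm_qgen (hB (hRK hr)) (hY (hRK hr)) (Subgroup.le_normalizer hr))
      ⟨hk.1, le_nrm_sup_aux (T := Subgroup.zpowers k) (Subgroup.zpowers_le.2 (hKT hk.1))
        (Subgroup.zpowers_le.2 hk.2) (Subgroup.mem_zpowers k)⟩
  by_cases hA : W ⊓ R ≤ T
  swap
  · -- an element of `W` acting on `T`
    obtain ⟨u, hu, huT⟩ := SetLike.not_le_iff_exists.1 hA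
    set X := W ⊓ T with hX
    set MX := K ⊓ realGroup H X with hMXdef
    have huq : u ∈ quadSet T (⊥ : Subgroup G) := fun b hb => by
      rw [Subgroup.mem_bot, commutatorElement_eq_one_iff_mul_comm]
      refine zj_comm S hu.1 ?_
      rw [show ⁅u, b⁆ = u * (b * u⁻¹ * b⁻¹) by simp [commutatorElement_def, mul_assoc]]
      exact mul_mem hu.1 (conj_mem_of_nrm (hSH (hTS hb)) (inv_mem hu.1))
    have hMMX : M ≤ MX := by
      rintro k ⟨hk, hkT, x, hx, he⟩
      refine ⟨hk, mem_nrm_of_forall fun y hy => ⟨?_, conj_mem_of_nrm hkT hy.2⟩,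
        x, hx, fun t ht => he t ht.2⟩
      rw [← he y hy.2]
      exact conj_mem_of_nrm hx hy.1
    have hbot : ∀ g : G, g ∈ nrm (⊥ : Subgroup G) := fun g => by rw [nrm_eq_top]; exact Subgroup.mem_top g
    have hKMX : ¬ K ≤ MX := by
      intro hle
      have hKX : K ≤ nrm X := fun k hk => (hle hk).2.1
      -- the stabilizer of the series `T > X > 1`
      let N : Subgroup G :=
        { carrier := {k | k ∈ K ∧ (∀ t ∈ T, ⁅k, t⁆ ∈ X) ∧ ∀ y ∈ X, k * y = y * k}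
          one_mem' := ⟨one_mem _, fun t _ => by simp, fun y _ => by simp⟩
          mul_mem' := by
            rintro a b ⟨ha, ha', ha''⟩ ⟨hb, hb', hb''⟩
            refine ⟨mul_mem ha hb, fun t ht => ?_, fun y hy => ?_⟩
            · rw [show ⁅a * b, t⁆ = a * ⁅b, t⁆ * a⁻¹ * ⁅a, t⁆ by simp [commutatorElement_def, mul_assoc]]
              exact mul_mem (conj_mem_of_nrm (hKX ha) (hb' t ht)) (ha' t ht)
            · rw [mul_assoc, hb'' y hy, ← mul_assoc, ha'' y hy, mul_assoc]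
          inv_mem' := by
            rintro a ⟨ha, ha', ha''⟩
            refine ⟨inv_mem ha, fun t ht => ?_, fun y hy => ?_⟩
            · rw [show ⁅a⁻¹, t⁆ = a⁻¹ * ⁅a, t⁆⁻¹ * a⁻¹⁻¹ by simp [commutatorElement_def, mul_assoc]]
              exact conj_mem_of_nrm (inv_mem (hKX ha)) (inv_mem (ha' t ht))
            · rw [inv_mul_eq_iff_eq_mul, ← mul_assoc, ha'' y hy, mul_inv_cancel_right] }
      have hNK : K ≤ nrm N := by
        intro k hk
        refine mem_nrm_of_forall fun a ha => ⟨K.mul_mem (K.mul_mem hk ha.1) (K.inv_mem hk),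
          fun t ht => ?_, fun y hy => ?_⟩
        · rw [show ⁅k * a * k⁻¹, t⁆ = k * ⁅a, k⁻¹ * t * k⁻¹⁻¹⁆ * k⁻¹ by
            simp [commutatorElement_def, mul_assoc]]
          exact conj_mem_of_nrm (hKX hk) (ha.2.1 _ (conj_mem_of_nrm (inv_mem hk) ht))
        · have h1 := ha.2.2 _ (conj_mem_of_nrm (inv_mem (hKX hk)) hy)
          calc k * a * k⁻¹ * y = k * (a * (k⁻¹ * y * k⁻¹⁻¹)) * k⁻¹ := by group
            _ = k * ((k⁻¹ * y * k⁻¹⁻¹) * a) * k⁻¹ := by rw [h1]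
            _ = y * (k * a * k⁻¹) := by group
      have hNM : N ≤ M := by
        refine le_of_coprime_of_sylow (isSylowIn_inf_of_normal hRsyl (fun a ha => ha.1) hNK)
          (inf_le_left.trans hRM) fun c hc hco => hCM c hc.1 fun t ht => ?_
        have hd := hc.2.1 t ht
        have hiter : ∀ i : ℕ, c ^ i * t * (c ^ i)⁻¹ = ⁅c, t⁆ ^ i * t := by
          intro i
          induction i with
          | zero => simp
          | succ i ih =>
            rw [pow_succ', show c * c ^ i * t * (c * c ^ i)⁻¹ = c * (c ^ i * t * (c ^ i)⁻¹) * c⁻¹ by group,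
              ih, ← mul_assoc, hc.2.2 _ (pow_mem hd i), pow_succ]
            simp [commutatorElement_def, mul_assoc]
        have h1 := hiter (orderOf c)
        rw [pow_orderOf_eq_one, one_mul, inv_one, mul_one, eq_comm, mul_eq_right] at h1
        obtain ⟨j, hj⟩ := IsPGroup.iff_orderOf.1 (S.2.to_le hTS) ⟨_, hd.2⟩
        have h2 : orderOf ⁅c, t⁆ = 1 := by
          refine Nat.eq_one_of_dvd_coprimes (hco.pow_right j) (orderOf_dvd_of_pow_eq_one h1) ?_
          rw [← hj, ← Subgroup.orderOf_coe]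
        have h3 : ⁅c, t⁆ = 1 := orderOf_eq_one_iff.1 h2
        rw [commutatorElement_eq_one_iff_mul_comm] at h3
        rw [h3, mul_inv_cancel_right]
      refine huT (hkill N hNM hNK ⟨hu.2, hRK hu.2, fun t ht => ⟨?_, ?_⟩, fun y hy => zj_comm S hu.1 hy.1⟩)
      · rw [show ⁅u, t⁆ = u * (t * u⁻¹ * t⁻¹) by simp [commutatorElement_def, mul_assoc]]
        exact mul_mem hu.1 (conj_mem_of_nrm (hSH (hTS ht)) (inv_mem hu.1))
      · exact T.mul_mem (conj_mem_of_nrm (hTn hu.2) ht) (T.inv_mem ht)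
    refine conclusion_of_local hp S hn hgen (K := K) (T := T) (R := R) (B := T) (Y₀ := ⊥) (X := X)
      (M := M) (MX := MX) hSH hTS le_rfl bot_le (fun t _ => hbot t) hKT (fun k _ => hbot k) hRsyl hRM
      (hgoodq T ⊥ hKT (fun k _ => hbot k) ⟨u, hu.2, huq, huT⟩) hMreal inf_le_left hKM
      (fun g hg hg' => hCM g hg fun t ht => ?_) inf_le_right inf_le_left hMMX inf_le_right hKMX
      (fun g hg hg' => ⟨hg, mem_nrm_of_forall fun y hy => ?_, 1, one_mem _, fun y hy => ?_⟩)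
    · have := Subgroup.mem_bot.1 (hg'.2 t ht)
      rw [commutatorElement_eq_one_iff_mul_comm] at this
      rw [this, mul_inv_cancel_right]
    · have := Subgroup.mem_bot.1 (hg'.2 y hy)
      rw [commutatorElement_eq_one_iff_mul_comm] at this
      rw [this, mul_inv_cancel_right]; exact hy
    · have := Subgroup.mem_bot.1 (hg'.2 y hy)
      rw [commutatorElement_eq_one_iff_mul_comm] at this
      rw [this, mul_inv_cancel_right]; simp
  -- now `W ≤ T`
  have hsubset : ∀ (C : Subgroup G), C ≤ S' → T ≤ nrm C → C ⊓ R ≤ T → C ≤ T := by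
    intro C hCS hTC hle
    have hp' : IsPGroup p ↥(T ⊔ C) := S.2.to_le (sup_le hTS hCS)
    by_contra hnot
    refine (lt_inf_nrm hp' le_sup_left (fun e => hnot (e ▸ le_sup_right))).not_ge fun y hy => ?_
    obtain ⟨hy1, hy2⟩ := hy
    have hy1 : y ∈ ((T ⊔ C : Subgroup G) : Set G) := hy1
    rw [Subgroup.coe_mul_of_left_le_normalizer_right _ _ hTC] at hy1
    obtain ⟨t, ht, c, hc, rfl⟩ := hy1
    have hcR : c ∈ R := ⟨hCS hc, by
      have := mul_mem (inv_mem (Subgroup.le_normalizer ht : t ∈ nrm T)) hy2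
      simpa using this⟩
    exact mul_mem ht (hle ⟨hc, hcR⟩)
  have hWT : W ≤ T := hsubset W hWS (hTS.trans hSH) hA
  have hTQne : T ≠ Q := fun e => hWQ (e ▸ hWT)
  have hRltS : R < S' := hRlt hTQne
  have hQn : ∀ g : G, g ∈ nrm Q := fun g => by rw [nrm_eq_top]; exact Subgroup.mem_top g
  -- an element of `W` central modulo `Q`
  obtain ⟨x, hxW, hxQ, hxS⟩ : ∃ x ∈ W, x ∉ Q ∧ ∀ s ∈ S', ⁅s, x⁆ ∈ Q := by
    obtain ⟨y, hy, hyQ, hyc⟩ := exists_fixed_section (Y := Q) (Y' := Q ⊔ W) (P := S')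
      (S.2.to_le (sup_le hQS hWS)) S.2
      (lt_of_le_not_ge le_sup_left fun h => hWQ (le_sup_right.trans h)) (fun g _ => hQn g)
      (fun g _ => hQn g) (le_nrm_sup_aux (fun g _ => hQn g) hSH)
    have hy : y ∈ ((Q ⊔ W : Subgroup G) : Set G) := hy
    rw [Subgroup.coe_mul_of_right_le_normalizer_left _ _ (fun g _ => hQn g)] at hy
    obtain ⟨a, ha, w, hw, rfl⟩ := hy
    refine ⟨w, hw, fun h => hyQ (mul_mem ha h), fun s hs => ?_⟩
    have h1 := hyc s hs
    have h2 : ⁅s, a⁆ ∈ Q := mul_mem (conj_mem_of_nrm (hQn s) ha) (inv_mem ha)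
    rw [show ⁅s, a * w⁆ = ⁅s, a⁆ * (a * ⁅s, w⁆ * a⁻¹) by simp [commutatorElement_def, mul_assoc]] at h1
    have h3 := conj_mem_of_nrm (hQn a⁻¹) ((Subgroup.mul_mem_cancel_left _ h2).1 h1)
    simpa [mul_assoc] using h3
  have hsymm : ∀ {a b : G}, ⁅a, b⁆ ∈ Q → ⁅b, a⁆ ∈ Q := fun {a b} h => by
    rw [← commutatorElement_inv a b]; exact inv_mem h
  set Gx := centMod Q ({x} : Set G) with hGx
  have hSGx : S' ≤ Gx := fun s hs => ⟨hQn s, fun y hy => by rw [Set.mem_singleton_iff.1 hy]; exact hxS s hs⟩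
  have hGxne : Gx ≠ ⊤ := by
    intro h
    have hx' : ∀ g : G, ⁅g, x⁆ ∈ Q := fun g => ((h.symm ▸ Subgroup.mem_top g : g ∈ Gx)).2 x rfl
    have hn : (Q ⊔ Subgroup.zpowers x).Normal := by
      rw [← Subgroup.normalizer_eq_top_iff, eq_top_iff]
      intro g _
      refine mem_nrm_of_forall fun y hy => ?_
      obtain ⟨a, ha, b, hb, rfl⟩ := Subgroup.mem_sup_of_normal_left.1 hy
      obtain ⟨j, rfl⟩ := Subgroup.mem_zpowers_iff.1 hb
      rw [show g * (a * x ^ j) * g⁻¹ = (g * a * g⁻¹) * (g * x ^ j * g⁻¹) by group]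
      refine mul_mem (Subgroup.mem_sup_left (conj_mem_of_nrm (hQn g) ha)) ?_
      rw [← conj_zpow]
      refine zpow_mem ?_ j
      rw [show g * x * g⁻¹ = ⁅g, x⁆ * x by simp [commutatorElement_def, mul_assoc]]
      exact mul_mem (Subgroup.mem_sup_left (hx' g)) (Subgroup.mem_sup_right (Subgroup.mem_zpowers x))
    exact hxQ (Thompson.le_pCore hn (S.2.to_le (sup_le hQS (Subgroup.zpowers_le.2 (hWS hxW))))
      (Subgroup.mem_sup_right (Subgroup.mem_zpowers x)))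
  have hGxM : ∀ k ∈ K, k ∈ Gx → k ∈ M := fun k hk hkx => by
    obtain ⟨y, hy, he⟩ := hsub Gx hSGx hGxne (T : Set G) k hkx hTS (by
      rintro _ ⟨t, ht, rfl⟩; exact hTS (conj_mem_of_nrm hk ht))
    exact hMmem hk ⟨y, hy, he⟩
  have hxT : x ∈ T := hWT hxW
  set B := Subgroup.closure ((Q : Set G) ∪ {y | ∃ k ∈ K, k * x * k⁻¹ = y}) with hB
  have hQB : Q ≤ B := fun a ha => Subgroup.subset_closure (Or.inl ha)
  have hxB : x ∈ B := Subgroup.subset_closure (Or.inr ⟨1, one_mem _, by simp⟩)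
  have hBT : B ≤ T := by
    rw [hB, Subgroup.closure_le]
    rintro y (hy | ⟨k, hk, rfl⟩)
    · exact hQT hy
    · exact conj_mem_of_nrm hk hxT
  have hKB : K ≤ nrm B := by
    intro k hk
    have hmap : cnj k B ≤ B := by
      rw [hB, cnj, MonoidHom.map_closure, Subgroup.closure_le]
      rintro _ ⟨y, hy | ⟨g, hg, rfl⟩, rfl⟩
      · exact Subgroup.subset_closure (Or.inl (conj_mem_of_nrm (hQn k) hy))
      · exact Subgroup.subset_closure (Or.inr ⟨k * g, mul_mem hk hg, by simp [mul_assoc]⟩)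
    exact mem_nrm_of_forall fun y hy => hmap (conj_mem_cnj.2 hy)
  have hBcent : B ≤ centMod Q (T : Set G) := by
    rw [hB, Subgroup.closure_le]
    rintro y (hy | ⟨k, hk, rfl⟩) <;> refine ⟨hQn _, fun t ht => ?_⟩
    · exact hsymm (mul_mem (conj_mem_of_nrm (hQn t) hy) (inv_mem hy))
    · rw [show ⁅k * x * k⁻¹, t⁆ = k * ⁅x, k⁻¹ * t * k⁻¹⁻¹⁆ * k⁻¹ by simp [commutatorElement_def, mul_assoc]]
      exact conj_mem_of_nrm (hQn k) (hsymm (hxS _ (hTS (conj_mem_of_nrm (inv_mem hk) ht))))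
  set Nb := K ⊓ centMod Q (B : Set G) with hNb
  have hNbM : Nb ≤ M := fun k hk => hGxM k hk.1 ⟨hQn k, fun y hy => hk.2.2 y (by
    rw [Set.mem_singleton_iff.1 hy]; exact hxB)⟩
  have hKNb : K ≤ nrm Nb := by
    intro k hk
    refine mem_nrm_of_forall fun a ha => ⟨K.mul_mem (K.mul_mem hk ha.1) (K.inv_mem hk), hQn _, fun b hb => ?_⟩
    rw [show ⁅k * a * k⁻¹, b⁆ = k * ⁅a, k⁻¹ * b * k⁻¹⁻¹⁆ * k⁻¹ by simp [commutatorElement_def, mul_assoc]]
    exact conj_mem_of_nrm (hQn k) (ha.2.2 _ (conj_mem_of_nrm (inv_mem (hKB hk)) hb))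
  have hRNb : R ⊓ Nb ≤ T := hkill Nb hNbM hKNb
  -- work modulo `Q`
  set π := QuotientGroup.mk' Q with hπ
  have hπQ : ∀ a : G, π a = 1 ↔ a ∈ Q := fun a => QuotientGroup.eq_one_iff a
  have hBR : B ≤ R := hBT.trans hTR'
  have hcentR : ∀ r ∈ R, π r ∈ Subgroup.centralizer ((B.map π : Subgroup (G ⧸ Q)) : Set (G ⧸ Q)) → r ∈ T := by
    intro r hr hc
    refine hRNb ⟨hr, hRK hr, hQn r, fun b hb => ?_⟩
    rw [← hπQ, map_commutatorElement, commutatorElement_eq_one_iff_mul_comm]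
    exact (Subgroup.mem_centralizer_iff.1 hc _ ⟨b, hb, rfl⟩).symm
  obtain ⟨a, haR, haq, haT⟩ : ∃ a ∈ R, a ∈ quadSet B Q ∧ a ∉ T := by
    have hBcomm : IsMulCommutative ↥(B.map π) := by
      refine ⟨⟨?_⟩⟩
      rintro ⟨_, b, hb, rfl⟩ ⟨_, b', hb', rfl⟩
      refine Subtype.ext (?_ : π b * π b' = π b' * π b)
      rw [← commutatorElement_eq_one_iff_mul_comm, ← map_commutatorElement, hπQ]
      exact (hBcent hb).2 b' (hBT hb')
    rcases exists_quad_or_le hp (hRp.map π) (Subgroup.map_mono hBR)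
      (by
        rintro _ ⟨r, hr, rfl⟩
        exact Subgroup.le_normalizer_map π ⟨r, hKB (hRK hr), rfl⟩) hBcomm with
      ⟨_, ⟨r, hr, rfl⟩, hc, hq⟩ | hall
    · refine ⟨r, hr, fun b hb => ?_, fun hrT => hc ?_⟩
      · rw [← hπQ, map_commutatorElement, map_commutatorElement]
        exact hq _ ⟨b, hb, rfl⟩
      · rw [Subgroup.mem_centralizer_iff]
        rintro _ ⟨b, hb, rfl⟩
        rw [← commutatorElement_eq_one_iff_mul_comm, ← map_commutatorElement, hπQ]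
        exact (hBcent hb).2 r hrT
    exfalso
    set F := abelianFamily (G ⧸ Q)
    -- all abelian subgroups of largest order of `R / Q` lie in `T / Q`
    have hAT : ∀ A, F.IsMax (R.map π) A → A ≤ T.map π := by
      intro A hA a ha
      obtain ⟨r, hr, rfl⟩ := hA.1 ha
      refine ⟨r, hcentR r hr (Subgroup.mem_centralizer_iff.2 fun y hy => ?_), rfl⟩
      exact congrArg Subtype.val (hA.2.1.is_comm.comm (⟨y, hall A hA hy⟩ : ↥A) ⟨_, ha⟩)
    have hcore : F.core (R.map π) = F.core (T.map π) := by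
      obtain ⟨A₀, hA₀⟩ := F.exists_isMax (R.map π)
      have hA₀T : F.IsMax (T.map π) A₀ :=
        ⟨hAT A₀ hA₀, hA₀.2.1, fun E hE hg => hA₀.2.2 E (hE.trans (Subgroup.map_mono hTR')) hg⟩
      refine le_antisymm (le_sInf fun A hA => F.core_le_of_isMax ⟨hA.1.trans (Subgroup.map_mono hTR'),
        hA.2.1, fun E hE hg => (hA₀.2.2 E hE hg).trans (hA.2.2 A₀ hA₀T.1 hA₀.2.1)⟩) ?_
      exact le_sInf fun A hA => F.core_le_of_isMax
        ⟨hAT A hA, hA.2.1, fun E hE hg => hA.2.2 E (hE.trans (Subgroup.map_mono hTR')) hg⟩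
    set T' := (F.core (R.map π)).comap π with hT'
    have hker : π.ker ≤ T := by rw [hπ, QuotientGroup.ker_mk']; exact hQT
    have hT'T : T' ≤ T := by
      intro y hy
      obtain ⟨t, ht, hte⟩ := F.core_le (T.map π) (hcore ▸ hy : π y ∈ F.core (T.map π))
      have : t⁻¹ * y ∈ T := hker (by rw [MonoidHom.mem_ker, map_mul, map_inv, hte, inv_mul_cancel])
      simpa using mul_mem ht this
    have hnrmT' : ∀ {U : Subgroup G}, F.core (U.map π) = F.core (R.map π) → nrm U ≤ nrm T' := by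
      intro U hU g hg
      refine mem_nrm_of_forall fun y hy => ?_
      have h1 : π g ∈ Subgroup.normalizer ((U.map π : Subgroup (G ⧸ Q)) : Set (G ⧸ Q)) :=
        Subgroup.le_normalizer_map π ⟨g, hg, rfl⟩
      have h2 := F.normalizer_le_core _ h1
      rw [hU] at h2
      show π (g * y * g⁻¹) ∈ F.core (R.map π)
      rw [map_mul, map_mul, map_inv]
      exact conj_mem_of_nrm h2 hy
    have hgoodT' : Good T' := by
      refine hbig T' (hT'T.trans hTS) (lt_of_lt_of_le ?_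
        (Subgroup.card_le_of_le (inf_le_inf_left S' (hnrmT' (U := R) rfl))))
      exact (Subgroup.card_le_of_le (lt_inf_nrm S.2 hRS hRltS.ne).le).lt_of_ne fun h =>
        (lt_inf_nrm S.2 hRS hRltS.ne).ne (Subgroup.eq_of_le_of_card_ge (lt_inf_nrm S.2 hRS hRltS.ne).le h.ge)
    have hxT' : x ∈ T' := Subgroup.mem_sInf.2 fun A hA => hall A hA ⟨x, hxB, rfl⟩
    -- so `B ≤ W Q` and `C_S(W) ≤ T`
    have hCW : (S' ⊓ Subgroup.centralizer (W : Set G)) ≤ T := by
      refine hsubset _ inf_le_left (fun t ht => mem_nrm_of_forall fun c hc => ⟨?_, ?_⟩) ?_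
      · exact S'.mul_mem (S'.mul_mem (hTS ht) hc.1) (S'.inv_mem (hTS ht))
      · refine Subgroup.mem_centralizer_iff.2 fun w hw => ?_
        have h1 := Subgroup.mem_centralizer_iff.1 hc.2 _ (conj_mem_of_nrm (inv_mem (hSH (hTS ht))) hw)
        calc w * (t * c * t⁻¹) = t * ((t⁻¹ * w * t⁻¹⁻¹) * c) * t⁻¹ := by group
          _ = t * (c * (t⁻¹ * w * t⁻¹⁻¹)) * t⁻¹ := by rw [h1]
          _ = t * c * t⁻¹ * w := by group
      · rintro c ⟨hc, hcR⟩
        refine hRNb ⟨hcR, hRK hcR, hQn c, ?_⟩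
        have hle : B ≤ centMod Q ({c} : Set G) := by
          rw [hB, Subgroup.closure_le]
          rintro y (hy | ⟨k, hk, rfl⟩) <;> refine ⟨hQn _, fun c' hc' => ?_⟩ <;>
            rw [Set.mem_singleton_iff.1 hc']
          · exact hsymm (mul_mem (conj_mem_of_nrm (hQn c) hy) (inv_mem hy))
          · obtain ⟨z, hz, hze⟩ := hgoodT' k (hnrmT' hcore.symm hk)
            have hwW : k * x * k⁻¹ ∈ W := hze x hxT' ▸ conj_mem_of_nrm hz hxW
            rw [commutatorElement_eq_one_iff_mul_comm.2 (Subgroup.mem_centralizer_iff.1 hc.2 _ hwW)]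
            exact one_mem _
        exact fun b hb => hsymm ((hle hb).2 c rfl)
    -- then `J(S) ≤ T` and `K ≤ H`
    have hJ : Cfsg.thompsonSubgroupAOf S' ≤ T := by
      refine le_trans (le_inf (Subgroup.map_subtype_le _) ?_) hCW
      rw [Subgroup.le_centralizer_iff]
      exact inf_le_right
    have hWcore : W = (abelianFamily G).core T := by
      rw [hW, zj, centerThompsonAOf_eq_core]
      have hmax : ∀ A, (abelianFamily G).IsMax S' A → A ≤ T := fun A hA => by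
        refine le_trans ?_ hJ
        rw [thompsonSubgroupAOf_eq]
        exact le_sSup hA
      obtain ⟨A₀, hA₀⟩ := (abelianFamily G).exists_isMax S'
      refine le_antisymm (le_sInf fun A hA => AbFamily.core_le_of_isMax _ ⟨hA.1.trans hTS, hA.2.1,
        fun E hE hg => (hA₀.2.2 E hE hg).trans (hA.2.2 A₀ (hmax A₀ hA₀) hA₀.2.1)⟩) ?_
      exact le_sInf fun A hA => AbFamily.core_le_of_isMax _
        ⟨hmax A hA, hA.2.1, fun E hE hg => hA.2.2 E (hE.trans hTS) hg⟩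
    refine hTbad fun k hk => ⟨k, ?_, fun t _ => rfl⟩
    rw [hH, hWcore]
    exact (abelianFamily G).normalizer_le_core T hk
  set X := W ⊓ B with hX
  have hfinX : ∀ g ∈ K, g ∈ centMod Q (X : Set G) → g ∈ M := fun g hg hg' => hGxM g hg
    ⟨hQn g, fun y hy => hg'.2 y (by rw [Set.mem_singleton_iff.1 hy]; exact ⟨hxW, hxB⟩)⟩
  refine conclusion_of_local hp S hn hgen (K := K) (T := T) (R := R) (B := B) (Y₀ := Q) (X := X)
    (M := M) (MX := M) hSH hTS hBT hQB (fun b _ => hQn b) hKB (fun k _ => hQn k) hRsyl hRM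
    (hgoodq B Q hKB (fun k _ => hQn k) ⟨a, haR, haq, haT⟩) hMreal (inf_le_left.trans hKB) hKM
    (fun g hg hg' => hfinX g hg ⟨hg'.1, fun y hy => hg'.2 y hy.2⟩) inf_le_right inf_le_left le_rfl
    ?_ hKM hfinX
  rintro k ⟨hk, hkT, z, hz, hze⟩
  refine ⟨mem_nrm_of_forall fun y hy => ⟨?_, conj_mem_of_nrm (hKB hk) hy.2⟩, z, hz,
    fun t ht => hze t (hBT ht.2)⟩
  rw [← hze y (hBT hy.2)]
  exact conj_mem_of_nrm hz hy.1

/-- **The structure of a fusion failure.** -/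
theorem conclusion_of_not_ctl (hp : p ≠ 2) {n : ZMod p} (hn : n ≠ 0)
    (hgen : ∀ a : ZMod p, a ≠ 0 → ∃ i : ℕ, n ^ i = a) (S : Sylow p G) (hfail : ¬ Ctl S) :
    Conclusion S n := by
  suffices key : ∀ (c : ℕ) (G : Type u) [Group G] [Finite G], Nat.card G = c →
      ∀ S : Sylow p G, ¬ Ctl S → Conclusion S n from key _ G rfl S hfail
  intro c
  induction c using Nat.strong_induction_on with
  | _ c ih =>
  intro G _ _ hc S hfail
  subst hc
  by_contra hno
  have hsub : ∀ M : Subgroup G, (S : Subgroup G) ≤ M → M ≠ ⊤ → ∀ (A : Set G), ∀ g ∈ M,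
      A ⊆ (S : Subgroup G) → img g A ⊆ (S : Subgroup G) →
        ∃ x ∈ nrm (zj S), ∀ a ∈ A, x * a * x⁻¹ = g * a * g⁻¹ := by
    intro M hSM hM A g hg hA hgA
    obtain ⟨P, hP⟩ := (sylow_isSylowIn S hSM).exists_sylow
    have hzj : (zj P).map M.subtype = zj S := by rw [map_zj, hP]
    have hPmem : ∀ {y : ↥M}, (y : G) ∈ (S : Subgroup G) → y ∈ (P : Subgroup ↥M) := by
      intro y hy
      rw [← hP] at hy
      obtain ⟨z, hz, he⟩ := hy
      rwa [← Subtype.ext he]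
    have hmap : ∀ y : ↥M, y ∈ nrm (zj P) → (y : G) ∈ nrm (zj S) := fun y hy =>
      hzj ▸ Subgroup.le_normalizer_map M.subtype ⟨y, hy, rfl⟩
    by_contra hbad
    have hlt : Nat.card ↥M < Nat.card G :=
      (Subgroup.card_le_card_group M).lt_of_ne fun h => hM (Subgroup.eq_top_of_card_eq M h)
    obtain ⟨hinv, y, hy, w, hw, hwp, hyw⟩ := ih _ hlt ↥M rfl P fun hctl => hbad (by
      obtain ⟨x, hx, he⟩ := hctl {y : ↥M | (y : G) ∈ A} ⟨g, hg⟩ (fun y hy => hPmem (hA hy))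
        (by rintro _ ⟨y, hy, rfl⟩; exact hPmem (hgA ⟨_, hy, rfl⟩))
      exact ⟨x, hmap x hx, fun a ha => congrArg Subtype.val (he ⟨a, hSM (hA ha)⟩ ha)⟩)
    refine hno ⟨?_, y, hmap y hy, w, hzj ▸ ⟨w, hw, rfl⟩, by rw [Subgroup.orderOf_coe]; exact hwp,
      congrArg Subtype.val hyw⟩
    let j : ↥(nrm (zj P)) →* ↥(nrm (zj S)) :=
      (M.subtype.comp (nrm (zj P)).subtype).codRestrict _ fun y => hmap y y.2
    have hj : Function.Injective j := fun a b h => Subtype.ext (Subtype.ext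
      (congrArg (fun z : ↥(nrm (zj S)) => (z : G)) h))
    exact LocalEven61.involves_trans hinv
      (LocalEven61.involves_of_hom (MonoidHom.id _) Function.surjective_id j hj)
  by_cases hWQ : zj S ≤ pCore p G
  · refine hno (conclusion_of_le_pCore hp S hn hgen (fun htop => hfail fun A g _ _ => ?_) hsub hWQ)
    exact ⟨g, htop ▸ Subgroup.mem_top g, fun a _ => rfl⟩
  · exact hno (conclusion_of_not_le_pCore hp S hn hgen hsub hWQ hfail)

end Cfsg.Agent.PLocalB.ZJFail
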