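import Cfsg.Agent.PLocalB.PConstrained
import Cfsg.Agent.PLocalB.StableDefs
import Cfsg.Agent.PLocalB.CenterThompson

/-!
`p`-stability modulo `O_{p'}`, and the `ZJ` factorisation of `p`-constrained `p`-stable groups.
-/

set_option autoImplicit false
set_option linter.style.haveILetI false

open scoped commutatorElement

namespace Cfsg.Agent.PLocalB

variable {G : Type*} [Group G] [Finite G] {p : ℕ} [Fact p.Prime]

/-- A `p`-subgroup of an image is the image of a `p`-subgroup. -/
theorem exists_pgroup_map_eq {Q : Type*} [Group Q] (f : G →* Q) (A' : Subgroup Q)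
    (hA : A' ≤ f.range) (hp : IsPGroup p A') : ∃ A : Subgroup G, IsPGroup p A ∧ A.map f = A' := by
  obtain ⟨S⟩ : Nonempty (Sylow p (A'.comap f)) := inferInstance
  have hs : Function.Surjective (f.subgroupComap A') := by
    rintro ⟨y, hy⟩
    obtain ⟨x, rfl⟩ := hA hy
    exact ⟨⟨x, hy⟩, rfl⟩
  have htop : ((S.mapSurjective hs : Sylow p A') : Subgroup A') = ⊤ :=
    ((S.mapSurjective hs).is_maximal' (Q := ⊤) (hp.to_subgroup ⊤) le_top).symm
  refine ⟨(S : Subgroup (A'.comap f)).map (A'.comap f).subtype, S.2.map _, ?_⟩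
  rw [Subgroup.map_map]
  have hcomp : f.comp (A'.comap f).subtype = A'.subtype.comp (f.subgroupComap A') := rfl
  rw [hcomp, ← Subgroup.map_map]
  change ((S.mapSurjective hs : Sylow p A') : Subgroup A').map A'.subtype = A'
  rw [htop, ← MonoidHom.range_eq_map, Subgroup.range_subtype]

/-- Transport of `O_p (N(P) / C(P))` to the quotient modulo a normal `p'`-subgroup. -/
theorem pCore_transfer (K P : Subgroup G) [K.Normal] (hK : (Nat.card K).Coprime p)
    (hP : IsPGroup p P) (a : Subgroup.normalizer (P : Set G))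
    (ha : QuotientGroup.mk' K (a : G) ∈
      Subgroup.normalizer ((P.map (QuotientGroup.mk' K) : Subgroup (G ⧸ K)) : Set (G ⧸ K))) :
    (QuotientGroup.mk a : Subgroup.normalizer (P : Set G) ⧸
        (Subgroup.centralizer (P : Set G)).subgroupOf _) ∈ pCore p _ ↔
    (QuotientGroup.mk (⟨_, ha⟩ : Subgroup.normalizer ((P.map (QuotientGroup.mk' K) : Subgroup (G ⧸ K)) : Set (G ⧸ K))) :
      Subgroup.normalizer ((P.map (QuotientGroup.mk' K) : Subgroup (G ⧸ K)) : Set (G ⧸ K)) ⧸
        (Subgroup.centralizer ((P.map (QuotientGroup.mk' K) : Subgroup (G ⧸ K)) : Set (G ⧸ K))).subgroupOf _)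
      ∈ pCore p _ := by
  set P' := P.map (QuotientGroup.mk' K) with hP'
  set N' := Subgroup.normalizer (P' : Set (G ⧸ K)) with hN'
  set C' := Subgroup.centralizer (P' : Set (G ⧸ K)) with hC'
  have hmN : ∀ x : Subgroup.normalizer (P : Set G), QuotientGroup.mk' K (x : G) ∈ N' := by
    intro x
    rw [hN', ← map_normalizer_eq K P hK hP]
    exact ⟨x, x.2, rfl⟩
  let φ : Subgroup.normalizer (P : Set G) →* N' :=
    ((QuotientGroup.mk' K).comp (Subgroup.normalizer (P : Set G)).subtype).codRestrict N' hmN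
  have hφ : Function.Surjective φ := by
    rintro ⟨y, hy⟩
    rw [hN', ← map_normalizer_eq K P hK hP] at hy
    obtain ⟨x, hx, rfl⟩ := hy
    exact ⟨⟨x, hx⟩, rfl⟩
  let θ := (QuotientGroup.mk' (C'.subgroupOf N')).comp φ
  have hθ : Function.Surjective θ := (QuotientGroup.mk'_surjective _).comp hφ
  have hker : (Subgroup.centralizer (P : Set G)).subgroupOf (Subgroup.normalizer (P : Set G)) = θ.ker := by
    ext ⟨x, hx⟩
    rw [Subgroup.mem_subgroupOf, MonoidHom.mem_ker]
    change x ∈ _ ↔ (QuotientGroup.mk (φ ⟨x, hx⟩) : N' ⧸ C'.subgroupOf N') = 1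
    rw [QuotientGroup.eq_one_iff, Subgroup.mem_subgroupOf]
    change _ ↔ QuotientGroup.mk' K x ∈ C'
    constructor
    · intro h
      rw [hC', ← map_centralizer_eq K P hK hP]
      exact ⟨x, h, rfl⟩
    · intro h
      refine Subgroup.mem_centralizer_iff.mpr fun y hy => ?_
      have h1 : ⁅x, y⁆ ∈ P :=
        mul_mem ((Subgroup.mem_normalizer_iff.mp hx y).mp hy) (inv_mem hy)
      have h2 : ⁅x, y⁆ ∈ K := by
        rw [← QuotientGroup.eq_one_iff]
        change QuotientGroup.mk' K ⁅x, y⁆ = 1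
        rw [map_commutatorElement, commutatorElement_eq_one_iff_commute]
        exact (Subgroup.mem_centralizer_iff.mp h _ ⟨y, hy, rfl⟩).symm
      have h3 : ⁅x, y⁆ ∈ P ⊓ K := ⟨h1, h2⟩
      rw [Cfsg.Agent.Thompson.inf_eq_bot_of_isPGroup_of_coprime hP hK, Subgroup.mem_bot] at h3
      exact (commutatorElement_eq_one_iff_commute.mp h3).eq.symm
  let e := (QuotientGroup.quotientMulEquivOfEq hker).trans
    (QuotientGroup.quotientKerEquivOfSurjective θ hθ)
  have he : e (QuotientGroup.mk a) = QuotientGroup.mk (⟨_, ha⟩ : N') := rfl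
  rw [← he, ← Cfsg.Agent.Thompson.map_pCore_equiv e]
  exact (Subgroup.mem_map_iff_mem (f := e.toMonoidHom) e.injective).symm

theorem pCore_le_pPrimePCore : pCore p G ≤ pPrimePCore p G := by
  intro x hx
  exact Cfsg.Agent.Thompson.map_pCore_le_of_surjective _ (QuotientGroup.mk'_surjective _) ⟨x, hx, rfl⟩

theorem pPrimePCore_eq_pCore (h : pPrimeCore p G = ⊥) : pPrimePCore p G = pCore p G := by
  refine le_antisymm (Cfsg.Agent.Thompson.le_pCore ?_ ?_) pCore_le_pPrimePCore
  · unfold pPrimePCore; infer_instance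
  · refine IsPGroup.comap_of_ker_isPGroup Cfsg.Agent.Thompson.isPGroup_pCore _ ?_
    rw [QuotientGroup.ker_mk', h]
    exact IsPGroup.of_bot

/-- `p`-stability passes to and from the quotient by `O_{p'}`. -/
theorem isPStable_quotient_iff (hO : pCore p G ≠ ⊥) :
    IsPStable p G ↔ IsPStable p (G ⧸ pPrimeCore p G) := by
  set K := pPrimeCore p G with hK
  have hKc : (Nat.card K).Coprime p := Cfsg.Agent.Thompson.card_pPrimeCore_coprime
  have hbot : pPrimeCore p (G ⧸ K) = ⊥ := Cfsg.Agent.Thompson.pPrimeCore_quotient_pPrimeCore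
  have hO' : pCore p (G ⧸ K) ≠ ⊥ := by
    intro h
    apply hO
    have hle : pCore p G ≤ K := by
      intro x hx
      have := Cfsg.Agent.Thompson.map_pCore_le_of_surjective (p := p) _
        (QuotientGroup.mk'_surjective K) ⟨x, hx, rfl⟩
      rw [h, Subgroup.mem_bot] at this
      exact (QuotientGroup.eq_one_iff x).mp this
    rw [← inf_eq_left.mpr hle]
    exact Cfsg.Agent.Thompson.pCore_inf_pPrimeCore
  constructor
  · rintro ⟨hodd, -, h⟩
    refine ⟨hodd, hO', fun A' P' hA' hP' hAP hP'le hn hq => ?_⟩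
    rw [hbot, bot_sup_eq] at hn
    obtain ⟨P, hP, rfl⟩ := exists_pgroup_map_eq (QuotientGroup.mk' K) P'
      (fun y _ => QuotientGroup.mk'_surjective K y) hP'
    have hle : A' ≤ ((QuotientGroup.mk' K).comp (Subgroup.normalizer (P : Set G)).subtype).range := by
      intro y hy
      have : y ∈ (Subgroup.normalizer (P : Set G)).map (QuotientGroup.mk' K) := by
        rw [map_normalizer_eq K P hKc hP]
        exact Cfsg.Agent.Coprime.le_normalizer_of_conj_mem hAP hy
      obtain ⟨x, hx, rfl⟩ := this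
      exact ⟨⟨x, hx⟩, rfl⟩
    obtain ⟨A, hA, hmap⟩ := exists_pgroup_map_eq _ A' hle hA'
    rw [← Subgroup.map_map] at hmap
    set A₀ := A.map (Subgroup.normalizer (P : Set G)).subtype with hA₀
    have hA₀N : A₀ ≤ Subgroup.normalizer (P : Set G) := Subgroup.map_subtype_le A
    have hPle : P ≤ pPrimePCore p G := by
      intro x hx
      have := hP'le ⟨x, hx, rfl⟩
      rw [pPrimePCore_eq_pCore hbot] at this
      exact this
    have hnG : (K ⊔ P).Normal := by
      have : K ⊔ P = (P.map (QuotientGroup.mk' K)).comap (QuotientGroup.mk' K) := by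
        rw [Subgroup.comap_map_eq, QuotientGroup.ker_mk', sup_comm]
      rw [this]
      exact hn.comap _
    have hq' : ⁅⁅P, A₀⁆, A₀⁆ = ⊥ := by
      rw [← le_bot_iff, ← Cfsg.Agent.Thompson.inf_eq_bot_of_isPGroup_of_coprime hP hKc]
      refine le_inf ?_ ?_
      · have h1 : ⁅P, A₀⁆ ≤ P := Cfsg.Agent.Coprime.commutator_le_of_le_normalizer hA₀N
        exact (Subgroup.commutator_mono h1 le_rfl).trans h1
      · rw [← QuotientGroup.ker_mk' K, ← Subgroup.map_eq_bot_iff, Subgroup.map_commutator,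
          Subgroup.map_commutator, hmap]
        exact hq
    have hres := h A₀ P (hA.map _) hP
      (fun a ha x hx => (Subgroup.mem_normalizer_iff.mp (hA₀N ha) x).mp hx) hPle hnG hq'
    rintro _ ⟨⟨y, hyN⟩, hy, rfl⟩
    have hy' : y ∈ A₀.map (QuotientGroup.mk' K) := hmap ▸ hy
    obtain ⟨a, ha, rfl⟩ := hy'
    exact (pCore_transfer K P hKc hP ⟨a, hA₀N ha⟩ hyN).mp (hres ⟨⟨a, hA₀N ha⟩, ha, rfl⟩)
  · rintro ⟨hodd, -, h⟩
    refine ⟨hodd, hO, fun A P hA hP hAP hPle hn hq => ?_⟩
    have hres := h (A.map (QuotientGroup.mk' K)) (P.map (QuotientGroup.mk' K)) (hA.map _) (hP.map _)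
      (by
        rintro _ ⟨a, ha, rfl⟩ _ ⟨x, hx, rfl⟩
        exact ⟨a * x * a⁻¹, hAP a ha x hx, by simp only [map_mul, map_inv]⟩)
      (by
        rw [pPrimePCore_eq_pCore hbot]
        rintro _ ⟨x, hx, rfl⟩
        exact hPle hx)
      (by
        rw [hbot, bot_sup_eq]
        have := hn.map (QuotientGroup.mk' K) (QuotientGroup.mk'_surjective K)
        rwa [Subgroup.map_sup, QuotientGroup.map_mk'_self, bot_sup_eq] at this)
      (by rw [← Subgroup.map_commutator, ← Subgroup.map_commutator, hq, Subgroup.map_bot])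
    rintro _ ⟨⟨a, haN⟩, ha, rfl⟩
    have haN' : QuotientGroup.mk' K a ∈
        Subgroup.normalizer ((P.map (QuotientGroup.mk' K) : Subgroup (G ⧸ K)) : Set (G ⧸ K)) := by
      rw [← map_normalizer_eq K P hKc hP]
      exact ⟨a, haN, rfl⟩
    exact (pCore_transfer K P hKc hP ⟨a, haN⟩ haN').mpr (hres ⟨⟨_, haN'⟩, ⟨a, ha, rfl⟩, rfl⟩)

/-- An element is the product of a `p`-element and a `p'`-element, both powers of it. -/
theorem exists_p_pprime_mul (g : G) : ∃ u v : G, u ∈ Subgroup.zpowers g ∧ v ∈ Subgroup.zpowers g ∧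
    u * v = g ∧ IsPGroup p (Subgroup.zpowers u) ∧ (Nat.card (Subgroup.zpowers v)).Coprime p := by
  obtain ⟨i, m, hm, hgm⟩ : ∃ i m : ℕ, ¬ p ∣ m ∧ orderOf g = p ^ i * m :=
    Nat.exists_eq_pow_mul_and_not_dvd (orderOf_pos g).ne' p (Fact.out : p.Prime).ne_one
  have hmp : m.Coprime p := ((Fact.out : p.Prime).coprime_iff_not_dvd.mpr hm).symm
  obtain ⟨a, b, hab⟩ : IsCoprime (m : ℤ) ((p ^ i : ℕ) : ℤ) :=
    Nat.isCoprime_iff_coprime.mpr (hmp.pow_right i)
  have hu : (g ^ (a * m)) ^ (p ^ i) = 1 := by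
    rw [← zpow_natCast, ← zpow_mul, show a * (m : ℤ) * ((p ^ i : ℕ) : ℤ) = (orderOf g : ℕ) * a by
      rw [hgm]; push_cast; ring, zpow_mul, zpow_natCast, pow_orderOf_eq_one, one_zpow]
  have hv : (g ^ (b * (p ^ i : ℕ))) ^ m = 1 := by
    rw [← zpow_natCast, ← zpow_mul, show b * ((p ^ i : ℕ) : ℤ) * (m : ℤ) = (orderOf g : ℕ) * b by
      rw [hgm]; push_cast; ring, zpow_mul, zpow_natCast, pow_orderOf_eq_one, one_zpow]
  refine ⟨g ^ (a * m), g ^ (b * (p ^ i : ℕ)), Subgroup.zpow_mem_zpowers g _,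
    Subgroup.zpow_mem_zpowers g _, ?_, ?_, ?_⟩
  · rw [← zpow_add, hab, zpow_one]
  · obtain ⟨k, -, hk⟩ := (Nat.dvd_prime_pow Fact.out).mp (orderOf_dvd_of_pow_eq_one hu)
    exact IsPGroup.of_card (n := k) (by rw [Nat.card_zpowers, hk])
  · rw [Nat.card_zpowers]
    exact Nat.Coprime.of_dvd_left (orderOf_dvd_of_pow_eq_one hv) hmp

/-- A `p`-stable group acts `p`-stably on its normal `p`-subgroups. -/
theorem isPStableOn_of_isPStable (hs : IsPStable p G) (P : Subgroup G) [P.Normal]
    (hP : IsPGroup p P) : IsPStableOn p P := by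
  intro a hq
  obtain ⟨u, v, hu, hv, rfl, hup, hvp⟩ := exists_p_pprime_mul (p := p) a
  have hNtop : Subgroup.normalizer (P : Set G) = ⊤ := Subgroup.normalizer_eq_top P
  have hqu : ⁅⁅P, Subgroup.zpowers u⁆, Subgroup.zpowers u⁆ = ⊥ := by
    rw [eq_bot_iff, ← hq]
    exact Subgroup.commutator_mono (Subgroup.commutator_mono le_rfl (Subgroup.zpowers_le.mpr hu))
      (Subgroup.zpowers_le.mpr hu)
  have hvC : v ∈ Subgroup.centralizer (P : Set G) := by
    have hqv : ⁅⁅P, Subgroup.zpowers v⁆, Subgroup.zpowers v⁆ = ⊥ := by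
      rw [eq_bot_iff, ← hq]
      exact Subgroup.commutator_mono (Subgroup.commutator_mono le_rfl (Subgroup.zpowers_le.mpr hv))
        (Subgroup.zpowers_le.mpr hv)
    have hcop : (Nat.card (Subgroup.zpowers v)).Coprime (Nat.card P) := by
      obtain ⟨j, hj⟩ := IsPGroup.iff_card.mp hP
      rw [hj]; exact hvp.pow_right j
    haveI := hP.isNilpotent
    rw [Cfsg.Agent.Coprime.commutator_commutator_eq _ P (by rw [hNtop]; exact le_top) hcop
      (Or.inr inferInstance), Subgroup.commutator_eq_bot_iff_le_centralizer,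
      Subgroup.le_centralizer_iff] at hqv
    exact hqv (Subgroup.mem_zpowers v)
  have hres := hs.2.2 (Subgroup.zpowers u) P hup hP
    (fun a _ x hx => (inferInstance : P.Normal).conj_mem x hx a)
    ((Cfsg.Agent.Thompson.le_pCore inferInstance hP).trans pCore_le_pPrimePCore) inferInstance hqu
  have huN : u ∈ Subgroup.normalizer (P : Set G) := hNtop ▸ Subgroup.mem_top u
  let f := QuotientGroup.map ((Subgroup.centralizer (P : Set G)).subgroupOf
      (Subgroup.normalizer (P : Set G))) (Subgroup.centralizer (P : Set G))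
      (Subgroup.normalizer (P : Set G)).subtype (fun _ hx => hx)
  have hf : Function.Surjective f := by
    intro y
    obtain ⟨y, rfl⟩ := QuotientGroup.mk'_surjective _ y
    exact ⟨QuotientGroup.mk ⟨y, hNtop ▸ Subgroup.mem_top y⟩, rfl⟩
  have h1 : f (QuotientGroup.mk ⟨u, huN⟩) ∈ pCore p (G ⧸ Subgroup.centralizer (P : Set G)) :=
    Cfsg.Agent.Thompson.map_pCore_le_of_surjective f hf
      ⟨_, hres ⟨⟨u, huN⟩, Subgroup.mem_zpowers u, rfl⟩, rfl⟩
  rwa [QuotientGroup.mk_mul, (QuotientGroup.eq_one_iff v).mpr hvC, mul_one]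

omit [Fact p.Prime] in
/-- The abelian Thompson subgroup commutes with maps injective on the subgroup. -/
theorem thompsonSubgroupAOf_map {Q : Type*} [Group Q] [Finite Q] (f : G →* Q) (P : Subgroup G)
    (hf : Set.InjOn f P) : (thompsonSubgroupAOf P).map f = thompsonSubgroupAOf (P.map f) := by
  have hcard : ∀ B : Subgroup G, B ≤ P → Nat.card (B.map f) = Nat.card B := fun B hB =>
    (Nat.card_congr (Equiv.Set.imageOfInjOn f B (hf.mono hB))).symm
  have hcomm : ∀ B : Subgroup G, B ≤ P → IsMulCommutative (B.map f) → IsMulCommutative B := by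
    intro B hB h
    refine ⟨⟨fun x y => Subtype.ext (hf (mul_mem (hB x.2) (hB y.2)) (mul_mem (hB y.2) (hB x.2)) ?_)⟩⟩
    simp only [Subgroup.coe_mul, map_mul]
    exact congrArg Subtype.val
      (h.is_comm.comm (⟨f x, ⟨x, x.2, rfl⟩⟩ : B.map f) (⟨f y, ⟨y, y.2, rfl⟩⟩ : B.map f))
  have hpre : ∀ A' : Subgroup Q, A' ≤ P.map f → (A'.comap f ⊓ P).map f = A' := by
    intro A' hA'
    refine le_antisymm (by rintro _ ⟨x, hx, rfl⟩; exact hx.1) fun y hy => ?_
    obtain ⟨x, hx, rfl⟩ := hA' hy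
    exact ⟨x, ⟨hy, hx⟩, rfl⟩
  rw [thompsonSubgroupAOf_eq, thompsonSubgroupAOf_eq, sSup_eq_iSup, Subgroup.map_iSup,
    sSup_eq_iSup]
  apply le_antisymm
  · refine iSup_le fun A => ?_
    rw [Subgroup.map_iSup]
    refine iSup_le fun hA => le_iSup₂_of_le (A.map f) ?_ le_rfl
    haveI : IsMulCommutative A := hA.2.1
    refine ⟨Subgroup.map_mono hA.1, show IsMulCommutative _ from inferInstance, fun B hB hBc => ?_⟩
    rw [hcard A hA.1, ← hpre B hB, hcard _ inf_le_right]
    exact hA.2.2 _ inf_le_right (hcomm _ inf_le_right (by rw [hpre B hB]; exact hBc))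
  · refine iSup₂_le fun A' hA' => ?_
    refine le_iSup_of_le (A'.comap f ⊓ P) ?_
    rw [Subgroup.map_iSup]
    refine le_iSup_of_le ?_ (hpre A' hA'.1).ge
    refine ⟨inf_le_right, hcomm _ inf_le_right (by rw [hpre A' hA'.1]; exact hA'.2.1),
      fun B hB hBc => ?_⟩
    haveI : IsMulCommutative B := hBc
    rw [← hcard _ inf_le_right, hpre A' hA'.1, ← hcard B hB]
    exact hA'.2.2 _ (Subgroup.map_mono hB) (show IsMulCommutative _ from inferInstance)

omit [Fact p.Prime] in
theorem centerThompsonAOf_map {Q : Type*} [Group Q] [Finite Q] (f : G →* Q) (P : Subgroup G)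
    (hf : Set.InjOn f P) : (centerThompsonAOf P).map f = centerThompsonAOf (P.map f) := by
  have hle : thompsonSubgroupAOf P ≤ P := Subgroup.map_subtype_le _
  rw [centerThompsonAOf, centerThompsonAOf, ← thompsonSubgroupAOf_map f P hf]
  refine le_antisymm ?_ ?_
  · rintro _ ⟨z, hz, rfl⟩
    refine ⟨Subgroup.mem_map_of_mem f hz.1, Subgroup.mem_centralizer_iff.mpr ?_⟩
    rintro _ ⟨x, hx, rfl⟩
    rw [← map_mul, ← map_mul, Subgroup.mem_centralizer_iff.mp hz.2 x hx]
  · rintro _ ⟨⟨z, hz, rfl⟩, hc⟩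
    refine ⟨z, ⟨hz, Subgroup.mem_centralizer_iff.mpr fun x hx => ?_⟩, rfl⟩
    refine hf (mul_mem (hle hx) (hle hz)) (mul_mem (hle hz) (hle hx)) ?_
    rw [map_mul, map_mul]
    exact Subgroup.mem_centralizer_iff.mp hc _ (Subgroup.mem_map_of_mem f hx)

/-- `ZJ` for a reduced `p`-constrained `p`-stable group. -/
theorem centerThompsonAOf_normal (hp : p ≠ 2) (hc : IsPConstrained p G) (hs : IsPStable p G)
    (hbot : pPrimeCore p G = ⊥) (S : Sylow p G) : (centerThompsonAOf (S : Subgroup G)).Normal := by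
  rw [centerThompsonAOf_eq_core]
  exact (abelianFamily G).core_normal hp ((isPConstrained_iff_of_pPrimeCore_eq_bot hbot).mp hc)
    (fun P _ hP => isPStableOn_of_isPStable hs P hP) S

/-- Glauberman's `ZJ` factorisation. -/
theorem pPrimeCore_sup_normalizer_eq_top (hp : p ≠ 2) (hc : IsPConstrained p G)
    (hs : IsPStable p G) (P : Sylow p G) :
    pPrimeCore p G ⊔ Subgroup.normalizer (centerThompsonAOf (P : Subgroup G) : Set G) = ⊤ := by
  set K := pPrimeCore p G with hK
  have hKc : (Nat.card K).Coprime p := Cfsg.Agent.Thompson.card_pPrimeCore_coprime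
  have hinj : Set.InjOn (QuotientGroup.mk' K) ((P : Subgroup G) : Set G) := by
    intro x hx y hy hxy
    have h : x⁻¹ * y ∈ (P : Subgroup G) ⊓ K := ⟨(P : Subgroup G).mul_mem ((P : Subgroup G).inv_mem hx) hy, QuotientGroup.eq.mp hxy⟩
    rw [Cfsg.Agent.Thompson.inf_eq_bot_of_isPGroup_of_coprime P.2 hKc, Subgroup.mem_bot,
      inv_mul_eq_one] at h
    exact h
  have hn := centerThompsonAOf_normal hp (isPConstrained_quotient_iff.mp hc)
    ((isPStable_quotient_iff hs.2.1).mp hs) Cfsg.Agent.Thompson.pPrimeCore_quotient_pPrimeCore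
    (P.mapSurjective (QuotientGroup.mk'_surjective K))
  have hZ : centerThompsonAOf (P : Subgroup G) ≤ (P : Subgroup G) :=
    inf_le_left.trans (Subgroup.map_subtype_le _)
  have hm := map_normalizer_eq K (centerThompsonAOf (P : Subgroup G)) hKc (P.2.to_le hZ)
  rw [centerThompsonAOf_map _ _ hinj] at hm
  have hn' : (centerThompsonAOf ((P : Subgroup G).map (QuotientGroup.mk' K))).Normal := hn
  rw [Subgroup.normalizer_eq_top_iff.mpr hn'] at hm
  have := congrArg (Subgroup.comap (QuotientGroup.mk' K)) hm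
  rwa [Subgroup.comap_map_eq, QuotientGroup.ker_mk', Subgroup.comap_top, sup_comm] at this

end Cfsg.Agent.PLocalB
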