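import Mathlib
import Cfsg.Prelude.Def_Local
import Cfsg.Agent.Lib.Thompson.PSolvable
import Cfsg.Agent.Lib.Coprime.Action

/-!
`p`-constraint, quotients by `O_{p'}` and centralizers of `p`-subgroups.
-/

set_option autoImplicit false
set_option linter.style.haveILetI false

open scoped commutatorElement

namespace Cfsg.Agent.PLocalB

variable {G : Type*} [Group G] [Finite G] {p : ℕ} [Fact p.Prime]

/-- Frattini argument modulo a normal `p'`-subgroup: normalizers. -/
theorem exists_mul_mem_normalizer (K P : Subgroup G) [K.Normal] (hK : (Nat.card K).Coprime p)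
    (hP : IsPGroup p P) {g : G} (hg : ∀ x ∈ P, g * x * g⁻¹ ∈ K ⊔ P) :
    ∃ k ∈ K, k * g ∈ Subgroup.normalizer (P : Set G) := by
  have hcard : Nat.card (P.map (MulAut.conj g).toMonoidHom) = Nat.card P :=
    Subgroup.card_map_of_injective (MulAut.conj g).injective
  have hcop : (Nat.card (P.map (MulAut.conj g).toMonoidHom)).Coprime (Nat.card K) := by
    obtain ⟨j, hj⟩ := IsPGroup.iff_card.mp hP
    rw [hcard, hj]
    exact (hK.symm).pow_left j
  haveI : Group.IsSolvable (P.map (MulAut.conj g).toMonoidHom) := by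
    haveI := (hP.map (MulAut.conj g).toMonoidHom).isNilpotent
    infer_instance
  obtain ⟨k, hk, hkg⟩ := Cfsg.Agent.Coprime.exists_conj_le_of_le_sup (P.map (MulAut.conj g).toMonoidHom)
    K P (by rw [Subgroup.normalizer_eq_top K]; exact le_top)
    (by rw [Subgroup.normalizer_eq_top K]; exact le_top) hcop (Or.inl inferInstance)
    (by rintro _ ⟨x, hx, rfl⟩; exact hg x hx)
  refine ⟨k, hk, ?_⟩
  have e : P.map (MulAut.conj (k * g)).toMonoidHom = P := by
    refine Subgroup.eq_of_le_of_card_ge ?_
      (le_of_eq (Subgroup.card_map_of_injective (MulAut.conj (k * g)).injective).symm)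
    rintro _ ⟨x, hx, rfl⟩
    simpa [mul_assoc] using hkg _ ⟨x, hx, rfl⟩
  rw [Subgroup.mem_normalizer_iff]
  intro x
  refine ⟨fun hx => ?_, fun hx => ?_⟩
  · conv => rw [← e]
    exact ⟨x, hx, rfl⟩
  · obtain ⟨y, hy, hyx⟩ := (e.symm ▸ hx : k * g * x * (k * g)⁻¹ ∈ P.map (MulAut.conj (k * g)).toMonoidHom)
    simp only [MulEquiv.coe_toMonoidHom, MulAut.conj_apply] at hyx
    exact mul_left_cancel (mul_right_cancel hyx) ▸ hy

/-- Frattini argument modulo a normal `p'`-subgroup: centralizers. -/
theorem exists_mul_mem_centralizer (K P : Subgroup G) [K.Normal] (hK : (Nat.card K).Coprime p)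
    (hP : IsPGroup p P) {g : G} (hg : ∀ x ∈ P, ⁅g, x⁆ ∈ K) :
    ∃ k ∈ K, k * g ∈ Subgroup.centralizer (P : Set G) := by
  obtain ⟨k, hk, hkN⟩ := exists_mul_mem_normalizer K P hK hP (g := g) (fun x hx => by
    rw [show g * x * g⁻¹ = ⁅g, x⁆ * x by simp [commutatorElement_def]]
    exact Subgroup.mul_mem_sup (hg x hx) hx)
  refine ⟨k, hk, Subgroup.mem_centralizer_iff.mpr fun x hx => ?_⟩
  have h1 : ⁅k * g, x⁆ ∈ P :=
    mul_mem ((Subgroup.mem_normalizer_iff.mp hkN x).mp hx) (inv_mem hx)
  have h2 : ⁅k * g, x⁆ ∈ K := by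
    rw [show ⁅k * g, x⁆ = k * ⁅g, x⁆ * (x * k⁻¹ * x⁻¹) by simp [commutatorElement_def, mul_assoc]]
    exact K.mul_mem (K.mul_mem hk (hg x hx))
      ((inferInstance : K.Normal).conj_mem _ (K.inv_mem hk) x)
  have h3 : ⁅k * g, x⁆ ∈ P ⊓ K := ⟨h1, h2⟩
  rw [Cfsg.Agent.Thompson.inf_eq_bot_of_isPGroup_of_coprime hP hK, Subgroup.mem_bot] at h3
  exact (commutatorElement_eq_one_iff_commute.mp h3).eq.symm

/-- Pulling back a centralizer modulo `O_{p'}`. -/
theorem map_centralizer_eq (K P : Subgroup G) [K.Normal] (hK : (Nat.card K).Coprime p)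
    (hP : IsPGroup p P) :
    (Subgroup.centralizer (P : Set G)).map (QuotientGroup.mk' K) =
      Subgroup.centralizer ((P.map (QuotientGroup.mk' K) : Subgroup (G ⧸ K)) : Set (G ⧸ K)) := by
  apply le_antisymm
  · rintro _ ⟨g, hg, rfl⟩
    refine Subgroup.mem_centralizer_iff.mpr ?_
    rintro _ ⟨x, hx, rfl⟩
    rw [← map_mul, ← map_mul, Subgroup.mem_centralizer_iff.mp hg x hx]
  · intro y hy
    obtain ⟨g, rfl⟩ := QuotientGroup.mk'_surjective K y
    obtain ⟨k, hk, hkg⟩ := exists_mul_mem_centralizer K P hK hP (g := g) (fun x hx => by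
      rw [← QuotientGroup.eq_one_iff]
      change QuotientGroup.mk' K ⁅g, x⁆ = 1
      rw [map_commutatorElement, commutatorElement_eq_one_iff_commute]
      exact (Subgroup.mem_centralizer_iff.mp hy _ ⟨x, hx, rfl⟩).symm)
    refine ⟨k * g, hkg, ?_⟩
    rw [map_mul, (QuotientGroup.eq_one_iff k).mpr hk |> fun h => (h : QuotientGroup.mk' K k = 1),
      one_mul]

/-- Pulling back a normalizer modulo `O_{p'}`. -/
theorem map_normalizer_eq (K P : Subgroup G) [K.Normal] (hK : (Nat.card K).Coprime p)
    (hP : IsPGroup p P) :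
    (Subgroup.normalizer (P : Set G)).map (QuotientGroup.mk' K) =
      Subgroup.normalizer ((P.map (QuotientGroup.mk' K) : Subgroup (G ⧸ K)) : Set (G ⧸ K)) := by
  apply le_antisymm
  · exact Subgroup.le_normalizer_map _
  · intro y hy
    obtain ⟨g, rfl⟩ := QuotientGroup.mk'_surjective K y
    obtain ⟨k, hk, hkg⟩ := exists_mul_mem_normalizer K P hK hP (g := g) (fun x hx => by
      have h := (Subgroup.mem_normalizer_iff.mp hy (QuotientGroup.mk' K x)).mp ⟨x, hx, rfl⟩
      rw [← map_inv, ← map_mul, ← map_mul] at h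
      have h2 : g * x * g⁻¹ ∈ (P.map (QuotientGroup.mk' K)).comap (QuotientGroup.mk' K) := h
      rwa [Subgroup.comap_map_eq, QuotientGroup.ker_mk', sup_comm] at h2)
    refine ⟨k * g, hkg, ?_⟩
    rw [map_mul, (QuotientGroup.eq_one_iff k).mpr hk |> fun h => (h : QuotientGroup.mk' K k = 1),
      one_mul]

/-- `p`-constraint in terms of the quotient by `O_{p'}`. -/
theorem isPConstrained_iff :
    IsPConstrained p G ↔
      Subgroup.centralizer (pCore p (G ⧸ pPrimeCore p G) : Set (G ⧸ pPrimeCore p G)) ≤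
        pCore p (G ⧸ pPrimeCore p G) := by
  have key : ∀ P : Sylow p ↥(pPrimePCore p G),
      (Subgroup.centralizer (((P : Subgroup ↥(pPrimePCore p G)).map (pPrimePCore p G).subtype :
        Subgroup G) : Set G)).map (QuotientGroup.mk' (pPrimeCore p G)) =
      Subgroup.centralizer (pCore p (G ⧸ pPrimeCore p G) : Set (G ⧸ pPrimeCore p G)) := by
    intro P
    rw [map_centralizer_eq _ _ Cfsg.Agent.Thompson.card_pPrimeCore_coprime (P.2.map _)]
    congr 2
    have h1 := congrArg (Subgroup.map (QuotientGroup.mk' (pPrimeCore p G)))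
      (Cfsg.Agent.Thompson.sylow_pPrimePCore_sup P)
    rwa [Subgroup.map_sup, QuotientGroup.map_mk'_self, bot_sup_eq,
      Cfsg.Agent.Thompson.map_mk'_pPrimePCore] at h1
  constructor
  · intro h
    obtain ⟨P⟩ : Nonempty (Sylow p ↥(pPrimePCore p G)) := inferInstance
    rw [← key P]
    exact (Subgroup.map_mono (h P)).trans Cfsg.Agent.Thompson.map_mk'_pPrimePCore.le
  · intro h P x hx
    have : QuotientGroup.mk' (pPrimeCore p G) x ∈ pCore p (G ⧸ pPrimeCore p G) :=
      h (key P ▸ ⟨x, hx, rfl⟩)
    exact this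

theorem isPConstrained_iff_of_pPrimeCore_eq_bot (h : pPrimeCore p G = ⊥) :
    IsPConstrained p G ↔ Subgroup.centralizer (pCore p G : Set G) ≤ pCore p G := by
  rw [isPConstrained_iff]
  let e : G ≃* G ⧸ pPrimeCore p G :=
    QuotientGroup.quotientBot.symm.trans (QuotientGroup.quotientMulEquivOfEq h.symm)
  rw [← Cfsg.Agent.Thompson.map_pCore_equiv e]
  have hcz : Subgroup.centralizer (((pCore p G).map e.toMonoidHom : Subgroup _) : Set _) =
      (Subgroup.centralizer (pCore p G : Set G)).map e.toMonoidHom := by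
    ext y
    obtain ⟨g, rfl⟩ := e.surjective y
    simp only [Subgroup.mem_centralizer_iff, Subgroup.coe_map, Set.forall_mem_image]
    constructor
    · intro hg
      exact ⟨g, fun x hx => e.injective (by simpa using hg hx), rfl⟩
    · rintro ⟨g', hg', hge⟩ x hx
      rw [← e.injective hge]
      simpa using congrArg e (hg' x hx)
  rw [hcz]
  exact Subgroup.map_le_map_iff_of_injective e.injective

theorem isPConstrained_quotient_iff :
    IsPConstrained p G ↔ IsPConstrained p (G ⧸ pPrimeCore p G) := by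
  rw [isPConstrained_iff,
    isPConstrained_iff_of_pPrimeCore_eq_bot Cfsg.Agent.Thompson.pPrimeCore_quotient_pPrimeCore]

/-- A group between the centralizer and the normalizer of a `p`-subgroup `P`, in a group with
`C(O_p) ≤ O_p`, has the same property and trivial `p'`-core. -/
theorem local_constrained (hQ : Subgroup.centralizer (pCore p G : Set G) ≤ pCore p G)
    (P H : Subgroup G) (hP : IsPGroup p P) (hCH : Subgroup.centralizer (P : Set G) ≤ H)
    (hHN : H ≤ Subgroup.normalizer (P : Set G)) (hn : (H.subgroupOf (Subgroup.normalizer (P : Set G))).Normal) :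
    pPrimeCore p H = ⊥ ∧ Subgroup.centralizer (pCore p H : Set H) ≤ pCore p H := by
  set R := pCore p G with hR
  have hRp : IsPGroup p R := Cfsg.Agent.Thompson.isPGroup_pCore
  set R₀ := R ⊓ Subgroup.centralizer (P : Set G) with hR₀
  have hRH : R₀ ≤ H := inf_le_right.trans hCH
  haveI hRn : (R₀.subgroupOf H).Normal := by
    refine (Subgroup.normal_subgroupOf_iff_le_normalizer hRH).mpr fun h hh => ?_
    rw [Subgroup.mem_normalizer_iff]
    have key : ∀ h ∈ H, ∀ x ∈ R₀, h * x * h⁻¹ ∈ R₀ := by
      intro h hh x hx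
      refine ⟨(inferInstance : R.Normal).conj_mem x hx.1 h, Subgroup.mem_centralizer_iff.mpr fun y hy => ?_⟩
      have hy' : h⁻¹ * y * h ∈ P := (Subgroup.mem_normalizer_iff''.mp (hHN hh) y).mp hy
      have := Subgroup.mem_centralizer_iff.mp hx.2 _ hy'
      calc y * (h * x * h⁻¹) = h * (h⁻¹ * y * h * x) * h⁻¹ := by simp [mul_assoc]
        _ = h * (x * (h⁻¹ * y * h)) * h⁻¹ := by rw [this]
        _ = _ := by simp [mul_assoc]
    exact fun x => ⟨key h hh x, fun hx => by simpa [mul_assoc] using key h⁻¹ (inv_mem hh) _ hx⟩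
  -- `p'`-elements centralizing `P` and `R₀` are trivial
  have key : ∀ T : Subgroup G, (Nat.card T).Coprime p → T ≤ Subgroup.centralizer (P : Set G) →
      T ≤ Subgroup.centralizer (R₀ : Set G) → T = ⊥ := by
    intro T hT hTP hTR
    have h1 : T ≤ Subgroup.centralizer (R : Set G) :=
      Cfsg.Agent.Coprime.thompson_pxq p P T R hP hT hRp (Subgroup.le_centralizer_iff.mp hTP)
        (by rw [Subgroup.normalizer_eq_top R]; exact le_top)
        (by rw [Subgroup.normalizer_eq_top R]; exact le_top) (Subgroup.le_centralizer_iff.mp hTR)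
    have h2 := Cfsg.Agent.Thompson.inf_eq_bot_of_isPGroup_of_coprime hRp hT
    rwa [inf_eq_right.mpr (h1.trans hQ)] at h2
  have hbot : pPrimeCore p H = ⊥ := by
    set T := pPrimeCore p H with hTdef
    have hTc : (Nat.card T).Coprime p := Cfsg.Agent.Thompson.card_pPrimeCore_coprime
    have hcard : (Nat.card (T.map H.subtype)).Coprime p := by
      rwa [Subgroup.card_map_of_injective H.subtype_injective]
    have hN : T.map H.subtype ≤ Subgroup.normalizer (P : Set G) := (Subgroup.map_subtype_le _).trans hHN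
    have hTn : Subgroup.normalizer (P : Set G) ≤
        Subgroup.normalizer ((T.map H.subtype : Subgroup G) : Set G) := by
      haveI := hn
      have hc : ((T.map H.subtype).subgroupOf (Subgroup.normalizer (P : Set G))).Normal := by
        let e := Subgroup.subgroupOfEquivOfLe hHN
        have : (T.map H.subtype).subgroupOf (Subgroup.normalizer (P : Set G)) =
            (T.map e.symm.toMonoidHom).map (H.subgroupOf _).subtype := by
          ext x
          constructor
          · rintro ⟨t, ht, htx⟩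
            refine ⟨e.symm t, ⟨t, ht, rfl⟩, Subtype.ext ?_⟩
            exact htx
          · rintro ⟨_, ⟨t, ht, rfl⟩, rfl⟩
            exact ⟨t, ht, rfl⟩
        rw [this]
        haveI : (T.map e.symm.toMonoidHom).Characteristic := by
          rw [Cfsg.Agent.Thompson.map_pPrimeCore_equiv]; infer_instance
        infer_instance
      exact (Subgroup.normal_subgroupOf_iff_le_normalizer hN).mp hc
    have hTP : T.map H.subtype ≤ Subgroup.centralizer (P : Set G) := by
      refine Subgroup.commutator_eq_bot_iff_le_centralizer.mp (le_bot_iff.mp ?_)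
      refine le_trans (le_inf ?_ ?_)
        (Cfsg.Agent.Thompson.inf_eq_bot_of_isPGroup_of_coprime hP hcard).le
      · exact Subgroup.le_normalizer_iff_commutator_le_right.mp hN
      · exact Subgroup.le_normalizer_iff_commutator_le_left.mp (Subgroup.le_normalizer.trans hTn)
    have hTR : T.map H.subtype ≤ Subgroup.centralizer (R₀ : Set G) := by
      refine Subgroup.commutator_eq_bot_iff_le_centralizer.mp (le_bot_iff.mp ?_)
      refine le_trans (le_inf ?_ ?_)
        (Cfsg.Agent.Thompson.inf_eq_bot_of_isPGroup_of_coprime (hRp.to_le (inf_le_left : R₀ ≤ R)) hcard).le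
      · exact Subgroup.le_normalizer_iff_commutator_le_right.mp
          ((Subgroup.map_subtype_le _).trans ((Subgroup.normal_subgroupOf_iff_le_normalizer hRH).mp hRn))
      · exact Subgroup.le_normalizer_iff_commutator_le_left.mp ((hRH.trans hHN).trans hTn)
    exact (Subgroup.map_eq_bot_iff_of_injective _ H.subtype_injective).mp (key _ hcard hTP hTR)
  refine ⟨hbot, ?_⟩
  set O := pCore p H with hO
  have hR₀O : R₀.subgroupOf H ≤ O := Cfsg.Agent.Thompson.le_pCore hRn
    ((hRp.to_le (inf_le_left : R₀ ≤ R)).of_equiv (Subgroup.subgroupOfEquivOfLe hRH).symm)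
  have hCp : IsPGroup p (Subgroup.centralizer (O : Set H)) := by
    rintro ⟨g, hg⟩
    obtain ⟨i, m, hm, hgm⟩ : ∃ i m : ℕ, ¬ p ∣ m ∧ orderOf g = p ^ i * m :=
      Nat.exists_eq_pow_mul_and_not_dvd (orderOf_pos g).ne' p (Fact.out : p.Prime).ne_one
    refine ⟨i, Subtype.ext ?_⟩
    simp only [SubmonoidClass.coe_pow, OneMemClass.coe_one]
    set t := g ^ p ^ i with ht
    have htm : t ^ m = 1 := by rw [ht, ← pow_mul, ← hgm, pow_orderOf_eq_one]
    have hcard : (Nat.card (Subgroup.zpowers (t : G))).Coprime p := by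
      rw [Nat.card_zpowers]
      refine Nat.Coprime.of_dvd_left (orderOf_dvd_of_pow_eq_one ?_)
        ((Fact.out : p.Prime).coprime_iff_not_dvd.mpr hm).symm
      simpa using congrArg Subtype.val htm
    have htC : t ∈ Subgroup.centralizer (O : Set H) := pow_mem hg _
    have hTR : Subgroup.zpowers (t : G) ≤ Subgroup.centralizer (R₀ : Set G) := by
      refine Subgroup.zpowers_le.mpr (Subgroup.mem_centralizer_iff.mpr fun x hx => ?_)
      exact congrArg Subtype.val (Subgroup.mem_centralizer_iff.mp htC ⟨x, hRH hx⟩ (hR₀O hx))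
    have hTP : Subgroup.zpowers (t : G) ≤ Subgroup.centralizer (P : Set G) := by
      -- `t` normalizes `P`; `[P, H] ≤ P ∩ H ≤ O_p(H)`
      have hPH : (P.subgroupOf H) ≤ O := by
        haveI : (P.subgroupOf H).Normal := Subgroup.normal_subgroupOf_of_le_normalizer hHN
        exact Cfsg.Agent.Thompson.le_pCore inferInstance hP.comap_subtype
      refine Subgroup.zpowers_le.mpr (Subgroup.mem_centralizer_iff.mpr fun x hx => ?_)
      set c := x⁻¹ * ((t : G) * x * (t : G)⁻¹) with hc
      have hcP : c ∈ P := P.mul_mem (P.inv_mem hx) ((Subgroup.mem_normalizer_iff.mp (hHN t.2) x).mp hx)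
      have hcH : c ∈ H := by
        haveI := hn
        have hx' : (⟨x, Subgroup.le_normalizer hx⟩ : Subgroup.normalizer (P : Set G))⁻¹ *
            ⟨(t : G), hHN t.2⟩ * ⟨x, Subgroup.le_normalizer hx⟩ ∈
              H.subgroupOf (Subgroup.normalizer (P : Set G)) := by
          have := hn.conj_mem ⟨(t : G), hHN t.2⟩ t.2 (⟨x, Subgroup.le_normalizer hx⟩ :
            Subgroup.normalizer (P : Set G))⁻¹
          simpa using this
        rw [Subgroup.mem_subgroupOf] at hx'
        simp only [Subgroup.coe_mul, InvMemClass.coe_inv] at hx'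
        rw [show c = x⁻¹ * (t : G) * x * (t : G)⁻¹ by simp [hc, mul_assoc]]
        exact H.mul_mem hx' (H.inv_mem t.2)
      have hct : Commute c (t : G) :=
        congrArg Subtype.val (Subgroup.mem_centralizer_iff.mp htC ⟨c, hcH⟩ (hPH hcP))
      have e : ∀ n : ℕ, (t : G) ^ n * x * ((t : G) ^ n)⁻¹ = x * c ^ n := by
        intro n
        induction n with
        | zero => simp
        | succ n ih =>
          have hcc : (t : G) * c ^ n * (t : G)⁻¹ = c ^ n := by
            rw [← (hct.pow_left n).eq, mul_inv_cancel_right]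
          calc (t : G) ^ (n + 1) * x * ((t : G) ^ (n + 1))⁻¹
              = (t : G) * ((t : G) ^ n * x * ((t : G) ^ n)⁻¹) * (t : G)⁻¹ := by
                simp [pow_succ', mul_assoc]
            _ = ((t : G) * x * (t : G)⁻¹) * ((t : G) * c ^ n * (t : G)⁻¹) := by
                rw [ih]; simp [mul_assoc]
            _ = x * c ^ (n + 1) := by rw [hcc, pow_succ']; simp [hc, mul_assoc]
      have hm1 := e m
      have htm' : (t : G) ^ m = 1 := by simpa using congrArg Subtype.val htm
      rw [htm', one_mul, inv_one, mul_one, left_eq_mul] at hm1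
      obtain ⟨j, hj⟩ := hP ⟨c, hcP⟩
      have hc1 : c = 1 := by
        have hj' : c ^ p ^ j = 1 := by simpa using congrArg Subtype.val hj
        have hd := Nat.dvd_gcd (orderOf_dvd_of_pow_eq_one hm1) (orderOf_dvd_of_pow_eq_one hj')
        rw [((((Fact.out : p.Prime).coprime_iff_not_dvd.mpr hm).symm).pow_right j), Nat.dvd_one,
          orderOf_eq_one_iff] at hd
        exact hd
      rw [hc, inv_mul_eq_one, eq_mul_inv_iff_mul_eq] at hc1
      exact hc1
    have := key _ hcard hTP hTR
    exact Subtype.ext (Subgroup.zpowers_eq_bot.mp this)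
  haveI : (Subgroup.centralizer (O : Set H)).Normal := inferInstance
  exact Cfsg.Agent.Thompson.le_pCore inferInstance hCp

/-- A surjection with `p'`-kernel onto a group with `O_{p'} = 1` and `C(O_p) ≤ O_p`. -/
theorem isPConstrained_of_surjective {Q : Type*} [Group Q] [Finite Q] (f : G →* Q)
    (hf : Function.Surjective f) (hker : (Nat.card f.ker).Coprime p) (hbot : pPrimeCore p Q = ⊥)
    (hQ : Subgroup.centralizer (pCore p Q : Set Q) ≤ pCore p Q) : IsPConstrained p G := by
  have hk : f.ker = pPrimeCore p G := by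
    refine le_antisymm (Cfsg.Agent.Thompson.le_pPrimeCore inferInstance hker) ?_
    have := Cfsg.Agent.Thompson.map_pPrimeCore_le_of_surjective (p := p) f hf
    rw [hbot, le_bot_iff, Subgroup.map_eq_bot_iff] at this
    exact this
  rw [isPConstrained_iff]
  let e : G ⧸ pPrimeCore p G ≃* Q :=
    (QuotientGroup.quotientMulEquivOfEq hk.symm).trans (QuotientGroup.quotientKerEquivOfSurjective f hf)
  rw [← Cfsg.Agent.Thompson.map_pCore_equiv e.symm]
  intro y hy
  obtain ⟨q, rfl⟩ := e.symm.surjective y
  refine ⟨q, hQ (Subgroup.mem_centralizer_iff.mpr fun x hx => e.symm.injective ?_), rfl⟩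
  simpa using Subgroup.mem_centralizer_iff.mp hy _ ⟨x, hx, rfl⟩

/-- The image of a local subgroup in the quotient by `O_{p'}`. -/
theorem local_facts (hG : IsPConstrained p G) (P H : Subgroup G) (hP : IsPGroup p P)
    (hCH : Subgroup.centralizer (P : Set G) ≤ H) (hHN : H ≤ Subgroup.normalizer (P : Set G))
    (hn : (H.subgroupOf (Subgroup.normalizer (P : Set G))).Normal) :
    pPrimeCore p H = (pPrimeCore p G).subgroupOf H ∧ IsPConstrained p H := by
  set K := pPrimeCore p G with hK
  have hKc : (Nat.card K).Coprime p := Cfsg.Agent.Thompson.card_pPrimeCore_coprime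
  set H' := H.map (QuotientGroup.mk' K) with hH'
  set P' := P.map (QuotientGroup.mk' K) with hP'
  have hn' : (H'.subgroupOf (Subgroup.normalizer (P' : Set (G ⧸ K)))).Normal := by
    refine (Subgroup.normal_subgroupOf_iff_le_normalizer ?_).mpr ?_
    · rw [hH', ← map_normalizer_eq K P hKc hP]; exact Subgroup.map_mono hHN
    · rw [← map_normalizer_eq K P hKc hP, hH']
      exact (Subgroup.map_mono ((Subgroup.normal_subgroupOf_iff_le_normalizer hHN).mp hn)).trans
        (Subgroup.le_normalizer_map _)
  obtain ⟨h1, h2⟩ := local_constrained (isPConstrained_iff.mp hG) P' H' (hP.map _)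
    (by rw [← map_centralizer_eq K P hKc hP]; exact Subgroup.map_mono hCH)
    (by rw [← map_normalizer_eq K P hKc hP]; exact Subgroup.map_mono hHN) hn'
  let f : H →* H' := (QuotientGroup.mk' K).subgroupMap H
  have hf : Function.Surjective f := MonoidHom.subgroupMap_surjective _ _
  have hker : f.ker = K.subgroupOf H := by
    ext x
    rw [MonoidHom.mem_ker, Subgroup.mem_subgroupOf, Subtype.ext_iff]
    exact QuotientGroup.eq_one_iff (x : G)
  have hkc : (Nat.card f.ker).Coprime p := by
    rw [hker]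
    exact Nat.Coprime.of_dvd_left (Subgroup.card_comap_dvd_of_injective K _ H.subtype_injective) hKc
  refine ⟨?_, isPConstrained_of_surjective f hf hkc h1 h2⟩
  refine le_antisymm ?_ (hker ▸ Cfsg.Agent.Thompson.le_pPrimeCore inferInstance hkc)
  have := Cfsg.Agent.Thompson.map_pPrimeCore_le_of_surjective (p := p) f hf
  rw [h1, le_bot_iff, Subgroup.map_eq_bot_iff, hker] at this
  exact this

/-- A `p`-solvable centralizer gives `p`-constraint. -/
theorem isPConstrained_of_centralizer (P : Sylow p ↥(pPrimePCore p G))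
    (hsol : IsPSolvable p ↥(Subgroup.centralizer
      (((P : Subgroup ↥(pPrimePCore p G)).map (pPrimePCore p G).subtype : Subgroup G) : Set G))) :
    IsPConstrained p G := by
  rw [isPConstrained_iff]
  set K := pPrimeCore p G with hK
  set R := pCore p (G ⧸ K) with hR
  set P' := (P : Subgroup ↥(pPrimePCore p G)).map (pPrimePCore p G).subtype with hP'
  have hPR : P'.map (QuotientGroup.mk' K) = R := by
    have h1 := congrArg (Subgroup.map (QuotientGroup.mk' (pPrimeCore p G)))
      (Cfsg.Agent.Thompson.sylow_pPrimePCore_sup P)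
    rwa [Subgroup.map_sup, QuotientGroup.map_mk'_self, bot_sup_eq,
      Cfsg.Agent.Thompson.map_mk'_pPrimePCore] at h1
  set C := Subgroup.centralizer (R : Set (G ⧸ K)) with hC
  have hmap : (Subgroup.centralizer (P' : Set G)).map (QuotientGroup.mk' K) = C := by
    rw [map_centralizer_eq K P' Cfsg.Agent.Thompson.card_pPrimeCore_coprime (P.2.map _), hPR]
  haveI : C.Normal := inferInstance
  have hCs : IsPSolvable p C := by
    rw [← hmap]
    exact Cfsg.Agent.Thompson.isPSolvable_of_surjective _
      (MonoidHom.subgroupMap_surjective (QuotientGroup.mk' K) _) hsol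
  have hbot : pPrimeCore p C = ⊥ := by
    rw [← Subgroup.map_eq_bot_iff_of_injective _ C.subtype_injective, ← le_bot_iff,
      ← Cfsg.Agent.Thompson.pPrimeCore_quotient_pPrimeCore (p := p) (G := G)]
    exact Cfsg.Agent.Thompson.map_pPrimeCore_normal_le C
  have hHH := Cfsg.Agent.Thompson.centralizer_pCore_le hCs hbot
  have hle : (pCore p C).map C.subtype ≤ R := Cfsg.Agent.Thompson.map_pCore_normal_le C
  intro x hx
  have : (⟨x, hx⟩ : C) ∈ pCore p C := by
    refine hHH (Subgroup.mem_centralizer_iff.mpr fun y hy => Subtype.ext ?_)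
    exact Subgroup.mem_centralizer_iff.mp hx _ (hle ⟨y, hy, rfl⟩)
  exact hle ⟨⟨x, hx⟩, this, rfl⟩

/-- The upper `p`-series: `O_{p'}` of the quotient by an odd term is trivial. -/
theorem pPrimeCore_quotient_upperPSeries (k : ℕ) :
    pPrimeCore p (G ⧸ (upperPSeries p G (2 * k + 1)).1) = ⊥ := by
  set U := (upperPSeries p G (2 * k)).1 with hU
  set M := (upperPSeries p G (2 * k + 1)).1 with hM
  have hMeq : M = (pPrimeCore p (G ⧸ U)).comap (QuotientGroup.mk' U) := by
    rw [hM, upperPSeries, if_pos (even_two_mul k)]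
  have hUM : U ≤ M := hMeq ▸ fun x hx => by
    simp [Subgroup.mem_comap, (QuotientGroup.eq_one_iff x).mpr hx, one_mem]
  have hmap : M.map (QuotientGroup.mk' U) = pPrimeCore p (G ⧸ U) := by
    rw [hMeq, Subgroup.map_comap_eq_self_of_surjective (QuotientGroup.mk'_surjective _)]
  let e : (G ⧸ U) ⧸ pPrimeCore p (G ⧸ U) ≃* G ⧸ M :=
    (QuotientGroup.quotientMulEquivOfEq hmap.symm).trans
      (QuotientGroup.quotientQuotientEquivQuotient U M hUM)
  rw [← Cfsg.Agent.Thompson.map_pPrimeCore_equiv e,
    Cfsg.Agent.Thompson.pPrimeCore_quotient_pPrimeCore, Subgroup.map_bot]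

theorem map_upperPSeries_succ (k : ℕ) :
    (upperPSeries p G (2 * k + 2)).1.map (QuotientGroup.mk' (upperPSeries p G (2 * k + 1)).1) =
      pCore p (G ⧸ (upperPSeries p G (2 * k + 1)).1) := by
  have h : (upperPSeries p G (2 * k + 1 + 1)).1 =
      (pCore p (G ⧸ (upperPSeries p G (2 * k + 1)).1)).comap
        (QuotientGroup.mk' (upperPSeries p G (2 * k + 1)).1) := by
    rw [upperPSeries, if_neg (by simp)]
  change (upperPSeries p G (2 * k + 1 + 1)).1.map _ = _
  rw [h]
  exact Subgroup.map_comap_eq_self_of_surjective (QuotientGroup.mk'_surjective _) _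

/-- Hall–Higman: the `p`-factors of the upper `p`-series contain their centralizers. -/
theorem centralizer_upperPSeries_le (hsol : IsPSolvable p G) (k : ℕ) :
    Subgroup.centralizer ((pCore p (G ⧸ (upperPSeries p G (2 * k + 1)).1) : Subgroup _) : Set _) ≤
      pCore p (G ⧸ (upperPSeries p G (2 * k + 1)).1) :=
  Cfsg.Agent.Thompson.centralizer_pCore_le (Cfsg.Agent.Thompson.isPSolvable_quotient _ hsol)
    (pPrimeCore_quotient_upperPSeries k)

theorem upperPSeries_le_succ (n : ℕ) : (upperPSeries p G n).1 ≤ (upperPSeries p G (n + 1)).1 := by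
  intro x hx
  rw [upperPSeries]
  split_ifs <;> simp [Subgroup.mem_comap, (QuotientGroup.eq_one_iff x).mpr hx, one_mem]

theorem upperCentralSeries_le_upperPSeries (hsol : IsPSolvable p G) (S : Sylow p G) (i : ℕ) :
    (Subgroup.upperCentralSeries ↥(S : Subgroup G) i).map (S : Subgroup G).subtype ≤
      (upperPSeries p G (2 * i)).1 := by
  induction i with
  | zero => simp [Subgroup.upperCentralSeries_zero]
  | succ i ih =>
    rintro _ ⟨x, hx, rfl⟩
    have hmem : QuotientGroup.mk' (upperPSeries p G (2 * i + 1)).1 (x : G) ∈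
        pCore p (G ⧸ (upperPSeries p G (2 * i + 1)).1) := by
      refine centralizer_upperPSeries_le hsol i (Subgroup.mem_centralizer_iff.mpr fun y hy => ?_)
      have hyS : y ∈ ((S.mapSurjective (QuotientGroup.mk'_surjective (upperPSeries p G (2 * i + 1)).1) :
          Sylow p (G ⧸ (upperPSeries p G (2 * i + 1)).1)) : Subgroup _) :=
        Cfsg.Agent.Thompson.pCore_le_sylow _ hy
      obtain ⟨s, hs, rfl⟩ : y ∈ (S : Subgroup G).map (QuotientGroup.mk' _) := hyS
      have h1 : (x : G) * s * (x : G)⁻¹ * s⁻¹ ∈ (upperPSeries p G (2 * i + 1)).1 :=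
        upperPSeries_le_succ _ (ih ⟨_, Subgroup.mem_upperCentralSeries_succ_iff.mp hx ⟨s, hs⟩, rfl⟩)
      have h2 := (QuotientGroup.eq_one_iff _).mpr h1
      simp only [QuotientGroup.mk_mul, QuotientGroup.mk_inv, mul_inv_eq_iff_eq_mul, one_mul] at h2
      exact h2.symm
    rw [Subgroup.coe_subtype, show 2 * (i + 1) = (2 * i + 1) + 1 from rfl, upperPSeries,
      if_neg (by simp [Nat.even_add_one])]
    exact hmem

theorem pLengthLE_nilpotencyClass (hsol : IsPSolvable p G) (S : Sylow p G) :
    PLengthLE p (Group.nilpotencyClass ↥(S : Subgroup G)) G := by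
  set c := Group.nilpotencyClass ↥(S : Subgroup G)
  haveI : Group.IsNilpotent ↥(S : Subgroup G) := S.2.isNilpotent
  have hle : (S : Subgroup G) ≤ (upperPSeries p G (2 * c)).1 := by
    have := upperCentralSeries_le_upperPSeries hsol S c
    rwa [Subgroup.upperCentralSeries_nilpotencyClass, ← MonoidHom.range_eq_map,
      Subgroup.range_subtype] at this
  rw [PLengthLE, upperPSeries, if_pos (even_two_mul c)]
  have htop : pPrimeCore p (G ⧸ (upperPSeries p G (2 * c)).1) = ⊤ := by
    rw [Cfsg.Agent.Thompson.pPrimeCore_eq_top_iff, Nat.coprime_comm,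
      (Fact.out : p.Prime).coprime_iff_not_dvd, ← Subgroup.index_eq_card]
    exact fun h => S.not_dvd_index (h.trans (Subgroup.index_dvd_of_le hle))
  change (pPrimeCore p (G ⧸ (upperPSeries p G (2 * c)).1)).comap _ = ⊤
  rw [htop, Subgroup.comap_top]

end Cfsg.Agent.PLocalB
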