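import Cfsg.Agent.PLocalB.RegularBasic
import Cfsg.Agent.FGS79.RegularP

/-!
Power subgroups of regular `p`-groups and Kemhadze's criterion.
-/

set_option autoImplicit false
set_option linter.style.haveILetI false

open scoped commutatorElement

namespace Cfsg.Agent.PLocalB

variable {G : Type*} [Group G] {p : ℕ}

/-- The regularity condition for one exponent `p ^ n`. -/
def PowCond (p n : ℕ) (G : Type*) [Group G] : Prop :=
  ∀ a b : G, ∃ c ∈ powerClosure p n ⁅Subgroup.closure ({a, b} : Set G), Subgroup.closure ({a, b} : Set G)⁆,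
    (a * b) ^ (p ^ n) = a ^ (p ^ n) * b ^ (p ^ n) * c

theorem powerClosure_mono (n : ℕ) {D E : Subgroup G} (h : D ≤ E) :
    powerClosure p n D ≤ powerClosure p n E :=
  Subgroup.closure_mono fun _ ⟨x, hx, hy⟩ => ⟨x, h hx, hy⟩

theorem PowCond.map {n : ℕ} (h : PowCond p n G) {Q : Type*} [Group Q] (f : G →* Q)
    (hf : Function.Surjective f) : PowCond p n Q := by
  intro a b
  obtain ⟨a, rfl⟩ := hf a
  obtain ⟨b, rfl⟩ := hf b
  obtain ⟨c, hc, habc⟩ := h a b
  refine ⟨f c, ?_, by simp only [← map_mul, ← map_pow, habc]⟩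
  rw [← map_derived_pair, ← powerClosure_map]
  exact ⟨c, hc, rfl⟩

theorem PowCond.subgroup {n : ℕ} (h : PowCond p n G) (S : Subgroup G) : PowCond p n S := by
  intro a b
  obtain ⟨c, hc, habc⟩ := h a b
  rw [show (a : G) = S.subtype a from rfl, show (b : G) = S.subtype b from rfl, ← map_derived_pair,
    ← powerClosure_map] at hc
  obtain ⟨c, hc, rfl⟩ := hc
  exact ⟨c, hc, S.subtype_injective (by simpa using habc)⟩

variable [Finite G] [Fact p.Prime]

/-- Under the power condition the `p ^ n`-th powers of a subgroup form a subgroup. -/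
theorem powers_mul_closed {n : ℕ} (hG : IsPGroup p G) (h : PowCond p n G) :
    ∀ (m : ℕ) (H : Subgroup G), Nat.card H = m → ∀ a ∈ H, ∀ b ∈ H,
      ∃ x ∈ H, a ^ (p ^ n) * b ^ (p ^ n) = x ^ (p ^ n) := by
  intro m
  induction m using Nat.strong_induction_on with
  | _ m ih =>
  intro H hH a ha b hb
  by_cases hab : Commute a b
  · exact ⟨a * b, mul_mem ha hb, (hab.mul_pow _).symm⟩
  set S := Subgroup.closure ({a, b} : Set G) with hS
  have hSH : S ≤ H := (Subgroup.closure_le H).mpr (by simp [Set.insert_subset_iff, ha, hb])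
  have haS : a ∈ S := Subgroup.subset_closure (by simp)
  have hbS : b ∈ S := Subgroup.subset_closure (by simp)
  have hnc : ¬ Commute (a * b) b := fun hc => hab (by
    have := hc.mul_left (Commute.refl b).inv_left
    simpa using this)
  have hcl : Subgroup.closure ({a * b, b} : Set G) = S := by
    have h1 : a * b ∈ Subgroup.closure ({a * b, b} : Set G) := Subgroup.subset_closure (by simp)
    have h2 : b ∈ Subgroup.closure ({a * b, b} : Set G) := Subgroup.subset_closure (by simp)
    refine le_antisymm ((Subgroup.closure_le _).mpr ?_) ((Subgroup.closure_le _).mpr ?_)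
    · simp [Set.insert_subset_iff, hbS, mul_mem haS hbS]
    · simp only [Set.insert_subset_iff, Set.singleton_subset_iff, SetLike.mem_coe]
      exact ⟨by simpa using mul_mem h1 (inv_mem h2), h2⟩
  have hlt := Cfsg.Agent.FGS79.zpowers_sup_commutator_lt hG hnc
  rw [hcl] at hlt
  set M := Subgroup.zpowers (a * b) ⊔ ⁅S, S⁆ with hM
  have hMcard : Nat.card M < m := by
    rw [← hH]
    exact lt_of_not_ge fun hge => (hlt.trans_le hSH).ne
      (Subgroup.eq_of_le_of_card_ge (hlt.le.trans hSH) hge)
  have key : ∀ z ∈ powerClosure p n M, ∃ x ∈ M, z = x ^ (p ^ n) := by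
    intro z hz
    induction hz using Subgroup.closure_induction with
    | mem y hy => exact hy
    | one => exact ⟨1, one_mem _, (one_pow _).symm⟩
    | mul u v _ _ hu hv =>
      obtain ⟨x, hx, rfl⟩ := hu
      obtain ⟨y, hy, rfl⟩ := hv
      exact ih _ hMcard M rfl x hx y hy
    | inv u _ hu =>
      obtain ⟨x, hx, rfl⟩ := hu
      exact ⟨x⁻¹, inv_mem hx, (inv_pow x _).symm⟩
  obtain ⟨c, hc, habc⟩ := h a b
  have hmem : a ^ (p ^ n) * b ^ (p ^ n) ∈ powerClosure p n M := by
    rw [show a ^ (p ^ n) * b ^ (p ^ n) = (a * b) ^ (p ^ n) * c⁻¹ by rw [habc, mul_inv_cancel_right]]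
    refine mul_mem (Subgroup.subset_closure ⟨_, Subgroup.mem_sup_left (Subgroup.mem_zpowers _), rfl⟩)
      (inv_mem ?_)
    exact powerClosure_mono n le_sup_right hc
  obtain ⟨x, hx, hxe⟩ := key _ hmem
  exact ⟨x, hSH (hlt.le hx), hxe⟩

theorem mem_powerClosure_iff {n : ℕ} (hG : IsPGroup p G) (h : PowCond p n G) (H : Subgroup G) (y : G) :
    y ∈ powerClosure p n H ↔ ∃ x ∈ H, y = x ^ (p ^ n) := by
  refine ⟨fun hy => ?_, fun hy => Subgroup.subset_closure hy⟩
  induction hy using Subgroup.closure_induction with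
  | mem y hy => exact hy
  | one => exact ⟨1, one_mem _, (one_pow _).symm⟩
  | mul u v _ _ hu hv =>
    obtain ⟨x, hx, rfl⟩ := hu
    obtain ⟨y, hy, rfl⟩ := hv
    exact powers_mul_closed hG h _ H rfl x hx y hy
  | inv u _ hu =>
    obtain ⟨x, hx, rfl⟩ := hu
    exact ⟨x⁻¹, inv_mem hx, (inv_pow x _).symm⟩

theorem regular_powers_derived (hR : IsRegularPGroup p G) (H : Subgroup G) (n : ℕ) :
    {y : G | ∃ x ∈ H, y = x ^ (p ^ n)} = (powerClosure p n H : Set G) ∧
      ⁅powerClosure p n H, powerClosure p n H⁆ ≤ powerClosure p n ⁅H, H⁆ := by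
  have hcond : PowCond p n G := fun a b => hR.2 a b n
  refine ⟨Set.ext fun y => (mem_powerClosure_iff hR.1 hcond H y).symm, ?_⟩
  rw [Subgroup.commutator_le]
  intro u hu v hv
  obtain ⟨x, hx, rfl⟩ := (mem_powerClosure_iff hR.1 hcond H u).mp hu
  have hvH : v ∈ H := powerClosure_le n H hv
  haveI : (powerClosure p n (commutator H)).Normal := powerClosure_normal n _
  let mk := QuotientGroup.mk' (powerClosure p n (commutator H))
  have hRH : IsRegularPGroup p (H ⧸ powerClosure p n (commutator H)) :=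
    isRegularPGroup_quotient (isRegularPGroup_subgroup hR H) _
  have hexp : ∀ d : H, d ∈ commutator H → (mk d) ^ (p ^ n) = 1 := fun d hd => by
    rw [← map_pow]
    exact (QuotientGroup.eq_one_iff _).mpr (Subgroup.subset_closure ⟨d, hd, rfl⟩)
  have hcomm : mk (⟨x, hx⟩ ^ (p ^ n)) * mk ⟨v, hvH⟩ = mk ⟨v, hvH⟩ * mk (⟨x, hx⟩ ^ (p ^ n)) := by
    rw [map_pow, Cfsg.Agent.FGS79.pow_commute_iff hRH]
    have e : (mk ⟨x, hx⟩)⁻¹ * (mk ⟨v, hvH⟩)⁻¹ * mk ⟨x, hx⟩ * mk ⟨v, hvH⟩ =
        mk ⁅(⟨x, hx⟩ : H)⁻¹, (⟨v, hvH⟩ : H)⁻¹⁆ := by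
      rw [map_commutatorElement, map_inv, map_inv, commutatorElement_def, inv_inv, inv_inv]
    rw [e]
    exact hexp _ (Subgroup.commutator_mem_commutator (Subgroup.mem_top _) (Subgroup.mem_top _))
  have hmem : ⁅(⟨x, hx⟩ : H) ^ (p ^ n), ⟨v, hvH⟩⁆ ∈ powerClosure p n (commutator H) := by
    rw [← QuotientGroup.eq_one_iff]
    change mk _ = 1
    rw [map_commutatorElement, commutatorElement_eq_one_iff_mul_comm]
    exact hcomm
  have hmap : (powerClosure p n (commutator H)).map H.subtype = powerClosure p n ⁅H, H⁆ := by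
    rw [powerClosure_map, Subgroup.map_subtype_commutator]
  rw [← hmap]
  exact ⟨_, hmem, rfl⟩

/-- Kemhadze: the power condition for `p` gives regularity. -/
theorem powCond_of_powCond_one (n : ℕ) : ∀ {G : Type*} [Group G] [Finite G],
    IsPGroup p G → PowCond p 1 G → PowCond p n G := by
  induction n with
  | zero => intro G _ _ _ _ a b; exact ⟨1, one_mem _, by simp⟩
  | succ n ih =>
    intro G _ _ hG h a₀ b₀
    set S := Subgroup.closure ({a₀, b₀} : Set G) with hS
    have ha : a₀ ∈ S := Subgroup.subset_closure (by simp)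
    have hb : b₀ ∈ S := Subgroup.subset_closure (by simp)
    set K := powerClosure p (n + 1) (commutator S) with hK
    haveI : K.Normal := powerClosure_normal _ _
    have hQp : IsPGroup p (S ⧸ K) := (hG.to_subgroup S).to_quotient K
    have hQ : PowCond p 1 (S ⧸ K) := (h.subgroup S).map _ (QuotientGroup.mk'_surjective K)
    -- the exponent of the derived subgroup of the quotient
    have hexp : ∀ d ∈ commutator (S ⧸ K), d ^ (p ^ (n + 1)) = 1 := by
      intro d hd
      have hd' : d ∈ (commutator S).map (QuotientGroup.mk' K) := by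
        rw [_root_.commutator, Subgroup.map_commutator,
          Subgroup.map_top_of_surjective _ (QuotientGroup.mk'_surjective K)]
        exact hd
      obtain ⟨e, he, rfl⟩ := hd'
      rw [← map_pow]
      exact (QuotientGroup.eq_one_iff _).mpr (Subgroup.subset_closure ⟨e, he, rfl⟩)
    set D := commutator (S ⧸ K) with hD
    set M := powerClosure p 1 D with hM
    haveI : M.Normal := powerClosure_normal 1 D
    have hMexp : ∀ z ∈ M, z ^ (p ^ n) = 1 := by
      intro z hz
      obtain ⟨d, hd, rfl⟩ := (mem_powerClosure_iff hQp hQ D z).mp hz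
      rw [← pow_mul, ← pow_add, add_comm 1 n]
      exact hexp d hd
    -- `p`-th powers are central modulo `M`
    have hcent : ∀ x y : S ⧸ K, ⁅x ^ p, y⁆ ∈ M := by
      intro x y
      rw [← QuotientGroup.eq_one_iff]
      change QuotientGroup.mk' M _ = 1
      rw [map_commutatorElement, map_pow]
      have hR : PowCond p 1 ((S ⧸ K) ⧸ M) := hQ.map _ (QuotientGroup.mk'_surjective M)
      have hDexp : ∀ d ∈ commutator ((S ⧸ K) ⧸ M), d ^ p = 1 := by
        intro d hd
        have hd' : d ∈ D.map (QuotientGroup.mk' M) := by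
          rw [hD, _root_.commutator, Subgroup.map_commutator,
            Subgroup.map_top_of_surjective _ (QuotientGroup.mk'_surjective M)]
          exact hd
        obtain ⟨e, he, rfl⟩ := hd'
        rw [← map_pow]
        exact (QuotientGroup.eq_one_iff _).mpr (Subgroup.subset_closure ⟨e, he, by rw [pow_one]⟩)
      have hkill : ∀ (T : Subgroup ((S ⧸ K) ⧸ M)), ∀ c ∈ powerClosure p 1 ⁅T, T⁆, c = 1 := by
        intro T c hc
        rw [← Subgroup.mem_bot]
        rw [Cfsg.Agent.FGS79.powerClosure_eq_bot (fun z hz => ?_)] at hc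
        · exact hc
        rw [pow_one]
        exact hDexp z (Subgroup.commutator_mono le_top le_top hz)
      generalize QuotientGroup.mk' M x = u
      generalize QuotientGroup.mk' M y = v
      obtain ⟨c, hc, huv⟩ := hR ⁅v, u⁆ u
      rw [pow_one, hkill _ c hc, mul_one,
        hDexp _ (Subgroup.commutator_mem_commutator (Subgroup.mem_top v) (Subgroup.mem_top u)), one_mul,
        show ⁅v, u⁆ * u = v * u * v⁻¹ by simp [commutatorElement_def], conj_pow,
        mul_inv_eq_iff_eq_mul] at huv
      rw [commutatorElement_eq_one_iff_mul_comm]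
      exact huv.symm
    -- derived subgroups of pairs of `p`-th powers
    have hpair : ∀ u v : S ⧸ K, ⁅u, v⁆ ∈ M →
        ∀ c ∈ powerClosure p n ⁅Subgroup.closure ({u, v} : Set (S ⧸ K)), Subgroup.closure ({u, v} : Set (S ⧸ K))⁆,
          c = 1 := by
      intro u v huv c hc
      have hle : ⁅Subgroup.closure ({u, v} : Set (S ⧸ K)), Subgroup.closure ({u, v} : Set (S ⧸ K))⁆ ≤ M := by
        rw [← QuotientGroup.ker_mk' M, ← Subgroup.map_eq_bot_iff, Subgroup.map_commutator,
          Subgroup.commutator_eq_bot_iff_le_centralizer, MonoidHom.map_closure, Set.image_pair,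
          Subgroup.le_centralizer_iff_isMulCommutative]
        have h1 : QuotientGroup.mk' M u * QuotientGroup.mk' M v = QuotientGroup.mk' M v * QuotientGroup.mk' M u := by
          rw [← commutatorElement_eq_one_iff_mul_comm, ← map_commutatorElement]
          exact (QuotientGroup.eq_one_iff _).mpr huv
        refine Subgroup.isMulCommutative_closure ?_
        rintro w (rfl | rfl) z (rfl | rfl)
        · rfl
        · exact h1
        · exact h1.symm
        · rfl
      rw [← Subgroup.mem_bot, ← Cfsg.Agent.FGS79.powerClosure_eq_bot hMexp]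
      exact powerClosure_mono n hle hc
    set mk := QuotientGroup.mk' K with hmk
    set a := mk ⟨a₀, ha⟩ with ha'
    set b := mk ⟨b₀, hb⟩ with hb'
    have hab : (a * b) ^ (p ^ (n + 1)) = a ^ (p ^ (n + 1)) * b ^ (p ^ (n + 1)) := by
      obtain ⟨c₁, hc₁, h1⟩ := hQ a b
      rw [pow_one] at h1
      obtain ⟨c, hcD, rfl⟩ := (mem_powerClosure_iff hQp hQ D c₁).mp
        (powerClosure_mono 1 (Subgroup.commutator_mono le_top le_top) hc₁)
      rw [pow_one] at h1
      obtain ⟨d, hd, h2⟩ := ih hQp hQ (a ^ p * b ^ p) (c ^ p)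
      obtain ⟨e, he, h3⟩ := ih hQp hQ (a ^ p) (b ^ p)
      rw [hpair _ _ (hcent a _) e he, mul_one] at h3
      have hcomm2 : ⁅a ^ p * b ^ p, c ^ p⁆ ∈ M := by
        rw [← commutatorElement_inv]
        exact inv_mem (hcent c _)
      rw [hpair _ _ hcomm2 d hd, mul_one, h3] at h2
      rw [pow_succ', pow_mul, h1, h2, ← pow_mul c, ← pow_succ', hexp c hcD, mul_one, ← pow_mul,
        ← pow_mul, ← pow_succ']
    have hmem : ((⟨a₀, ha⟩ : S) ^ (p ^ (n + 1)) * (⟨b₀, hb⟩ : S) ^ (p ^ (n + 1)))⁻¹ *
        ((⟨a₀, ha⟩ : S) * ⟨b₀, hb⟩) ^ (p ^ (n + 1)) ∈ K := by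
      rw [← QuotientGroup.eq_one_iff]
      change mk _ = 1
      rw [map_mul, map_inv, map_mul, map_pow, map_pow, map_pow, map_mul, ← ha', ← hb', hab,
        inv_mul_cancel]
    refine ⟨_, ?_, (mul_inv_cancel_left _ _).symm⟩
    have hKmap : K.map S.subtype = powerClosure p (n + 1) ⁅S, S⁆ := by
      rw [hK, powerClosure_map, Subgroup.map_subtype_commutator]
    rw [← hKmap]
    exact ⟨_, hmem, rfl⟩

theorem regular_iff_kemhadze (hG : IsPGroup p G) :
    IsRegularPGroup p G ↔ ∀ a b : G, ∃ c ∈ ⁅Subgroup.closure ({a, b} : Set G),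
      Subgroup.closure ({a, b} : Set G)⁆, (a * b) ^ p = a ^ p * b ^ p * c ^ p := by
  constructor
  · intro h a b
    have hcond : PowCond p 1 G := fun a b => h.2 a b 1
    obtain ⟨c, hc, habc⟩ := hcond a b
    obtain ⟨d, hd, rfl⟩ := (mem_powerClosure_iff hG hcond _ c).mp hc
    exact ⟨d, hd, by simpa using habc⟩
  · intro h
    have hcond : PowCond p 1 G := by
      intro a b
      obtain ⟨c, hc, habc⟩ := h a b
      exact ⟨c ^ p, Subgroup.subset_closure ⟨c, hc, by rw [pow_one]⟩, by simpa using habc⟩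
    exact ⟨hG, fun a b n => powCond_of_powCond_one n hG hcond a b⟩

end Cfsg.Agent.PLocalB
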