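import Cfsg.Agent.PLocalB.PConstrained
import Cfsg.Agent.PLocalB.StableDefs

/-!
`p`-constraint of local subgroups from maximal locals or from centralizers.
-/

set_option autoImplicit false
set_option linter.style.haveILetI false

namespace Cfsg.Agent.PLocalB

variable {p : ℕ} [Fact p.Prime]

/-- A group is `p`-constrained when the centralizer of a normal `p`-subgroup is. -/
theorem isPConstrained_of_centralizer_normal {G : Type*} [Group G] [Finite G] (T : Subgroup G)
    [T.Normal] (hT : IsPGroup p T) (h : IsPConstrained p (Subgroup.centralizer (T : Set G))) :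
    IsPConstrained p G := by
  rw [isPConstrained_iff]
  set K := pPrimeCore p G with hK
  set C := Subgroup.centralizer (T : Set G) with hC
  have hKC : K ≤ C := Cfsg.Agent.Thompson.pPrimeCore_le_centralizer_pCore.trans
    (Subgroup.centralizer_le (Cfsg.Agent.Thompson.le_pCore inferInstance hT))
  set C' := C.map (QuotientGroup.mk' K) with hC'
  haveI hC'n : C'.Normal := Subgroup.Normal.map inferInstance _ (QuotientGroup.mk'_surjective K)
  let f : C →* C' := (QuotientGroup.mk' K).subgroupMap C
  have hf : Function.Surjective f := MonoidHom.subgroupMap_surjective _ _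
  have hker : f.ker = pPrimeCore p C := by
    apply Subgroup.map_injective C.subtype_injective
    rw [Cfsg.Agent.Thompson.map_pPrimeCore_normal_eq, inf_eq_right.mpr hKC]
    ext x
    constructor
    · rintro ⟨y, hy, rfl⟩
      exact (QuotientGroup.eq_one_iff (y : G)).mp (congrArg Subtype.val (MonoidHom.mem_ker.mp hy))
    · intro hx
      exact ⟨⟨x, hKC hx⟩, MonoidHom.mem_ker.mpr (Subtype.ext ((QuotientGroup.eq_one_iff x).mpr hx)), rfl⟩
  let e : C ⧸ pPrimeCore p C ≃* C' :=
    (QuotientGroup.quotientMulEquivOfEq hker.symm).trans (QuotientGroup.quotientKerEquivOfSurjective f hf)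
  have hbot : pPrimeCore p C' = ⊥ := by
    rw [← Subgroup.map_eq_bot_iff_of_injective _ C'.subtype_injective, ← le_bot_iff,
      ← Cfsg.Agent.Thompson.pPrimeCore_quotient_pPrimeCore (p := p) (G := G)]
    exact Cfsg.Agent.Thompson.map_pPrimeCore_normal_le C'
  have hcrit : Subgroup.centralizer (pCore p C' : Set C') ≤ pCore p C' := by
    refine (isPConstrained_iff_of_pPrimeCore_eq_bot hbot).mp
      (isPConstrained_of_surjective e.symm.toMonoidHom e.symm.surjective ?_
        Cfsg.Agent.Thompson.pPrimeCore_quotient_pPrimeCore (isPConstrained_iff.mp h))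
    rw [(MonoidHom.ker_eq_bot_iff _).mpr e.symm.injective, Subgroup.card_bot]
    exact Nat.coprime_one_left p
  intro x hx
  have hxC : x ∈ C' := by
    rw [hC', hC, map_centralizer_eq K T Cfsg.Agent.Thompson.card_pPrimeCore_coprime hT]
    refine Subgroup.centralizer_le ?_ hx
    rintro _ ⟨t, ht, rfl⟩
    exact Cfsg.Agent.Thompson.map_pCore_le_of_surjective _ (QuotientGroup.mk'_surjective K)
      ⟨t, Cfsg.Agent.Thompson.le_pCore inferInstance hT ht, rfl⟩
  have hle := Cfsg.Agent.Thompson.map_pCore_normal_le (p := p) C'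
  have : (⟨x, hxC⟩ : C') ∈ pCore p C' := hcrit (Subgroup.mem_centralizer_iff.mpr fun y hy =>
    Subtype.ext (Subgroup.mem_centralizer_iff.mp hx _ (hle ⟨y, hy, rfl⟩)))
  exact hle ⟨_, this, rfl⟩

theorem isPConstrained_of_equiv {H H' : Type*} [Group H] [Group H'] [Finite H] [Finite H']
    (e : H ≃* H') (h : IsPConstrained p H) : IsPConstrained p H' := by
  refine isPConstrained_of_surjective ((QuotientGroup.mk' (pPrimeCore p H)).comp e.symm.toMonoidHom)
    ((QuotientGroup.mk'_surjective _).comp e.symm.surjective) ?_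
    Cfsg.Agent.Thompson.pPrimeCore_quotient_pPrimeCore (isPConstrained_iff.mp h)
  refine Nat.Coprime.of_dvd_left ?_ (Cfsg.Agent.Thompson.card_pPrimeCore_coprime (p := p) (G := H))
  rw [← MonoidHom.comap_ker, QuotientGroup.ker_mk']
  exact Subgroup.card_comap_dvd_of_injective _ _ e.symm.injective

theorem isPConstrained_local {G : Type*} [Group G] [Finite G]
    (h : (∀ M : Subgroup G, (∃ T : Subgroup G, IsPGroup p ↥T ∧ T ≠ ⊥ ∧ M = Subgroup.normalizer (T : Set G)) → M ≠ ⊤ →
        (∀ M' : Subgroup G, (∃ T' : Subgroup G, IsPGroup p ↥T' ∧ T' ≠ ⊥ ∧ M' = Subgroup.normalizer (T' : Set G)) → M' ≠ ⊤ → M ≤ M' → M = M') →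
        IsPConstrained p ↥M) ∨
      (∀ x : G, orderOf x = p → IsPConstrained p ↥(Subgroup.centralizer ({x} : Set G))))
    (T : Subgroup G) (hT : IsPGroup p ↥T) (hT1 : T ≠ ⊥) (hTG : Subgroup.normalizer (T : Set G) ≠ ⊤) :
    IsPConstrained p ↥(Subgroup.normalizer (T : Set G)) := by
  have key : ∀ (M : Subgroup G), IsPConstrained p M → Subgroup.normalizer (T : Set G) ≤ M →
      IsPConstrained p ↥(Subgroup.normalizer (T : Set G)) := by
    intro M hM hle
    have hTM : T ≤ M := Subgroup.le_normalizer.trans hle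
    have e : Subgroup.normalizer ((T.subgroupOf M : Subgroup M) : Set M) =
        (Subgroup.normalizer (T : Set G)).subgroupOf M := by
      ext ⟨x, hx⟩
      rw [Subgroup.mem_subgroupOf, Subgroup.mem_normalizer_iff, Subgroup.mem_normalizer_iff]
      refine ⟨fun hn y => ?_, fun hn y => hn y⟩
      by_cases hy : y ∈ M
      · exact hn ⟨y, hy⟩
      · refine ⟨fun h => absurd (hTM h) hy, fun h => absurd ?_ hy⟩
        have h2 : x⁻¹ * (x * y * x⁻¹) * x ∈ M := M.mul_mem (M.mul_mem (M.inv_mem hx) (hTM h)) hx
        simpa [mul_assoc] using h2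
    have := (local_facts hM (T.subgroupOf M) _ hT.comap_subtype
      (Subgroup.centralizer_le_normalizer _) le_rfl (by rw [Subgroup.subgroupOf_self]; infer_instance)).2
    rw [e] at this
    exact isPConstrained_of_equiv (Subgroup.subgroupOfEquivOfLe hle) this
  rcases h with h | h
  · obtain ⟨M, ⟨hML, hMne, hTM⟩, hmax⟩ := Set.exists_max_image
      {M : Subgroup G | (∃ T' : Subgroup G, IsPGroup p ↥T' ∧ T' ≠ ⊥ ∧ M = Subgroup.normalizer (T' : Set G)) ∧
        M ≠ ⊤ ∧ Subgroup.normalizer (T : Set G) ≤ M}
      (fun M => Nat.card M) (Set.toFinite _) ⟨_, ⟨T, hT, hT1, rfl⟩, hTG, le_rfl⟩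
    refine key M (h M hML hMne fun M' hM' hM'ne hle => ?_) hTM
    exact Subgroup.eq_of_le_of_card_ge hle (hmax M' ⟨hM', hM'ne, hTM.trans hle⟩)
  · haveI : Nontrivial T := (Subgroup.nontrivial_iff_ne_bot T).mpr hT1
    obtain ⟨x, hx⟩ := exists_prime_orderOf_dvd_card' (G := Subgroup.center T) p
      ((hT.to_subgroup _).card_eq_or_dvd.resolve_left fun h1 =>
        hT.bot_lt_center.ne' (Subgroup.eq_bot_of_card_eq _ h1))
    have hx' : orderOf ((x : T) : G) = p := by rw [Subgroup.orderOf_coe, Subgroup.orderOf_coe, hx]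
    have hTC : T ≤ Subgroup.centralizer ({((x : T) : G)} : Set G) := fun t ht =>
      Subgroup.mem_centralizer_singleton_iff.mpr
        (congrArg Subtype.val (Subgroup.mem_center_iff.mp x.2 ⟨t, ht⟩))
    set Cx := Subgroup.centralizer ({((x : T) : G)} : Set G)
    have hCC : Subgroup.centralizer (T : Set G) ≤ Cx :=
      Subgroup.centralizer_le (Set.singleton_subset_iff.mpr (x : T).2)
    have h1 := (local_facts (h _ hx') (T.subgroupOf Cx) _ hT.comap_subtype le_rfl
      (Subgroup.centralizer_le_normalizer _)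
      (by rw [← centralizer_subgroupOf _ _ Subgroup.le_normalizer]; infer_instance)).2
    rw [centralizer_subgroupOf T Cx hTC] at h1
    have h2 : IsPConstrained p (Subgroup.centralizer (T : Set G)) :=
      isPConstrained_of_equiv (Subgroup.subgroupOfEquivOfLe hCC) h1
    haveI : (T.subgroupOf (Subgroup.normalizer (T : Set G))).Normal := Subgroup.normal_in_normalizer
    refine isPConstrained_of_centralizer_normal (T.subgroupOf (Subgroup.normalizer (T : Set G)))
      hT.comap_subtype ?_
    rw [centralizer_subgroupOf T _ Subgroup.le_normalizer]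
    exact isPConstrained_of_equiv
      (Subgroup.subgroupOfEquivOfLe (Subgroup.centralizer_le_normalizer (T : Set G))).symm h2

end Cfsg.Agent.PLocalB
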