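import Cfsg.Agent.PLocalB.Uniserial

/-!
Normal subgroups of `p`-groups of maximal class.
-/

set_option autoImplicit false
set_option linter.style.haveILetI false

namespace Cfsg.Agent.PLocalB

variable {G : Type*} [Group G] [Finite G] {p : ℕ} [Fact p.Prime]

theorem lowerCentralSeries_succ_lt (hG : IsPGroup p G) (k : ℕ)
    (h : (⊤ : Subgroup G).lowerCentralSeries k ≠ ⊥) :
    (⊤ : Subgroup G).lowerCentralSeries (k + 1) < (⊤ : Subgroup G).lowerCentralSeries k := by
  rw [Subgroup.lowerCentralSeries_succ]
  exact commutator_lt_of_ne_bot _ ⊤ (hG.to_subgroup _) (hG.to_subgroup ⊤)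
    (by rw [Subgroup.normalizer_eq_top ((⊤ : Subgroup G).lowerCentralSeries k)]) h

theorem frattini_index_ge_sq (hG : IsPGroup p G) (hnc : ¬ IsCyclic G) :
    p ^ 2 ≤ (frattini G).index := by
  obtain ⟨a, ha⟩ := IsPGroup.iff_card.mp hG
  obtain ⟨b, -, hb⟩ := (Nat.dvd_prime_pow Fact.out).mp (ha ▸ (frattini G).index_dvd_card)
  rw [hb]
  rcases Nat.lt_or_ge b 2 with h | h
  · refine absurd (Cfsg.Agent.PGroup.isCyclic_of_index_frattini_le hG ?_) hnc
    rw [hb]
    interval_cases b
    · simpa using (Fact.out : p.Prime).one_lt.le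
    · simp
  · exact Nat.pow_le_pow_right (Fact.out : p.Prime).pos h

/-- In a `p`-group the index of the `k`-th term of the lower central series is at least `p^(k+1)`
as long as the term is nontrivial. -/
theorem index_lowerCentralSeries_ge (hG : IsPGroup p G) (k : ℕ) (hk : 1 ≤ k)
    (hne : (⊤ : Subgroup G).lowerCentralSeries k ≠ ⊥) :
    p ^ (k + 1) ≤ ((⊤ : Subgroup G).lowerCentralSeries k).index := by
  induction k, hk using Nat.le_induction with
  | base =>
    have hle : (⊤ : Subgroup G).lowerCentralSeries 1 ≤ frattini G := by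
      rw [Subgroup.lowerCentralSeries_one]
      exact Cfsg.Agent.PGroup.commutator_le_frattini hG
    refine le_trans (frattini_index_ge_sq hG fun hc => hne ?_)
      (Nat.le_of_dvd (Nat.pos_of_ne_zero Subgroup.index_ne_zero_of_finite) (Subgroup.index_dvd_of_le hle))
    haveI := hc
    letI := IsCyclic.commGroup (α := G)
    rw [Subgroup.lowerCentralSeries_one, eq_bot_iff]
    change ⁅(⊤ : Subgroup G), ⊤⁆ ≤ ⊥
    rw [Subgroup.commutator_le]
    intro x _ y _
    rw [Subgroup.mem_bot, commutatorElement_eq_one_iff_mul_comm]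
    exact mul_comm x y
  | succ k hk ih =>
    have hne' : (⊤ : Subgroup G).lowerCentralSeries k ≠ ⊥ := fun h => hne (by
      rw [Subgroup.lowerCentralSeries_succ, h]
      exact Subgroup.commutator_bot_left _)
    have h1 := card_mul_le_of_lt (hG.to_subgroup _) (lowerCentralSeries_succ_lt hG k hne')
    have h2 := Subgroup.card_mul_index ((⊤ : Subgroup G).lowerCentralSeries (k + 1))
    have h3 := Subgroup.card_mul_index ((⊤ : Subgroup G).lowerCentralSeries k)
    rw [pow_succ']
    refine le_trans (Nat.mul_le_mul_left p (ih hne')) ?_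
    refine Nat.le_of_mul_le_mul_left ?_
      (Nat.card_pos (α := (⊤ : Subgroup G).lowerCentralSeries (k + 1)))
    calc _ = (p * Nat.card ((⊤ : Subgroup G).lowerCentralSeries (k + 1))) *
          ((⊤ : Subgroup G).lowerCentralSeries k).index := by ring
      _ ≤ Nat.card ((⊤ : Subgroup G).lowerCentralSeries k) *
          ((⊤ : Subgroup G).lowerCentralSeries k).index := Nat.mul_le_mul_right _ h1
      _ = _ := by rw [h3, h2]

/-- Subgroups of order `p` in an elementary group of order `p^2`. -/
theorem card_subgroups_of_order_prime {E : Type*} [Group E] [Finite E] (hE : ∀ e : E, e ^ p = 1)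
    (hc : Nat.card E = p ^ 2) : Nat.card {L : Subgroup E // Nat.card L = p} = p + 1 := by
  classical
  have hp := (Fact.out : p.Prime)
  haveI := Fintype.ofFinite E
  haveI := Fintype.ofFinite {L : Subgroup E // Nat.card L = p}
  let f : {x : E // x ≠ 1} → {L : Subgroup E // Nat.card L = p} := fun x =>
    ⟨Subgroup.zpowers x.1, by rw [Nat.card_zpowers, orderOf_eq_prime (hE x.1) x.2]⟩
  have hfib : ∀ L : {L : Subgroup E // Nat.card L = p}, Nat.card {x // f x = L} = p - 1 := by
    rintro ⟨L, hL⟩
    have e : {x // f x = ⟨L, hL⟩} ≃ {x : L // x ≠ 1} :=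
      { toFun := fun x => ⟨⟨x.1.1, by
            have h : Subgroup.zpowers x.1.1 = L := congrArg Subtype.val x.2
            exact h.le (Subgroup.mem_zpowers x.1.1)⟩,
          fun h => x.1.2 (congrArg Subtype.val h)⟩
        invFun := fun x => ⟨⟨x.1.1, fun h => x.2 (Subtype.ext h)⟩, Subtype.ext (by
          refine Subgroup.eq_of_le_of_card_ge (Subgroup.zpowers_le.mpr x.1.2) ?_
          change Nat.card L ≤ Nat.card (Subgroup.zpowers (x.1 : E))
          rw [Nat.card_zpowers, orderOf_eq_prime (hE x.1.1) fun h => x.2 (Subtype.ext h), hL])⟩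
        left_inv := fun _ => rfl
        right_inv := fun _ => rfl }
    haveI := Fintype.ofFinite L
    rw [Nat.card_congr e, Nat.card_eq_fintype_card, Fintype.card_subtype_compl,
      ← Nat.card_eq_fintype_card, hL, Fintype.card_subtype_eq]
  have htot : Nat.card {x : E // x ≠ 1} = p ^ 2 - 1 := by
    rw [Nat.card_eq_fintype_card, Fintype.card_subtype_compl, ← Nat.card_eq_fintype_card, hc,
      Fintype.card_subtype_eq]
  rw [← Nat.card_congr (Equiv.sigmaFiberEquiv f), Nat.card_sigma] at htot
  simp only [hfib, Finset.sum_const, Finset.card_univ, smul_eq_mul] at htot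
  rw [← Nat.card_eq_fintype_card] at htot
  refine Nat.eq_of_mul_eq_mul_right (show 0 < p - 1 by have := hp.two_le; omega) ?_
  rw [htot]
  simpa using Nat.sq_sub_sq p 1

theorem maximal_class_main (n : ℕ) (hG : Nat.card G = p ^ n)
    (hcl : Group.nilpotencyClass G = n - 1) (hn : 3 ≤ n) :
    (∀ (N : Subgroup G) [N.Normal] (r : ℕ), 2 ≤ r → N.index = p ^ r →
      N = (⊤ : Subgroup G).lowerCentralSeries (r - 1)) ∧
    Nat.card {N : Subgroup G // N.Normal ∧ N.index = p} = p + 1 := by
  have hp := (Fact.out : p.Prime)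
  have hpG : IsPGroup p G := IsPGroup.of_card hG
  haveI : Group.IsNilpotent G := hpG.isNilpotent
  set Γ := (⊤ : Subgroup G).lowerCentralSeries with hΓ
  have hbot : Γ (n - 1) = ⊥ := by
    rw [hΓ, ← hcl]; exact Subgroup.lowerCentralSeries_nilpotencyClass
  have hne : ∀ k < n - 1, Γ k ≠ ⊥ := by
    intro k hk h
    have := Subgroup.lowerCentralSeries_eq_bot_iff_nilpotencyClass_le.mp h
    omega
  have hindex : ∀ k, 1 ≤ k → k ≤ n - 1 → (Γ k).index = p ^ (k + 1) := by
    have hlow : ∀ j k, k + j = n - 1 → p ^ j ≤ Nat.card (Γ k) := by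
      intro j
      induction j with
      | zero => intro k _; simpa using (Nat.one_le_iff_ne_zero.mpr Nat.card_pos.ne')
      | succ j ih =>
        intro k hk
        rw [pow_succ']
        exact (Nat.mul_le_mul_left p (ih (k + 1) (by omega))).trans
          (card_mul_le_of_lt (hpG.to_subgroup _) (lowerCentralSeries_succ_lt hpG k (hne k (by omega))))
    intro k hk1 hk2
    rcases Nat.lt_or_ge k (n - 1) with h | h
    · refine le_antisymm ?_ (index_lowerCentralSeries_ge hpG k hk1 (hne k h))
      have h1 := Subgroup.card_mul_index (Γ k)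
      rw [hG, show n = (n - 1 - k) + (k + 1) by omega, pow_add] at h1
      by_contra hcon
      push Not at hcon
      have := Nat.mul_lt_mul_of_le_of_lt (hlow (n - 1 - k) k (by omega)) hcon Nat.card_pos
      omega
    · obtain rfl : k = n - 1 := by omega
      rw [hbot, Subgroup.index_bot, hG, show n - 1 + 1 = n by omega]
  constructor
  · intro N _ r hr hN
    have hrn : r ≤ n := by
      have h1 : p ^ r ∣ p ^ n := hN ▸ hG ▸ N.index_dvd_card
      exact (Nat.pow_dvd_pow_iff_le_right hp.one_lt).mp h1
    have hle : Γ (r - 1) ≤ N := by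
      by_contra h
      have hmap : (Γ (r - 1)).map (QuotientGroup.mk' N) =
          (⊤ : Subgroup (G ⧸ N)).lowerCentralSeries (r - 1) := by
        rw [hΓ, Subgroup.map_lowerCentralSeries,
          Subgroup.map_top_of_surjective _ (QuotientGroup.mk'_surjective N)]
      have hneq : (⊤ : Subgroup (G ⧸ N)).lowerCentralSeries (r - 1) ≠ ⊥ := by
        rw [← hmap, Ne, Subgroup.map_eq_bot_iff, QuotientGroup.ker_mk']
        exact h
      have h1 := index_lowerCentralSeries_ge (hpG.to_quotient N) (r - 1) (by omega) hneq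
      have h2 := Subgroup.card_mul_index ((⊤ : Subgroup (G ⧸ N)).lowerCentralSeries (r - 1))
      rw [← Subgroup.index_eq_card, hN] at h2
      rw [show r - 1 + 1 = r by omega] at h1
      refine hneq (Subgroup.eq_bot_of_card_eq _ ?_)
      by_contra hc
      have h3 : 2 ≤ Nat.card ((⊤ : Subgroup (G ⧸ N)).lowerCentralSeries (r - 1)) := by
        have := Nat.card_pos (α := (⊤ : Subgroup (G ⧸ N)).lowerCentralSeries (r - 1))
        omega
      have := Nat.mul_le_mul h3 h1
      have := Nat.pos_of_ne_zero (pow_ne_zero r hp.ne_zero)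
      omega
    refine (Subgroup.eq_of_le_of_card_ge hle (le_of_eq ?_)).symm
    have h1 := Subgroup.card_mul_index (Γ (r - 1))
    have h2 := Subgroup.card_mul_index N
    rw [hindex (r - 1) (by omega) (by omega), show r - 1 + 1 = r by omega] at h1
    rw [hN] at h2
    exact Nat.eq_of_mul_eq_mul_right (pow_pos hp.pos r) (h2.trans h1.symm)
  · have hnc : ¬ IsCyclic G := by
      intro hc
      apply hne 1 (by omega)
      haveI := hc
      letI := IsCyclic.commGroup (α := G)
      rw [hΓ, Subgroup.lowerCentralSeries_one, eq_bot_iff]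
      change ⁅(⊤ : Subgroup G), ⊤⁆ ≤ ⊥
      rw [Subgroup.commutator_le]
      intro x _ y _
      rw [Subgroup.mem_bot, commutatorElement_eq_one_iff_mul_comm]
      exact mul_comm x y
    set Φ := frattini G with hΦ
    have hΦi : Φ.index = p ^ 2 := by
      refine le_antisymm ?_ (frattini_index_ge_sq hpG hnc)
      have h1 := hindex 1 le_rfl (by omega)
      have hle : Γ 1 ≤ Φ := by
        rw [hΓ, Subgroup.lowerCentralSeries_one]
        exact Cfsg.Agent.PGroup.commutator_le_frattini hpG
      calc Φ.index ≤ (Γ 1).index := Nat.le_of_dvd (Nat.pos_of_ne_zero Subgroup.index_ne_zero_of_finite)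
            (Subgroup.index_dvd_of_le hle)
        _ = p ^ 2 := h1
    rw [← card_subgroups_of_order_prime (Cfsg.Agent.PGroup.quotient_frattini_pow hpG)
      (by rw [← Subgroup.index_eq_card]; exact hΦi)]
    have hle : ∀ N : Subgroup G, N.index = p → Φ ≤ N := fun N hN =>
      frattini_le_coatom ((Cfsg.Agent.PGroup.isCoatom_iff_index_eq_prime hpG).mpr hN)
    refine Nat.card_congr
      { toFun := fun N => ⟨N.1.map (QuotientGroup.mk' Φ), ?_⟩
        invFun := fun L => ⟨L.1.comap (QuotientGroup.mk' Φ), ?_⟩
        left_inv := fun N => Subtype.ext (by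
          change (N.1.map _).comap _ = N.1
          rw [Subgroup.comap_map_eq, QuotientGroup.ker_mk', sup_of_le_left (hle N.1 N.2.2)])
        right_inv := fun L => Subtype.ext
          (Subgroup.map_comap_eq_self_of_surjective (QuotientGroup.mk'_surjective Φ) L.1) }
    · have h1 := Subgroup.card_mul_index (N.1.map (QuotientGroup.mk' Φ))
      rw [Subgroup.index_map_eq _ (QuotientGroup.mk'_surjective Φ)
        (by rw [QuotientGroup.ker_mk']; exact hle N.1 N.2.2), N.2.2, ← Subgroup.index_eq_card, hΦi,
        sq] at h1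
      exact Nat.eq_of_mul_eq_mul_right hp.pos h1
    · have hi : (L.1.comap (QuotientGroup.mk' Φ)).index = p := by
        rw [Subgroup.index_comap_of_surjective _ (QuotientGroup.mk'_surjective Φ)]
        have h1 := Subgroup.card_mul_index L.1
        rw [L.2, ← Subgroup.index_eq_card, hΦi, sq] at h1
        exact Nat.eq_of_mul_eq_mul_left hp.pos h1
      exact ⟨Cfsg.Agent.PGroup.normal_of_index_eq_prime hpG hi, hi⟩

end Cfsg.Agent.PLocalB
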