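import Cfsg.Agent.Lib.Coprime.Action
import Cfsg.Agent.Lib.PGroup.Basic
import Cfsg.Prelude.Def_PLocal

/-!
Uniserial actions of `p`-groups on `p`-groups.
-/

set_option autoImplicit false
set_option linter.style.haveILetI false

namespace Cfsg.Agent.PLocalB

variable {L : Type*} [Group L] [Finite L] {p : ℕ} [Fact p.Prime]

/-- `I = [I, G] M` with `M` invariant forces `I = M`. -/
theorem le_of_le_commutator_sup (I M G : Subgroup L) (hI : IsPGroup p I) (hG : IsPGroup p G)
    (hGI : G ≤ Subgroup.normalizer (I : Set L)) (hMI : M ≤ I)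
    (hIM : I ≤ Subgroup.normalizer (M : Set L)) (hGM : G ≤ Subgroup.normalizer (M : Set L))
    (h : I ≤ ⁅I, G⁆ ⊔ M) : I ≤ M := by
  set W := Subgroup.normalizer (M : Set L) with hW
  let q := QuotientGroup.mk' (M.subgroupOf W)
  set I' := (I.subgroupOf W).map q with hI'
  set G' := (G.subgroupOf W).map q with hG'
  have hMW : M ≤ W := Subgroup.le_normalizer
  have hP : IsPGroup p (I' ⊔ G' : Subgroup _) := by
    have h1 : IsPGroup p I' := (hI.comap_subtype).map q
    have h2 : IsPGroup p G' := (hG.comap_subtype).map q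
    refine IsPGroup.to_sup_of_normal_left' h1 h2 ?_
    rintro _ ⟨g, hg, rfl⟩
    refine Subgroup.le_normalizer_map q ⟨g, ?_, rfl⟩
    rw [SetLike.mem_coe, Subgroup.mem_normalizer_iff]
    exact fun x => Subgroup.mem_normalizer_iff.mp (hGI hg) x
  have hbot : I' = ⊥ := by
    refine Cfsg.Agent.Coprime.eq_bot_of_le_commutator _ hP.isNilpotent le_sup_left ?_
    refine le_trans ?_ (Subgroup.commutator_mono le_rfl le_sup_right)
    rintro _ ⟨x, hx, rfl⟩
    have hle : I.subgroupOf W ≤ ⁅I.subgroupOf W, G.subgroupOf W⁆ ⊔ M.subgroupOf W := by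
      rw [← Subgroup.map_le_map_iff_of_injective W.subtype_injective, Subgroup.map_sup,
        Subgroup.map_commutator, Subgroup.map_subgroupOf_eq_of_le hIM,
        Subgroup.map_subgroupOf_eq_of_le hGM, Subgroup.map_subgroupOf_eq_of_le hMW]
      exact h
    have hx' := Subgroup.mem_map_of_mem q (hle hx)
    rwa [Subgroup.map_sup, Subgroup.map_commutator, QuotientGroup.map_mk'_self, sup_bot_eq] at hx'
  intro x hx
  rw [hI', Subgroup.map_eq_bot_iff, QuotientGroup.ker_mk'] at hbot
  exact hbot (show (⟨x, hIM hx⟩ : W) ∈ I.subgroupOf W from hx)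

theorem commutator_lt_of_ne_bot (H G : Subgroup L) (hH : IsPGroup p H) (hG : IsPGroup p G)
    (hGH : G ≤ Subgroup.normalizer (H : Set L)) (hne : H ≠ ⊥) : ⁅H, G⁆ < H := by
  refine lt_of_le_of_ne (Cfsg.Agent.Coprime.commutator_le_of_le_normalizer hGH) fun heq => hne ?_
  refine le_bot_iff.mp (le_of_le_commutator_sup H ⊥ G hH hG hGH bot_le ?_ ?_ ?_)
  · rw [Subgroup.normalizer_eq_top ⊥]; exact le_top
  · rw [Subgroup.normalizer_eq_top ⊥]; exact le_top
  · rw [heq, sup_bot_eq]

theorem card_mul_le_of_lt {H K : Subgroup L} (hK : IsPGroup p K) (h : H < K) :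
    p * Nat.card H ≤ Nat.card K := by
  obtain ⟨b, hb⟩ := IsPGroup.iff_card.mp hK
  obtain ⟨a, ha⟩ := IsPGroup.iff_card.mp (hK.to_le h.le)
  have hlt : Nat.card H < Nat.card K :=
    lt_of_not_ge fun hge => h.ne (Subgroup.eq_of_le_of_card_ge h.le hge)
  rw [ha, hb] at hlt ⊢
  rw [← pow_succ']
  exact Nat.pow_le_pow_right (Fact.out : p.Prime).pos
    ((Nat.pow_lt_pow_iff_right (Fact.out : p.Prime).one_lt).mp hlt)

theorem iterCommutator_props (N G : Subgroup L) (hGN : G ≤ Subgroup.normalizer (N : Set L)) (i : ℕ) :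
    iterCommutator N G i ≤ N ∧ G ≤ Subgroup.normalizer (iterCommutator N G i : Set L) := by
  induction i with
  | zero => exact ⟨le_rfl, hGN⟩
  | succ i ih =>
    exact ⟨(Cfsg.Agent.Coprime.commutator_le_of_le_normalizer ih.2).trans ih.1,
      Cfsg.Agent.Coprime.le_normalizer_commutator_right _ _⟩

theorem uniserial_main (N G : Subgroup L) (hN : IsPGroup p N) (hG : IsPGroup p G)
    (hGN : G ≤ Subgroup.normalizer (N : Set L)) (n : ℕ) (hn : Nat.card N = p ^ n) :
    ((∀ H : Subgroup L, H ≤ N → G ≤ Subgroup.normalizer (H : Set L) → H ≠ ⊥ →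
        (⁅H, G⁆).relIndex H = p) ↔ iterCommutator N G (n - 1) ≠ ⊥ ∨ n = 0) ∧
    ((∀ H : Subgroup L, H ≤ N → G ≤ Subgroup.normalizer (H : Set L) → H ≠ ⊥ →
        (⁅H, G⁆).relIndex H = p) →
      ∀ H : Subgroup L, H ≤ N → G ≤ Subgroup.normalizer (H : Set L) →
        (∃ i ≤ n, H = iterCommutator N G i) ∧ N ≤ Subgroup.normalizer (H : Set L)) := by
  have hp := (Fact.out : p.Prime)
  have hprops := iterCommutator_props N G hGN
  have hlt : ∀ i, iterCommutator N G i ≠ ⊥ → iterCommutator N G (i + 1) < iterCommutator N G i :=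
    fun i hi => commutator_lt_of_ne_bot _ G (hN.to_le (hprops i).1) hG (hprops i).2 hi
  have hanti : Antitone (iterCommutator N G) :=
    antitone_nat_of_succ_le fun i => Cfsg.Agent.Coprime.commutator_le_of_le_normalizer (hprops i).2
  -- cardinalities of the chain
  set U : Prop := ∀ H : Subgroup L, H ≤ N → G ≤ Subgroup.normalizer (H : Set L) → H ≠ ⊥ →
        (⁅H, G⁆).relIndex H = p with hU
  have hcardU : U → ∀ i ≤ n, Nat.card (iterCommutator N G i) = p ^ (n - i) := by
    intro hu i hi
    induction i with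
    | zero => simpa [iterCommutator] using hn
    | succ i ih =>
      have h1 := ih (by omega)
      have hne : iterCommutator N G i ≠ ⊥ := by
        intro h
        rw [h, Subgroup.card_bot] at h1
        have := Nat.one_lt_pow (show n - i ≠ 0 by omega) hp.one_lt
        omega
      have h2 := hu _ (hprops i).1 (hprops i).2 hne
      have h3 := Subgroup.relIndex_mul_relIndex ⊥ (iterCommutator N G (i + 1)) (iterCommutator N G i)
        bot_le (hlt i hne).le
      rw [Subgroup.relIndex_bot_left, Subgroup.relIndex_bot_left,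
        show (iterCommutator N G (i + 1)).relIndex (iterCommutator N G i) = p from h2, h1,
        show n - i = n - (i + 1) + 1 by omega, pow_succ] at h3
      exact Nat.eq_of_mul_eq_mul_right hp.pos h3
  have hback : iterCommutator N G (n - 1) ≠ ⊥ ∨ n = 0 →
      ∀ i ≤ n, Nat.card (iterCommutator N G i) = p ^ (n - i) := by
    rintro (hne | rfl) i hi
    swap
    · obtain rfl : i = 0 := by omega
      simpa [iterCommutator] using hn
    have hneb : ∀ j ≤ n - 1, iterCommutator N G j ≠ ⊥ := fun j hj h =>
      hne (le_bot_iff.mp (h ▸ hanti hj))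
    have hup : ∀ j ≤ n, p ^ j * Nat.card (iterCommutator N G j) ≤ p ^ n := by
      intro j hj
      induction j with
      | zero => simp [iterCommutator, hn]
      | succ j ih =>
        have h1 := card_mul_le_of_lt (hN.to_le (hprops j).1) (hlt j (hneb j (by omega)))
        calc p ^ (j + 1) * Nat.card (iterCommutator N G (j + 1))
            = p ^ j * (p * Nat.card (iterCommutator N G (j + 1))) := by ring
          _ ≤ p ^ j * Nat.card (iterCommutator N G j) := Nat.mul_le_mul_left _ h1
          _ ≤ p ^ n := ih (by omega)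
    have hdown : ∀ k j, j + k = n → p ^ k ≤ Nat.card (iterCommutator N G j) := by
      intro k
      induction k with
      | zero => intro j _; simpa using (Nat.one_le_iff_ne_zero.mpr Nat.card_pos.ne')
      | succ k ih =>
        intro j hj
        have h1 := card_mul_le_of_lt (hN.to_le (hprops j).1) (hlt j (hneb j (by omega)))
        rw [pow_succ']
        exact (Nat.mul_le_mul_left p (ih (j + 1) (by omega))).trans h1
    have h1 := hup i hi
    have h2 := hdown (n - i) i (by omega)
    refine le_antisymm ?_ h2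
    rw [show p ^ n = p ^ i * p ^ (n - i) by rw [← pow_add, Nat.add_sub_cancel' hi]] at h1
    exact Nat.le_of_mul_le_mul_left h1 (pow_pos hp.pos i)
  have hchain : (∀ i ≤ n, Nat.card (iterCommutator N G i) = p ^ (n - i)) →
      ∀ H : Subgroup L, H ≤ N → G ≤ Subgroup.normalizer (H : Set L) →
        ∃ i ≤ n, H = iterCommutator N G i := by
    intro hc H hHN hHG
    classical
    have hex : ∃ i, i ≤ n ∧ ¬ (H ≤ iterCommutator N G (i + 1)) ∨ i = n :=
      ⟨n, Or.inr rfl⟩
    set i := Nat.find hex with hi
    have hin : i ≤ n := by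
      rcases Nat.find_spec hex with h | h
      · exact h.1
      · exact le_of_eq h
    have hHi : H ≤ iterCommutator N G i := by
      rcases Nat.eq_zero_or_pos i with h | h
      · rw [h]; exact hHN
      · have := Nat.find_min hex (show i - 1 < i by omega)
        push Not at this
        rw [show i - 1 + 1 = i by omega] at this
        exact this.1 (by omega)
    refine ⟨i, hin, ?_⟩
    set I := iterCommutator N G i with hIdef
    rcases Nat.lt_or_ge i n with hin' | hin'
    swap
    · have h0 : I = ⊥ := by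
        apply Subgroup.eq_bot_of_card_eq
        rw [hc i hin, show n - i = 0 by omega, pow_zero]
      rw [h0] at hHi ⊢
      exact le_bot_iff.mp hHi
    have hnot : ¬ H ≤ iterCommutator N G (i + 1) := by
      rcases Nat.find_spec hex with h | h
      · exact h.2
      · omega
    by_contra hne
    have hHI : H < I := lt_of_le_of_ne hHi hne
    -- a maximal invariant proper subgroup over `H`
    obtain ⟨M, ⟨hHM, hMI, hMG⟩, hmax⟩ := Set.exists_max_image
      {M : Subgroup L | H ≤ M ∧ M < I ∧ G ≤ Subgroup.normalizer (M : Set L)} (fun M => Nat.card M)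
      (Set.toFinite _) ⟨H, le_rfl, hHI, hHG⟩
    have hIp : IsPGroup p I := hN.to_le (hprops i).1
    have hIM : I ≤ Subgroup.normalizer (M : Set L) := by
      set M₂ := I ⊓ Subgroup.normalizer (M : Set L) with hM₂
      have hlt2 : M < M₂ := by
        refine lt_of_le_of_ne (le_inf hMI.le Subgroup.le_normalizer) fun heq => ?_
        have htop : M.subgroupOf I ≠ ⊤ := by
          rw [Ne, Subgroup.subgroupOf_eq_top]; exact hMI.not_ge
        obtain ⟨x, hx, hxM⟩ := SetLike.exists_of_lt (Cfsg.Agent.PGroup.lt_normalizer hIp htop)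
        apply hxM
        rw [Subgroup.mem_subgroupOf, heq]
        refine ⟨x.2, Cfsg.Agent.Coprime.mem_normalizer_of_le_iff
          (fun y hy => (Subgroup.mem_normalizer_iff.mp hx ⟨y, hMI.le hy⟩).mp hy)
          (fun y hy => (Subgroup.mem_normalizer_iff''.mp hx ⟨y, hMI.le hy⟩).mp hy)⟩
      have hG2 : G ≤ Subgroup.normalizer (M₂ : Set L) :=
        Cfsg.Agent.Coprime.le_normalizer_inf (hprops i).2
          (Cfsg.Agent.Coprime.le_normalizer_normalizer hMG)
      by_contra hcon
      have hM₂I : M₂ < I := lt_of_le_of_ne inf_le_left fun he => hcon (he ▸ inf_le_right)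
      have := hmax M₂ ⟨hHM.trans hlt2.le, hM₂I, hG2⟩
      exact hlt2.ne (Subgroup.eq_of_le_of_card_ge hlt2.le this)
    set C := iterCommutator N G (i + 1) with hC
    have hCI : C ≤ I := hanti (Nat.le_succ i)
    have hCM : C ≤ Subgroup.normalizer (M : Set L) := hCI.trans hIM
    by_cases hCle : C ≤ M
    · have h1 := card_mul_le_of_lt hIp hMI
      rw [hc i hin, show n - i = n - (i + 1) + 1 by omega, pow_succ', ← hc (i + 1) (by omega)] at h1
      have h2 := Subgroup.eq_of_le_of_card_ge hCle (Nat.le_of_mul_le_mul_left h1 hp.pos)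
      exact hnot (h2 ▸ hHM)
    · have hlt3 : C ⊔ M < I := by
        refine lt_of_le_of_ne (sup_le hCI hMI.le) fun heq => hMI.not_ge ?_
        exact le_of_le_commutator_sup I M G hIp hG (hprops i).2 hMI.le hIM hMG heq.ge
      have hG3 : G ≤ Subgroup.normalizer ((C ⊔ M : Subgroup L) : Set L) :=
        Cfsg.Agent.Coprime.le_normalizer_sup (hprops (i + 1)).2 hMG
      have := hmax _ ⟨hHM.trans le_sup_right, hlt3, hG3⟩
      exact hCle (le_sup_left.trans (Subgroup.eq_of_le_of_card_ge le_sup_right this).ge)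
  refine ⟨⟨fun hu => ?_, fun hu H hHN hHG hne => ?_⟩, fun hu H hHN hHG => ⟨hchain (hcardU hu) H hHN hHG, ?_⟩⟩
  · rcases Nat.eq_zero_or_pos n with h | h
    · exact Or.inr h
    · left
      intro hb
      have h1 := hcardU hu (n - 1) (by omega)
      rw [hb, Subgroup.card_bot, show n - (n - 1) = 1 by omega, pow_one] at h1
      exact hp.one_lt.ne h1
  · obtain ⟨i, hi, rfl⟩ := hchain (hback hu) H hHN hHG
    have hilt : i < n := by
      by_contra h
      exact hne (Subgroup.eq_bot_of_card_eq _ (by rw [hback hu i hi, show n - i = 0 by omega, pow_zero]))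
    have h3 := Subgroup.relIndex_mul_relIndex ⊥ (iterCommutator N G (i + 1)) (iterCommutator N G i)
      bot_le (hlt i hne).le
    rw [Subgroup.relIndex_bot_left, Subgroup.relIndex_bot_left, hback hu (i + 1) (by omega), hback hu i hi,
      show n - i = n - (i + 1) + 1 by omega, pow_succ] at h3
    exact Nat.eq_of_mul_eq_mul_left (pow_pos hp.pos _) h3
  · obtain ⟨i, hi, rfl⟩ := hchain (hcardU hu) H hHN hHG
    -- a subgroup of the same order, normal in `N G`
    set P := N ⊔ G with hP
    have hPp : IsPGroup p P := IsPGroup.to_sup_of_normal_left' hN hG hGN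
    haveI : (N.subgroupOf P).Normal := Subgroup.normal_subgroupOf_of_le_normalizer
      (sup_le Subgroup.le_normalizer hGN)
    have hcardN : Nat.card (N.subgroupOf P) = p ^ n := by
      rw [Nat.card_congr (Subgroup.subgroupOfEquivOfLe (le_sup_left : N ≤ P)).toEquiv, hn]
    obtain ⟨K, hKN, hKn, hKc⟩ := Cfsg.Agent.PGroup.exists_normal_le_card hPp (N.subgroupOf P)
      (n - i) hcardN (Nat.sub_le n i)
    set K' := K.map P.subtype with hK'
    have hK'N : K' ≤ N := by rintro _ ⟨x, hx, rfl⟩; exact hKN hx
    have hPK : P ≤ Subgroup.normalizer (K' : Set L) := by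
      refine Cfsg.Agent.Coprime.le_normalizer_of_conj_mem fun g hg x hx => ?_
      obtain ⟨y, hy, rfl⟩ := hx
      exact ⟨_, hKn.conj_mem y hy ⟨g, hg⟩, rfl⟩
    obtain ⟨j, hj, hKj⟩ := hchain (hcardU hu) K' hK'N ((le_sup_right : G ≤ P).trans hPK)
    have h1 : Nat.card K' = p ^ (n - j) := hKj ▸ hcardU hu j hj
    rw [hK', Subgroup.card_map_of_injective P.subtype_injective, hKc] at h1
    have h2 := Nat.pow_right_injective hp.two_le h1
    obtain rfl : j = i := by omega
    rw [← hKj]
    exact (le_sup_left : N ≤ P).trans hPK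

end Cfsg.Agent.PLocalB
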