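import Cfsg.Agent.Lib.PGroup.CyclicMax

/-!
Nonabelian `p`-groups with a cyclic subgroup of index `p`: the standard presentations.
-/

set_option autoImplicit false
set_option linter.style.haveILetI false

open scoped commutatorElement

namespace Cfsg.Agent.PLocalB

variable {G : Type*} [Group G] [Finite G] {p : ℕ} [Fact p.Prime]

/-- The set-up: a generator `a` of the cyclic maximal subgroup. -/
theorem exists_generator_of_cyclic_index (n : ℕ) (hn : 1 ≤ n) (hG : Nat.card G = p ^ n)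
    (C : Subgroup G) (hC : IsCyclic C) (hCi : C.index = p) :
    ∃ a : G, C = Subgroup.zpowers a ∧ orderOf a = p ^ (n - 1) := by
  obtain ⟨⟨a, haC⟩, hag⟩ := hC.exists_generator
  have hCa : C = Subgroup.zpowers a := by
    refine le_antisymm (fun c hc => ?_) (Subgroup.zpowers_le.mpr haC)
    obtain ⟨i, hi⟩ := Subgroup.mem_zpowers_iff.mp (hag ⟨c, hc⟩)
    exact Subgroup.mem_zpowers_iff.mpr ⟨i, congrArg Subtype.val hi⟩
  refine ⟨a, hCa, ?_⟩
  have h := Subgroup.card_mul_index C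
  rw [hG, hCi, show n = (n - 1) + 1 by omega, pow_succ, hCa, Nat.card_zpowers] at h
  exact Nat.eq_of_mul_eq_mul_right (Fact.out : p.Prime).pos h

theorem not_commute_of_not_mem_index (hG : IsPGroup p G) (a : G)
    (hi : (Subgroup.zpowers a).index = p) (hna : ∃ x y : G, x * y ≠ y * x) (b : G)
    (hb : b ∉ Subgroup.zpowers a) : b * a * b⁻¹ ≠ a := by
  intro h
  obtain ⟨x, y, hxy⟩ := hna
  have hco := (Cfsg.Agent.PGroup.isCoatom_iff_index_eq_prime hG).mpr hi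
  have htop : Subgroup.closure ({a, b} : Set G) = ⊤ := by
    refine hco.2 _ (lt_of_le_of_ne (Subgroup.zpowers_le.mpr (Subgroup.subset_closure (by simp))) ?_)
    intro he
    exact hb (he ▸ Subgroup.subset_closure (by simp))
  haveI : IsMulCommutative (Subgroup.closure ({a, b} : Set G)) :=
    Subgroup.isMulCommutative_closure (by
      have hab : b * a = a * b := mul_inv_eq_iff_eq_mul.mp h
      rintro u (rfl | rfl) v (rfl | rfl)
      · rfl
      · exact hab.symm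
      · exact hab
      · rfl)
  exact hxy (congrArg Subtype.val (IsMulCommutative.is_comm.comm
    (⟨x, htop ▸ Subgroup.mem_top x⟩ : Subgroup.closure ({a, b} : Set G))
    ⟨y, htop ▸ Subgroup.mem_top y⟩))

theorem cyclic_index_odd_presentation (hp : p ≠ 2) (n : ℕ) (hn : 3 ≤ n) (hG : Nat.card G = p ^ n)
    (C : Subgroup G) (hC : IsCyclic C) (hCi : C.index = p) (hna : ∃ x y : G, x * y ≠ y * x) :
    ∃ a b : G, orderOf a = p ^ (n - 1) ∧ orderOf b = p ∧ b ∉ Subgroup.zpowers a ∧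
      b * a * b⁻¹ = a ^ (1 + p ^ (n - 2)) := by
  have hpG : IsPGroup p G := IsPGroup.of_card hG
  obtain ⟨a, rfl, ha⟩ := exists_generator_of_cyclic_index n (by omega) hG C hC hCi
  have hnc : ¬ IsCyclic G := by
    intro h
    obtain ⟨x, y, hxy⟩ := hna
    haveI := h
    letI := IsCyclic.commGroup (α := G)
    exact hxy (mul_comm x y)
  obtain ⟨hroot, -, hcard⟩ := Cfsg.Agent.PGroup.omega_of_cyclic_maximal hpG hp hnc hC hCi
  obtain ⟨b, hbp, hb⟩ : ∃ b : G, b ^ p = 1 ∧ b ∉ Subgroup.zpowers a := by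
    by_contra hall
    push Not at hall
    set W := Subgroup.closure {x : G | x ^ p = 1} with hW
    have hWC : W ≤ Subgroup.zpowers a := fun x hx => hall x (hroot x hx)
    haveI hWc : IsCyclic W :=
      isCyclic_of_injective (Subgroup.inclusion hWC) (Subgroup.inclusion_injective hWC)
    obtain ⟨g, hg⟩ := hWc.exists_ofOrder_eq_natCard
    have h1 : orderOf g ∣ p := orderOf_dvd_of_pow_eq_one (Subtype.ext (by simpa using hroot g g.2))
    rw [hg, hcard] at h1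
    have h2 := Nat.le_of_dvd (Fact.out : p.Prime).pos h1
    have h3 := (Fact.out : p.Prime).two_le
    nlinarith
  obtain ⟨hcl, hcp⟩ := Cfsg.Agent.PGroup.classTwo_of_cyclic_maximal hpG hp hC hCi
  have hne : b * a * b⁻¹ ≠ a := not_commute_of_not_mem_index hpG a hCi hna b hb
  have hn' := Cfsg.Agent.PGroup.normal_of_index_eq_prime hpG hCi
  obtain ⟨k, hk⟩ := Subgroup.mem_zpowers_iff.mp
    ((Subgroup.zpowers a).mul_mem (hn'.conj_mem a (Subgroup.mem_zpowers a) b)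
      ((Subgroup.zpowers a).inv_mem (Subgroup.mem_zpowers a)))
  have hk' : a ^ k = ⁅b, a⁆ := hk
  have hdvd : ((p ^ (n - 1) : ℕ) : ℤ) ∣ k * p := by
    rw [← ha, orderOf_dvd_iff_zpow_eq_one, zpow_mul, zpow_natCast, hk']
    exact hcp b a
  obtain ⟨j, hj⟩ : ((p ^ (n - 2) : ℕ) : ℤ) ∣ k := by
    refine (mul_dvd_mul_iff_right (show (p : ℤ) ≠ 0 by exact_mod_cast (Fact.out : p.Prime).ne_zero)).mp ?_
    rw [show ((p ^ (n - 2) : ℕ) : ℤ) * p = ((p ^ (n - 1) : ℕ) : ℤ) by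
      rw [show n - 1 = (n - 2) + 1 by omega, pow_succ]; push_cast; ring]
    exact hdvd
  have hjp : ¬ (p : ℤ) ∣ j := by
    rintro ⟨t, rfl⟩
    apply hne
    have h1 : a ^ k = 1 := by
      rw [← orderOf_dvd_iff_zpow_eq_one, ha, hj]
      exact ⟨t, by rw [show n - 1 = (n - 2) + 1 by omega, pow_succ]; push_cast; ring⟩
    rw [hk', commutatorElement_eq_one_iff_mul_comm] at h1
    exact mul_inv_eq_iff_eq_mul.mpr h1
  obtain ⟨u, v, huv⟩ : IsCoprime (j : ℤ) (p : ℤ) :=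
    ((Nat.prime_iff_prime_int.mp Fact.out).coprime_iff_not_dvd.mpr hjp).symm
  obtain ⟨i, hi⟩ : ∃ i : ℕ, (p : ℤ) ∣ (i : ℤ) - u :=
    ⟨(u % (p : ℤ)).toNat, by
      rw [Int.toNat_of_nonneg (Int.emod_nonneg _ (by exact_mod_cast (Fact.out : p.Prime).ne_zero))]
      exact ⟨-(u / p), by linarith [Int.mul_ediv_add_emod u p]⟩⟩
  have hcomm : ⁅b ^ i, a⁆ = a ^ (p ^ (n - 2) : ℕ) := by
    rw [Cfsg.Agent.PGroup.comm_pow_left hcl, ← hk', ← zpow_natCast, ← zpow_mul, ← zpow_natCast a,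
      ← orderOf_dvd_sub_iff_zpow_eq_zpow, ha]
    obtain ⟨w, hw⟩ := hi
    refine ⟨j * w - v, ?_⟩
    rw [hj, show n - 1 = (n - 2) + 1 by omega, pow_succ]
    push_cast
    have : (i : ℤ) = u + p * w := by linarith
    rw [this]
    linear_combination (p : ℤ) ^ (n - 2) * huv
  refine ⟨a, b ^ i, ha, ?_, ?_, ?_⟩
  · refine orderOf_eq_prime (by rw [← pow_mul, mul_comm, pow_mul, hbp, one_pow]) fun h => ?_
    rw [h, commutatorElement_one_left, eq_comm, ← orderOf_dvd_iff_pow_eq_one, ha,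
      Nat.pow_dvd_pow_iff_le_right (Fact.out : p.Prime).one_lt] at hcomm
    omega
  · intro h
    obtain ⟨l, hl⟩ := Subgroup.mem_zpowers_iff.mp h
    rw [← hl, commutatorElement_eq_one_iff_commute.mpr (Commute.zpow_self a l), eq_comm,
      ← orderOf_dvd_iff_pow_eq_one, ha,
      Nat.pow_dvd_pow_iff_le_right (Fact.out : p.Prime).one_lt] at hcomm
    omega
  · rw [pow_add, pow_one, ← hcomm, commutatorElement_def]
    have hc := Cfsg.Agent.PGroup.commute_comm hcl (b ^ i) a a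
    rw [commutatorElement_def] at hc
    rw [← hc.eq]
    group

omit [Fact p.Prime] in
/-- Square roots of one modulo `2 ^ m`. -/
theorem sq_one_mod_two_pow {m : ℕ} (hm : 2 ≤ m) {r : ℤ} (h : (2 : ℤ) ^ m ∣ (r - 1) * (r + 1))
    (h1 : ¬ (2 : ℤ) ^ m ∣ r - 1) :
    (2 : ℤ) ^ m ∣ r + 1 ∨ (3 ≤ m ∧
      ((2 : ℤ) ^ m ∣ r - (1 + 2 ^ (m - 1)) ∨ (2 : ℤ) ^ m ∣ r - (-1 + 2 ^ (m - 1)))) := by
  obtain ⟨m, rfl⟩ : ∃ l, m = l + 2 := ⟨m - 2, by omega⟩
  have h2 : (2 : ℤ) ∣ (r - 1) * (r + 1) := (dvd_pow_self 2 (by omega)).trans h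
  obtain ⟨s, hs⟩ : (2 : ℤ) ∣ r - 1 := by
    rcases Int.prime_two.dvd_or_dvd h2 with h3 | h3
    · exact h3
    · have := Int.dvd_sub h3 (dvd_refl 2); convert this using 1; ring
  obtain rfl : r = 1 + 2 * s := by linarith
  have h4 : (2 : ℤ) ^ m ∣ s * (s + 1) := by
    refine (mul_dvd_mul_iff_left (show (4 : ℤ) ≠ 0 by norm_num)).mp ?_
    rwa [show (4 : ℤ) * 2 ^ m = 2 ^ (m + 2) by ring,
      show (4 : ℤ) * (s * (s + 1)) = (1 + 2 * s - 1) * (1 + 2 * s + 1) by ring]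
  rw [show m + 2 - 1 = m + 1 from rfl]
  by_cases h5 : (2 : ℤ) ∣ s + 1
  · have h6 : (2 : ℤ) ^ m ∣ s + 1 := by
      have hco : IsCoprime ((2 : ℤ) ^ m) s := by
        refine IsCoprime.pow_left (Int.prime_two.coprime_iff_not_dvd.mpr fun h7 => ?_)
        have := Int.dvd_sub h5 h7
        norm_num at this
      exact hco.dvd_of_dvd_mul_left h4
    obtain ⟨t, ht⟩ := h6
    rcases Int.even_or_odd' t with ⟨t', rfl | rfl⟩
    · left; exact ⟨t', by linear_combination 2 * ht⟩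
    · rcases Nat.lt_or_ge m 1 with hm0 | hm1
      · exfalso
        obtain rfl : m = 0 := by omega
        exact h1 ⟨t', by linear_combination 2 * ht⟩
      · right; refine ⟨by omega, Or.inr ⟨t', by linear_combination 2 * ht⟩⟩
  · have h6 : (2 : ℤ) ^ m ∣ s := by
      have hco : IsCoprime ((2 : ℤ) ^ m) (s + 1) :=
        IsCoprime.pow_left (Int.prime_two.coprime_iff_not_dvd.mpr h5)
      exact hco.dvd_of_dvd_mul_right h4
    obtain ⟨t, ht⟩ := h6
    rcases Int.even_or_odd' t with ⟨t', rfl | rfl⟩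
    · exact absurd ⟨t', by linear_combination 2 * ht⟩ h1
    · rcases Nat.lt_or_ge m 1 with hm0 | hm1
      · left
        obtain rfl : m = 0 := by omega
        exact ⟨t' + 1, by linear_combination 2 * ht⟩
      · right; exact ⟨by omega, Or.inl ⟨t', by linear_combination 2 * ht⟩⟩

theorem cyclic_index_two_presentation {G : Type*} [Group G] [Finite G] (n : ℕ) (hn : 3 ≤ n)
    (hG : Nat.card G = 2 ^ n) (C : Subgroup G) (hC : IsCyclic C) (hCi : C.index = 2)
    (hna : ∃ x y : G, x * y ≠ y * x) :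
    ∃ a b : G, orderOf a = 2 ^ (n - 1) ∧ b ∉ Subgroup.zpowers a ∧
      ((b ^ 2 = 1 ∧ b * a * b⁻¹ = a⁻¹) ∨ (b ^ 2 = a ^ (2 ^ (n - 2)) ∧ b * a * b⁻¹ = a⁻¹) ∨
        (4 ≤ n ∧ b ^ 2 = 1 ∧ b * a * b⁻¹ = a ^ (1 + 2 ^ (n - 2))) ∨
        (4 ≤ n ∧ b ^ 2 = 1 ∧ b * a * b⁻¹ = a ^ (2 ^ (n - 2) - 1))) := by
  haveI : Fact (Nat.Prime 2) := ⟨Nat.prime_two⟩
  have hpG : IsPGroup 2 G := IsPGroup.of_card hG
  obtain ⟨a, rfl, ha⟩ := exists_generator_of_cyclic_index n (by omega) hG C hC hCi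
  obtain ⟨b, hb⟩ : ∃ b : G, b ∉ Subgroup.zpowers a := by
    by_contra hall
    push Not at hall
    rw [(Subgroup.eq_top_iff' _).mpr hall, Subgroup.index_top] at hCi
    norm_num at hCi
  have hne := not_commute_of_not_mem_index hpG a hCi hna b hb
  haveI hn' := Cfsg.Agent.PGroup.normal_of_index_eq_prime hpG hCi
  obtain ⟨r, hr⟩ := Subgroup.mem_zpowers_iff.mp (hn'.conj_mem a (Subgroup.mem_zpowers a) b)
  obtain ⟨j, hj⟩ := Subgroup.mem_zpowers_iff.mp (Subgroup.sq_mem_of_index_two hCi b)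
  have heq : ∀ x y : ℤ, a ^ x = a ^ y ↔ (2 : ℤ) ^ (n - 1) ∣ x - y := by
    intro x y
    rw [← orderOf_dvd_sub_iff_zpow_eq_zpow, ha]
    push_cast
    rfl
  have hconj : ∀ x : ℤ, b * a ^ x * b⁻¹ = a ^ (r * x) := fun x => by
    rw [← conj_zpow, ← hr, zpow_mul]
  have hrr : (2 : ℤ) ^ (n - 1) ∣ r * r - 1 := by
    rw [← heq, ← hconj, hr, zpow_one]
    calc b * (b * a * b⁻¹) * b⁻¹ = b ^ 2 * a * (b ^ 2)⁻¹ := by rw [pow_two]; group
      _ = a := by rw [← hj, (Commute.zpow_self a j).eq, mul_inv_cancel_right]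
  have hjr : (2 : ℤ) ^ (n - 1) ∣ r * j - j := by
    rw [← heq, ← hconj, hj]
    group
  have hr1 : ¬ (2 : ℤ) ^ (n - 1) ∣ r - 1 := by
    rw [← heq, zpow_one, hr]
    exact hne
  have hshift : ∀ k : ℤ, b * a ^ k ∉ Subgroup.zpowers a ∧ (b * a ^ k) * a * (b * a ^ k)⁻¹ = a ^ r ∧
      (b * a ^ k) ^ 2 = a ^ (r * k + j + k) := by
    intro k
    refine ⟨fun h => hb ?_, ?_, ?_⟩
    · simpa using (Subgroup.zpowers a).mul_mem h
        ((Subgroup.zpowers a).inv_mem (Subgroup.zpow_mem_zpowers a k))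
    · rw [hr]
      calc b * a ^ k * a * (b * a ^ k)⁻¹ = b * (a ^ k * a * (a ^ k)⁻¹) * b⁻¹ := by group
        _ = _ := by rw [(Commute.zpow_self a k).eq, mul_inv_cancel_right]
    · rw [zpow_add, zpow_add, ← hconj, hj, pow_two, pow_two]
      group
  have hexp : n - 1 - 1 = n - 2 := by omega
  rcases sq_one_mod_two_pow (m := n - 1) (by omega) (r := r)
    (by convert hrr using 1; ring) hr1 with h | ⟨hn4, h | h⟩
  · -- dihedral or quaternion
    have hinv : b * a * b⁻¹ = a⁻¹ := by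
      rw [← hr, ← zpow_neg_one, heq]
      simpa using h
    have h2j : (2 : ℤ) ^ (n - 2) ∣ j := by
      refine (mul_dvd_mul_iff_left (show (2 : ℤ) ≠ 0 by norm_num)).mp ?_
      rw [← pow_succ', show n - 2 + 1 = n - 1 by omega]
      obtain ⟨z, hz⟩ := Int.dvd_sub (dvd_mul_of_dvd_left h j) hjr
      exact ⟨z, by linear_combination hz⟩
    obtain ⟨t, ht⟩ := h2j
    rcases Int.even_or_odd' t with ⟨t', rfl | rfl⟩
    · refine ⟨a, b, ha, hb, Or.inl ⟨?_, hinv⟩⟩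
      rw [← hj, ← zpow_zero a, heq]
      exact ⟨t', by rw [show n - 1 = n - 2 + 1 by omega, pow_succ]; linear_combination ht⟩
    · refine ⟨a, b, ha, hb, Or.inr (Or.inl ⟨?_, hinv⟩)⟩
      rw [← hj, ← zpow_natCast, heq]
      exact ⟨t', by rw [show n - 1 = n - 2 + 1 by omega, pow_succ]; push_cast; linear_combination ht⟩
  · -- modular
    rw [hexp] at h
    obtain ⟨w, hw⟩ := h
    obtain ⟨e, he⟩ : ∃ e, n = e + 4 := ⟨n - 4, by omega⟩
    subst he
    simp only [show e + 4 - 1 = e + 3 from rfl, show e + 4 - 2 = e + 2 from rfl] at *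
    obtain ⟨q, rfl⟩ : ∃ q, r = 1 + 2 ^ (e + 2) * q := ⟨1 + 2 * w, by
      linear_combination hw⟩
    have hq : ¬ (2 : ℤ) ∣ q := fun ⟨t, ht⟩ => hr1 ⟨t, by rw [ht, pow_succ]; ring⟩
    obtain ⟨i, rfl⟩ : (2 : ℤ) ∣ j := by
      have h1 : (2 : ℤ) ∣ q * j := by
        refine (mul_dvd_mul_iff_left (show (2 : ℤ) ^ (e + 2) ≠ 0 by positivity)).mp ?_
        rwa [show (2 : ℤ) ^ (e + 2) * 2 = 2 ^ (e + 3) by ring,
          show (2 : ℤ) ^ (e + 2) * (q * j) = (1 + 2 ^ (e + 2) * q) * j - j by ring]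
      exact (Int.prime_two.dvd_or_dvd h1).resolve_left hq
    obtain ⟨u, v, huv⟩ : IsCoprime (1 + 2 ^ (e + 1) * q) ((2 : ℤ) ^ (e + 2)) := by
      refine IsCoprime.pow_right (IsCoprime.symm (Int.prime_two.coprime_iff_not_dvd.mpr ?_))
      intro hd
      have h1 : (2 : ℤ) ∣ 1 := (Int.dvd_add_left (dvd_mul_of_dvd_left (dvd_pow_self 2 (by omega)) q)).mp hd
      norm_num at h1
    obtain ⟨hk1, hk2, hk3⟩ := hshift (-i * u)
    refine ⟨a, b * a ^ (-i * u), ha, hk1, Or.inr (Or.inr (Or.inl ⟨by omega, ?_, ?_⟩))⟩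
    · rw [hk3, ← zpow_zero a, heq]
      exact ⟨i * v, by linear_combination (-(2 : ℤ) * i) * huv⟩
    · rw [hk2, ← zpow_natCast, heq]
      exact ⟨w, by push_cast; linear_combination hw⟩
  · -- semidihedral
    rw [hexp] at h
    obtain ⟨w, hw⟩ := h
    obtain ⟨e, he⟩ : ∃ e, n = e + 4 := ⟨n - 4, by omega⟩
    subst he
    simp only [show e + 4 - 1 = e + 3 from rfl, show e + 4 - 2 = e + 2 from rfl] at *
    have h2j : (2 : ℤ) ^ (e + 2) ∣ j := by
      have hco : IsCoprime ((2 : ℤ) ^ (e + 2)) (-1 + 2 ^ (e + 1) * (1 + 2 * w)) := by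
        refine IsCoprime.pow_left (Int.prime_two.coprime_iff_not_dvd.mpr fun hd => ?_)
        have h1 : (2 : ℤ) ∣ -1 := (Int.dvd_add_left (dvd_mul_of_dvd_left (dvd_pow_self 2 (by omega)) _)).mp hd
        norm_num at h1
      refine hco.dvd_of_dvd_mul_left ((mul_dvd_mul_iff_left (show (2 : ℤ) ≠ 0 by norm_num)).mp ?_)
      obtain ⟨z, hz⟩ := hjr
      exact ⟨z, by linear_combination hz - j * hw⟩
    obtain ⟨t, ht⟩ := h2j
    have hexp2 : ((2 ^ (e + 2) - 1 : ℕ) : ℤ) = 2 ^ (e + 2) - 1 := by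
      rw [Nat.cast_sub Nat.one_le_two_pow]; push_cast; ring
    obtain ⟨hk1, hk2, hk3⟩ := hshift t
    refine ⟨a, b * a ^ t, ha, hk1, Or.inr (Or.inr (Or.inr ⟨by omega, ?_, ?_⟩))⟩
    · rw [hk3, ← zpow_zero a, heq]
      exact ⟨t * (1 + w), by linear_combination ht + t * hw⟩
    · rw [hk2, ← zpow_natCast, heq, hexp2]
      exact ⟨w, by linear_combination hw⟩

end Cfsg.Agent.PLocalB
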