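import Cfsg.Agent.Lib.Frobenius.Basic
import Cfsg.Agent.Lib.Frobenius.Kernel

/-!
A Frobenius group whose kernel acts fixed-point-freely on an abelian group: the complement fixes a
nontrivial element (norm argument).
-/

set_option autoImplicit false
set_option linter.style.haveILetI false

namespace Cfsg.Agent.PLocalB

open Cfsg.Agent.Frobenius

theorem exists_fixed_of_frobenius {F W : Type*} [Group F] [Finite F] [CommGroup W] [Finite W]
    (φ : F →* MulAut W) (H : Subgroup F) (hH : Cfsg.IsFrobeniusComplement H)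
    (hcop : (Nat.card W).Coprime H.index)
    (hK : ∀ w : W, (∀ x ∈ Cfsg.frobeniusKernel H, φ x w = w) → w = 1) (hW : Nontrivial W) :
    ∃ w : W, w ≠ 1 ∧ ∀ h ∈ H, φ h w = w := by
  classical
  haveI := Fintype.ofFinite F
  haveI := Fintype.ofFinite (F ⧸ H)
  by_contra hall
  push Not at hall
  have hH1 : ∀ w : W, (∀ h ∈ H, φ h w = w) → w = 1 := fun w hw => by
    by_contra h
    obtain ⟨x, hx, hxw⟩ := hall w h
    exact hxw (hw x hx)
  obtain ⟨N, hN, -, -⟩ := exists_frobeniusKernel_subgroup hH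
  -- norms vanish
  have hnormF : ∀ w : W, ∏ x : F, φ x w = 1 := fun w => hK _ fun y _ => by
    rw [map_prod]
    exact Fintype.prod_equiv (Equiv.mulLeft y) _ _ fun x => by simp [map_mul]
  have hnormH : ∀ w : W, ∏ h : H, φ (h : F) w = 1 := fun w => hH1 _ fun y hy => by
    rw [map_prod]
    exact Fintype.prod_equiv (Equiv.mulLeft (⟨y, hy⟩ : H)) _ _ fun x => by simp [map_mul]
  have hnormK : ∀ w : W, ∏ x ∈ Finset.univ.filter (fun x => x ∈ N), φ x w = 1 := fun w => by
    refine hK _ fun y hy => ?_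
    have hy' : y ∈ N := by rw [← SetLike.mem_coe, hN]; exact hy
    rw [map_prod]
    refine Finset.prod_equiv (Equiv.mulLeft y) (fun x => ?_) fun x _ => by simp [map_mul]
    simp [N.mul_mem_cancel_left hy']
  suffices hkey : ∀ v : W, v = 1 by
    obtain ⟨a, b, hab⟩ := hW.exists_pair_ne
    exact hab ((hkey a).trans (hkey b).symm)
  intro v
  have hsplit := Finset.prod_filter_mul_prod_filter_not Finset.univ (fun x => x ∈ N) (fun x => φ x v)
  rw [hnormK, hnormF, one_mul] at hsplit
  have hbij : ∏ x ∈ Finset.univ.filter (fun x => ¬ x ∈ N), φ x v =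
      ∏ qh ∈ (Finset.univ : Finset (F ⧸ H)) ×ˢ (Finset.univ.erase (1 : H)),
        φ (qh.1.out * (qh.2 : F) * qh.1.out⁻¹) v := by
    symm
    refine Finset.prod_bij (fun qh _ => qh.1.out * (qh.2 : F) * qh.1.out⁻¹) ?_ ?_ ?_ (fun _ _ => rfl)
    · rintro ⟨q, h⟩ hqh
      simp only [Finset.mem_product, Finset.mem_erase, Finset.mem_univ, and_true, true_and] at hqh
      refine Finset.mem_filter.mpr ⟨Finset.mem_univ _, fun hmem => hqh ?_⟩
      have hk : q.out * (h : F) * q.out⁻¹ ∈ Cfsg.frobeniusKernel H := by rw [← hN]; exact hmem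
      have h1 := eq_one_of_mem_frobeniusKernel_of_mem_conj hk (conj_mem_conj_smul (g := q.out) h.2)
      exact Subtype.ext (conj_eq_one_iff.mp h1)
    · rintro ⟨q, h⟩ hqh ⟨q', h'⟩ hqh' heq
      simp only [Finset.mem_product, Finset.mem_erase, Finset.mem_univ, and_true, true_and] at hqh hqh'
      simp only at heq
      have hne : q.out * (h : F) * q.out⁻¹ ≠ 1 := fun h1 => hqh (Subtype.ext (conj_eq_one_iff.mp h1))
      have hqq : q = q' := by
        have := inv_mul_mem_of_mem_conj hH hne (conj_mem_conj_smul (g := q.out) h.2)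
          (heq ▸ conj_mem_conj_smul (g := q'.out) h'.2)
        rw [← q.out_eq', ← q'.out_eq']
        exact QuotientGroup.eq.mpr this
      subst hqq
      exact Prod.ext rfl (Subtype.ext (mul_left_cancel (mul_right_cancel heq)))
    · intro x hx
      have hxK : x ∉ Cfsg.frobeniusKernel H := by
        rw [← hN]; exact (Finset.mem_filter.mp hx).2
      obtain ⟨hx1, g, hg⟩ := exists_conj_of_not_mem_frobeniusKernel hxK
      obtain ⟨k, hk⟩ := QuotientGroup.mk_out_eq_mul H g
      rw [mem_conj_smul] at hg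
      have hmem : ((QuotientGroup.mk g : F ⧸ H).out)⁻¹ * x * (QuotientGroup.mk g : F ⧸ H).out ∈ H := by
        rw [hk, show (g * (k : F))⁻¹ * x * (g * k) = (k : F)⁻¹ * (g⁻¹ * x * g) * k by group]
        exact H.mul_mem (H.mul_mem (H.inv_mem k.2) hg) k.2
      refine ⟨(QuotientGroup.mk g, ⟨_, hmem⟩), ?_, by simp [mul_assoc]⟩
      simp only [Finset.mem_product, Finset.mem_erase, Finset.mem_univ, and_true, true_and, ne_eq]
      intro h1
      apply hx1
      have h2 := congrArg Subtype.val h1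
      simp only [OneMemClass.coe_one] at h2
      have h3 := congrArg (fun z => (QuotientGroup.mk g : F ⧸ H).out * z *
        ((QuotientGroup.mk g : F ⧸ H).out)⁻¹) h2
      simpa [mul_assoc] using h3
  rw [hbij, Finset.prod_product] at hsplit
  have hinner : ∀ q : F ⧸ H, ∏ h ∈ Finset.univ.erase (1 : H), φ (q.out * (h : F) * q.out⁻¹) v = v⁻¹ := by
    intro q
    simp only [map_mul, MulAut.mul_apply]
    rw [← map_prod]
    have h1 := Finset.mul_prod_erase Finset.univ (fun h : H => φ (h : F) (φ q.out⁻¹ v))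
      (Finset.mem_univ 1)
    rw [hnormH, OneMemClass.coe_one, map_one, MulAut.one_apply] at h1
    rw [eq_inv_of_mul_eq_one_right h1, map_inv (φ q.out), ← MulAut.mul_apply, ← map_mul,
      mul_inv_cancel, map_one, MulAut.one_apply]
  simp only [hinner, Finset.prod_const, Finset.card_univ, inv_pow, inv_eq_one] at hsplit
  rw [← Nat.card_eq_fintype_card, ← Subgroup.index_eq_card] at hsplit
  refine orderOf_eq_one_iff.mp (Nat.eq_one_of_dvd_coprimes hcop (orderOf_dvd_natCard v)
    (orderOf_dvd_of_pow_eq_one hsplit))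

theorem centralizer_complement_ne_bot {G : Type*} [Group G] [Finite G] (V F : Subgroup G)
    (hVab : IsMulCommutative V) (hV1 : V ≠ ⊥) (hFV : F ≤ Subgroup.normalizer (V : Set G))
    (H : Subgroup ↥F) (hH : Cfsg.IsFrobeniusComplement H)
    (hcop : (Nat.card V).Coprime (Nat.card (Cfsg.frobeniusKernel H)))
    (hCK : V ⊓ Subgroup.centralizer (Subtype.val '' Cfsg.frobeniusKernel H : Set G) = ⊥) :
    V ⊓ Subgroup.centralizer ((H.map F.subtype : Subgroup G) : Set G) ≠ ⊥ := by
  letI : CommGroup V := { (inferInstance : Group V) with mul_comm := fun a b => hVab.is_comm.comm a b }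
  let φ : F →* MulAut V := (Subgroup.normalizerMonoidHom V).comp (Subgroup.inclusion hFV)
  have hφ : ∀ (x : F) (v : V), φ x v = v ↔ Commute (x : G) (v : G) := fun x v => by
    rw [Subtype.ext_iff, show ((φ x v : V) : G) = x * v * (x : G)⁻¹ by simp [φ], mul_inv_eq_iff_eq_mul]
    rfl
  obtain ⟨w, hw1, hw⟩ := exists_fixed_of_frobenius φ H hH (by rwa [← card_frobeniusKernel hH]) (by
    intro v hv
    have hmem : (v : G) ∈ V ⊓ Subgroup.centralizer (Subtype.val '' Cfsg.frobeniusKernel H : Set G) :=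
      ⟨v.2, Subgroup.mem_centralizer_iff.mpr (by
        rintro _ ⟨x, hx, rfl⟩
        exact (hφ x v).mp (hv x hx))⟩
    rw [hCK, Subgroup.mem_bot] at hmem
    exact Subtype.ext hmem) ((Subgroup.nontrivial_iff_ne_bot V).mpr hV1)
  intro hbot
  have hmem : (w : G) ∈ V ⊓ Subgroup.centralizer ((H.map F.subtype : Subgroup G) : Set G) :=
    ⟨w.2, Subgroup.mem_centralizer_iff.mpr (by
      rintro _ ⟨x, hx, rfl⟩
      exact (hφ x w).mp (hw x hx))⟩
  rw [hbot, Subgroup.mem_bot] at hmem
  exact hw1 (Subtype.ext hmem)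

end Cfsg.Agent.PLocalB
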