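import Mathlib
import Cfsg.Prelude.Def_PLocal
import Cfsg.Agent.Lib.PGroup.Basic

/-!
First properties of regular `p`-groups.
-/

set_option autoImplicit false
set_option linter.style.haveILetI false

open scoped commutatorElement

namespace Cfsg.Agent.PLocalB

variable {G : Type*} [Group G] {p : ℕ}

theorem powerClosure_map {H : Type*} [Group H] (f : G →* H) (n : ℕ) (D : Subgroup G) :
    (powerClosure p n D).map f = powerClosure p n (D.map f) := by
  rw [powerClosure, powerClosure, MonoidHom.map_closure]
  congr 1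
  ext y
  simp only [Set.mem_image, Set.mem_ofPred_eq, Subgroup.mem_map]
  constructor
  · rintro ⟨_, ⟨x, hx, rfl⟩, rfl⟩
    exact ⟨f x, ⟨x, hx, rfl⟩, map_pow f x _⟩
  · rintro ⟨_, ⟨x, hx, rfl⟩, rfl⟩
    exact ⟨_, ⟨x, hx, rfl⟩, map_pow f x _⟩

theorem map_derived_pair {H : Type*} [Group H] (f : G →* H) (a b : G) :
    (⁅Subgroup.closure ({a, b} : Set G), Subgroup.closure ({a, b} : Set G)⁆).map f =
      ⁅Subgroup.closure ({f a, f b} : Set H), Subgroup.closure ({f a, f b} : Set H)⁆ := by
  rw [Subgroup.map_commutator, MonoidHom.map_closure, Set.image_pair]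

theorem isRegularPGroup_quotient (hG : IsRegularPGroup p G) (N : Subgroup G) [N.Normal] :
    IsRegularPGroup p (G ⧸ N) := by
  refine ⟨hG.1.to_quotient N, fun a b n => ?_⟩
  obtain ⟨a, rfl⟩ := QuotientGroup.mk'_surjective N a
  obtain ⟨b, rfl⟩ := QuotientGroup.mk'_surjective N b
  obtain ⟨c, hc, habc⟩ := hG.2 a b n
  refine ⟨QuotientGroup.mk' N c, ?_, by simp only [← map_mul, ← map_pow, habc]⟩
  rw [← map_derived_pair, ← powerClosure_map]
  exact ⟨c, hc, rfl⟩

theorem isRegularPGroup_subgroup (hG : IsRegularPGroup p G) (S : Subgroup G) :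
    IsRegularPGroup p S := by
  refine ⟨hG.1.to_subgroup S, fun a b n => ?_⟩
  obtain ⟨c, hc, habc⟩ := hG.2 a b n
  rw [show (a : G) = S.subtype a from rfl, show (b : G) = S.subtype b from rfl, ← map_derived_pair,
    ← powerClosure_map] at hc
  obtain ⟨c, hc, rfl⟩ := hc
  exact ⟨c, hc, S.subtype_injective (by simpa using habc)⟩

theorem isRegularPGroup_of_comm (hG : IsPGroup p G) (h : ∀ a b : G, a * b = b * a) :
    IsRegularPGroup p G :=
  ⟨hG, fun a b n => ⟨1, one_mem _, by rw [mul_one, (show Commute a b from h a b).mul_pow]⟩⟩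

theorem powerClosure_le (n : ℕ) (D : Subgroup G) : powerClosure p n D ≤ D := by
  rw [powerClosure, Subgroup.closure_le]
  rintro _ ⟨x, hx, rfl⟩
  exact pow_mem hx _

theorem powerClosure_normal (n : ℕ) (D : Subgroup G) [D.Normal] : (powerClosure p n D).Normal := by
  refine ⟨fun x hx g => ?_⟩
  have h1 : (powerClosure p n D).map (MulAut.conj g).toMonoidHom = powerClosure p n D := by
    rw [powerClosure_map, show D.map (MulAut.conj g).toMonoidHom = D from Subgroup.Normal.map_conj_eq D g]
  rw [← h1]
  exact ⟨x, hx, rfl⟩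

/-- A regular `2`-group generated by two elements is abelian. -/
theorem commute_of_regular_two [Finite G] (hG : IsRegularPGroup 2 G) (a b : G)
    (htop : Subgroup.closure ({a, b} : Set G) = ⊤) : a * b = b * a := by
  haveI : Fact (Nat.Prime 2) := ⟨Nat.prime_two⟩
  obtain ⟨c, hc, habc⟩ := hG.2 a b 1
  rw [htop] at hc
  set D : Subgroup G := ⁅(⊤ : Subgroup G), ⊤⁆ with hD
  set M := powerClosure 2 1 D with hM
  haveI : M.Normal := powerClosure_normal 1 D
  have hab : QuotientGroup.mk' M a * QuotientGroup.mk' M b =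
      QuotientGroup.mk' M b * QuotientGroup.mk' M a := by
    have h1 := congrArg (QuotientGroup.mk' M) habc
    simp only [pow_one, pow_two, map_mul, show QuotientGroup.mk' M c = 1 from
      (QuotientGroup.eq_one_iff c).mpr hc, mul_one] at h1
    generalize QuotientGroup.mk' M a = u at h1 ⊢
    generalize QuotientGroup.mk' M b = v at h1 ⊢
    simp only [mul_assoc, mul_right_inj] at h1
    exact (mul_right_cancel (b := v) (by simpa [mul_assoc] using h1)).symm
  have hcomm : ∀ x y : G ⧸ M, x * y = y * x := by
    set u := QuotientGroup.mk' M a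
    set v := QuotientGroup.mk' M b
    have htop' : Subgroup.closure ({u, v} : Set (G ⧸ M)) = ⊤ := by
      have := congrArg (Subgroup.map (QuotientGroup.mk' M)) htop
      rwa [MonoidHom.map_closure, Set.image_pair,
        Subgroup.map_top_of_surjective _ (QuotientGroup.mk'_surjective M)] at this
    haveI : IsMulCommutative (Subgroup.closure ({u, v} : Set (G ⧸ M))) :=
      Subgroup.isMulCommutative_closure (by
        rintro x (rfl | rfl) y (rfl | rfl)
        · rfl
        · exact hab
        · exact hab.symm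
        · rfl)
    intro x y
    exact congrArg Subtype.val (IsMulCommutative.is_comm.comm
      (⟨x, htop' ▸ Subgroup.mem_top x⟩ : Subgroup.closure ({u, v} : Set (G ⧸ M)))
      ⟨y, htop' ▸ Subgroup.mem_top y⟩)
  have hDM : D ≤ M := by
    rw [hD, Subgroup.commutator_le]
    intro x _ y _
    rw [← QuotientGroup.eq_one_iff]
    change QuotientGroup.mk' M ⁅x, y⁆ = 1
    rw [map_commutatorElement, commutatorElement_eq_one_iff_commute]
    exact hcomm _ _
  have hDbot : D = ⊥ := by
    by_contra hne
    haveI : Nontrivial D := (Subgroup.nontrivial_iff_ne_bot D).mpr hne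
    have hle : (⊤ : Subgroup D) ≤ frattini D := by
      rw [← Subgroup.map_le_map_iff_of_injective D.subtype_injective, ← MonoidHom.range_eq_map,
        Subgroup.range_subtype]
      refine hDM.trans ?_
      rw [hM, powerClosure, Subgroup.closure_le]
      rintro _ ⟨x, hx, rfl⟩
      exact ⟨⟨x, hx⟩ ^ 2, Cfsg.Agent.PGroup.pow_mem_frattini (hG.1.to_subgroup D) _, by simp⟩
    obtain ⟨K, hK, -⟩ := (IsCoatomic.eq_top_or_exists_le_coatom (⊥ : Subgroup D)).resolve_left bot_ne_top
    exact hK.1 (top_le_iff.mp (hle.trans (frattini_le_coatom hK)))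
  have := Subgroup.commutator_mem_commutator (Subgroup.mem_top a) (Subgroup.mem_top b)
  rw [← hD, hDbot, Subgroup.mem_bot, commutatorElement_eq_one_iff_commute] at this
  exact this

theorem two_regular_iff [Finite G] (hG : IsPGroup 2 G) :
    IsRegularPGroup 2 G ↔ ∀ a b : G, a * b = b * a := by
  refine ⟨fun h a b => ?_, isRegularPGroup_of_comm hG⟩
  set S := Subgroup.closure ({a, b} : Set G)
  have ha : a ∈ S := Subgroup.subset_closure (by simp)
  have hb : b ∈ S := Subgroup.subset_closure (by simp)
  have htop : Subgroup.closure ({⟨a, ha⟩, ⟨b, hb⟩} : Set S) = ⊤ := by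
    apply Subgroup.map_injective S.subtype_injective
    rw [MonoidHom.map_closure, Set.image_pair, ← MonoidHom.range_eq_map, Subgroup.range_subtype]
    rfl
  exact congrArg Subtype.val (commute_of_regular_two (isRegularPGroup_subgroup h S) _ _ htop)

end Cfsg.Agent.PLocalB
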