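import Cfsg.Agent.Lib.PGroup.NormalRankTwo
import Cfsg.Agent.Lib.PGroup.OmegaSmallClass
import Cfsg.Agent.Lib.Thompson.Cores
import Cfsg.Agent.PLocalB.MaximalClassNormal
import Cfsg.Agent.PLocalB.RegularBasic
import Cfsg.Agent.PLocalB.Replacement
import Cfsg.Prelude.Def_OddOrderLocal

/-!
Huppert's criterion for metacyclic `p`-groups.
-/

set_option autoImplicit false
set_option linter.style.haveILetI false

open scoped commutatorElement

namespace Cfsg.Agent.PLocalB

variable {p : ℕ} [Fact p.Prime]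

theorem card_omegaOne_equiv {R S : Type*} [Group R] [Group S] (e : R ≃* S) :
    Nat.card ↥(omegaOne p (⊤ : Subgroup S)) = Nat.card ↥(omegaOne p (⊤ : Subgroup R)) := by
  have h : omegaOne p (⊤ : Subgroup S) = (omegaOne p (⊤ : Subgroup R)).map e.toMonoidHom := by
    rw [omegaOne, omegaOne, MonoidHom.map_closure]
    congr 1
    ext y
    obtain ⟨x, rfl⟩ := e.surjective y
    constructor
    · intro hx
      exact ⟨x, ⟨Subgroup.mem_top x, e.injective (by simpa using hx.2)⟩, rfl⟩
    · rintro ⟨u, hu, hux⟩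
      rw [← e.injective hux]
      exact ⟨Subgroup.mem_top _, by rw [← map_pow, hu.2, map_one]⟩
  rw [h, Subgroup.card_map_of_injective e.injective]

theorem omegaOne_small_central {R : Type*} [Group R] [Finite R] (hp : 3 < p) (hR : IsPGroup p R)
    (hO : Nat.card ↥(omegaOne p (⊤ : Subgroup R)) ≤ p ^ 2) (Z : Subgroup R) [Z.Normal]
    (hZ : Z ≤ Subgroup.center R) (hZc : Nat.card Z = p) :
    Nat.card ↥(omegaOne p (⊤ : Subgroup (R ⧸ Z))) ≤ p ^ 2 := by
  have hpp := (Fact.out : p.Prime)
  by_contra hbig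
  push Not at hbig
  have hQ : IsPGroup p (R ⧸ Z) := hR.to_quotient Z
  have hnc : ¬ IsCyclic (R ⧸ Z) := by
    intro hc
    haveI := hc
    letI := IsCyclic.commGroup (α := R ⧸ Z)
    obtain ⟨g, hg⟩ := (inferInstance : IsCyclic ↥(omegaOne p (⊤ : Subgroup (R ⧸ Z)))).exists_ofOrder_eq_natCard
    have hroot : (g : R ⧸ Z) ^ p = 1 := by
      have h : ∀ x ∈ omegaOne p (⊤ : Subgroup (R ⧸ Z)), x ^ p = 1 := fun x hx => by
        induction hx using Subgroup.closure_induction with
        | mem y hy => exact hy.2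
        | one => exact one_pow p
        | mul u v _ _ hu hv => rw [mul_pow, hu, hv, one_mul]
        | inv u _ hu => rw [inv_pow, hu, inv_one]
      exact h g g.2
    have hgp : g ^ p = 1 := Subtype.ext (by simpa using hroot)
    have h2 := Nat.le_of_dvd hpp.pos (hg ▸ orderOf_dvd_of_pow_eq_one hgp)
    have h3 : p ≤ p ^ 2 := Nat.le_self_pow two_ne_zero p
    omega
  obtain ⟨B, hBn, -, hBp, hBc⟩ := Cfsg.Agent.PGroup.exists_normal_elementary_sq hQ (by omega) hnc
  haveI := hBn
  obtain ⟨x, hxp, hxB⟩ : ∃ x : R ⧸ Z, x ^ p = 1 ∧ x ∉ B := by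
    by_contra hall
    push Not at hall
    have hle : omegaOne p (⊤ : Subgroup (R ⧸ Z)) ≤ B :=
      (Subgroup.closure_le B).mpr fun x hx => hall x hx.2
    have h1 := Subgroup.card_le_of_le hle
    omega
  set X := B ⊔ Subgroup.zpowers x with hX
  have hXc : Nat.card X = p ^ 3 := by
    have hinf : B ⊓ Subgroup.zpowers x = ⊥ := by
      rw [Subgroup.eq_bot_iff_forall]
      intro y hy
      by_contra hy1
      have h1 : orderOf y = p := orderOf_eq_prime (hBp y hy.1) hy1
      have h2 : Subgroup.zpowers y = Subgroup.zpowers x := by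
        refine Subgroup.eq_of_le_of_card_ge (Subgroup.zpowers_le.mpr hy.2) ?_
        rw [Nat.card_zpowers, Nat.card_zpowers, h1]
        exact Nat.le_of_dvd hpp.pos (orderOf_dvd_of_pow_eq_one hxp)
      exact hxB (Subgroup.zpowers_le.mpr hy.1 (h2 ▸ Subgroup.mem_zpowers x))
    have hcard := card_sup_mul_card_inf (Subgroup.zpowers x) B
      (by rw [Subgroup.normalizer_eq_top B]; exact le_top)
    rw [inf_comm, hinf, Subgroup.card_bot, mul_one, hBc, Nat.card_zpowers,
      orderOf_eq_prime hxp (fun h => hxB (h ▸ one_mem B)), sup_comm] at hcard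
    rw [hX, hcard]
    ring
  have hXexp : ∀ y ∈ X, y ^ p = 1 := by
    intro y hy
    have hXp : IsPGroup p X := hQ.to_subgroup X
    have hcl : commutator X ≤ Subgroup.center X := by
      rw [← Subgroup.commutator_top_right_eq_bot_iff_le_center]
      by_contra hne
      have hne' : (⊤ : Subgroup X).lowerCentralSeries 2 ≠ ⊥ := by
        rwa [Subgroup.lowerCentralSeries_succ, Subgroup.lowerCentralSeries_one]
      have h1 := index_lowerCentralSeries_ge hXp 2 (by omega) hne'
      have h2 := Subgroup.card_mul_index ((⊤ : Subgroup X).lowerCentralSeries 2)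
      rw [hXc] at h2
      refine hne' (Subgroup.eq_bot_of_card_eq _ ?_)
      by_contra hc
      have h3 : 2 ≤ Nat.card ((⊤ : Subgroup X).lowerCentralSeries 2) := by
        have := Nat.card_pos (α := (⊤ : Subgroup X).lowerCentralSeries 2)
        omega
      simp only [Nat.reduceAdd] at h1
      have := Nat.mul_le_mul h3 h1
      have := pow_pos hpp.pos 3
      omega
    have htop : (⟨y, hy⟩ : X) ∈ Subgroup.closure {u : X | u ^ p = 1} := by
      have hle : X ≤ (Subgroup.closure {u : X | u ^ p = 1}).map X.subtype := by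
        refine sup_le (fun b hb => ⟨⟨b, Subgroup.mem_sup_left hb⟩, ?_, rfl⟩) (Subgroup.zpowers_le.mpr
          ⟨⟨x, Subgroup.mem_sup_right (Subgroup.mem_zpowers x)⟩, ?_, rfl⟩)
        · exact Subgroup.subset_closure (Subtype.ext (by simpa using hBp b hb))
        · exact Subgroup.subset_closure (Subtype.ext (by simpa using hxp))
      obtain ⟨u, hu, hue⟩ := hle hy
      rwa [show u = ⟨y, hy⟩ from Subtype.ext hue] at hu
    simpa using congrArg Subtype.val
      (Cfsg.Agent.PGroup.omega_pow_eq_one_classTwo hcl hpp (by omega) htop)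
  set U := X.comap (QuotientGroup.mk' Z) with hU
  have hUc : Nat.card U = p ^ 4 := by
    rw [hU, Cfsg.Agent.Thompson.card_comap_quotient, hXc, hZc]
    ring
  have hUp : IsPGroup p U := hR.to_subgroup U
  have hU3 : ⁅⁅commutator U, (⊤ : Subgroup U)⁆, (⊤ : Subgroup U)⁆ = ⊥ := by
    by_contra hne
    have hne' : (⊤ : Subgroup U).lowerCentralSeries 3 ≠ ⊥ := by
      rwa [Subgroup.lowerCentralSeries_succ, Subgroup.lowerCentralSeries_succ,
        Subgroup.lowerCentralSeries_one]
    have h1 := index_lowerCentralSeries_ge hUp 3 (by omega) hne'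
    have h2 := Subgroup.card_mul_index ((⊤ : Subgroup U).lowerCentralSeries 3)
    rw [hUc] at h2
    refine hne' (Subgroup.eq_bot_of_card_eq _ ?_)
    by_contra hc
    have h3 : 2 ≤ Nat.card ((⊤ : Subgroup U).lowerCentralSeries 3) := by
      have := Nat.card_pos (α := (⊤ : Subgroup U).lowerCentralSeries 3)
      omega
    simp only [Nat.reduceAdd] at h1
    have := Nat.mul_le_mul h3 h1
    have := pow_pos hpp.pos 4
    omega
  have hpowZ : ∀ u : U, (u : R) ^ p ∈ Z := fun u => by
    rw [← QuotientGroup.eq_one_iff, QuotientGroup.mk_pow]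
    exact hXexp _ u.2
  have hpowc : ∀ u : U, u ^ p ∈ Subgroup.center U := fun u => by
    rw [Subgroup.mem_center_iff]
    intro v
    exact Subtype.ext (by simpa using Subgroup.mem_center_iff.mp (hZ (hpowZ u)) v)
  have hcp : ∀ a b : U, ⁅b, a⁆ ^ p = 1 := by
    intro a b
    have he := Cfsg.Agent.PGroup.double_comm_mem_center hU3 b a b
    have hep : ⁅⁅b, a⁆, b⁆ ^ p = 1 := by
      rw [← Cfsg.Agent.PGroup.commutatorElement_pow_left (Cfsg.Agent.PGroup.commute_of_mem_center he _),
        commutatorElement_eq_one_iff_commute]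
      exact Cfsg.Agent.PGroup.commute_of_mem_center (hpowc _) b
    have h1 := Cfsg.Agent.PGroup.pow_mul_eq_classThree he p
    obtain ⟨k, hk⟩ := hpp.dvd_choose_self two_ne_zero (by omega : 2 < p)
    rw [hk, pow_mul, hep, one_pow, mul_one,
      (Cfsg.Agent.PGroup.commute_of_mem_center (hpowc b) a).eq, mul_assoc] at h1
    exact right_eq_mul.mp h1
  have hmul : ∀ a b : U, (a * b) ^ p = a ^ p * b ^ p := fun a b =>
    Cfsg.Agent.PGroup.mul_pow_prime_classThree hpp hp
      (Cfsg.Agent.PGroup.double_comm_mem_center hU3 b a a)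
      (Cfsg.Agent.PGroup.double_comm_mem_center hU3 b a b) (hcp a b)
  let f : U →* U :=
    { toFun := fun u => u ^ p
      map_one' := one_pow p
      map_mul' := hmul }
  have hrange : Nat.card f.range ≤ p := by
    have hle : f.range ≤ Z.subgroupOf U := by
      rintro _ ⟨u, rfl⟩
      simpa [Subgroup.mem_subgroupOf, f] using hpowZ u
    exact (Subgroup.card_le_of_le hle).trans
      ((Nat.le_of_dvd Nat.card_pos (Subgroup.card_comap_dvd_of_injective Z _ U.subtype_injective)).trans hZc.le)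
  have hker : (f.ker).map U.subtype ≤ omegaOne p (⊤ : Subgroup R) := by
    rintro _ ⟨u, hu, rfl⟩
    exact Subgroup.subset_closure ⟨Subgroup.mem_top _, by simpa [f] using congrArg Subtype.val hu⟩
  have h1 := (Subgroup.card_le_of_le hker).trans hO
  rw [Subgroup.card_map_of_injective U.subtype_injective] at h1
  have h2 := Subgroup.card_mul_index f.ker
  rw [Subgroup.index_ker, hUc] at h2
  have h3 := Nat.mul_le_mul h1 hrange
  rw [h2, ← pow_succ] at h3
  exact absurd ((Nat.pow_le_pow_iff_right hpp.one_lt).mp h3) (by omega)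

theorem omegaOne_small_quotient_aux (hp : 3 < p) : ∀ (m : ℕ) {R : Type*} [Group R] [Finite R],
    Nat.card R = m → IsPGroup p R → Nat.card ↥(omegaOne p (⊤ : Subgroup R)) ≤ p ^ 2 →
      ∀ (T : Subgroup R) [T.Normal], Nat.card ↥(omegaOne p (⊤ : Subgroup (R ⧸ T))) ≤ p ^ 2 := by
  intro m
  induction m using Nat.strong_induction_on with
  | _ m ih =>
  intro R _ _ hm hR hO T _
  by_cases hT : T = ⊥
  · subst hT
    rw [card_omegaOne_equiv (QuotientGroup.quotientBot (G := R)).symm]
    exact hO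
  obtain ⟨z, hz, hz1, hzp⟩ := Cfsg.Agent.PGroup.exists_mem_pow_eq_one hR
    (Cfsg.Agent.PGroup.inf_center_ne_bot hR (N := T) hT)
  set Z := Subgroup.zpowers z with hZ
  have hZle : Z ≤ Subgroup.center R := Subgroup.zpowers_le.mpr hz.2
  haveI : Z.Normal := ⟨fun u hu g => by
    rw [Subgroup.mem_center_iff.mp (hZle hu) g, mul_inv_cancel_right]; exact hu⟩
  have hZc : Nat.card Z = p := by rw [Nat.card_zpowers, orderOf_eq_prime hzp hz1]
  have hlt : Nat.card (R ⧸ Z) < m := by
    rw [← hm, Subgroup.card_eq_card_quotient_mul_card_subgroup Z, hZc]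
    exact lt_mul_of_one_lt_right Nat.card_pos (Fact.out : p.Prime).one_lt
  haveI : (T.map (QuotientGroup.mk' Z)).Normal :=
    Subgroup.Normal.map inferInstance _ (QuotientGroup.mk'_surjective Z)
  have h := ih _ hlt rfl (hR.to_quotient Z) (omegaOne_small_central hp hR hO Z hZle hZc)
    (T.map (QuotientGroup.mk' Z))
  rwa [← card_omegaOne_equiv (QuotientGroup.quotientQuotientEquivQuotient Z T
    (Subgroup.zpowers_le.mpr hz.1))] at h

theorem omegaOne_small_quotient {R : Type*} [Group R] [Finite R] (hp : 3 < p) (hR : IsPGroup p R)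
    (hO : Nat.card ↥(omegaOne p (⊤ : Subgroup R)) ≤ p ^ 2) (T : Subgroup R) [T.Normal] :
    Nat.card ↥(omegaOne p (⊤ : Subgroup (R ⧸ T))) ≤ p ^ 2 :=
  omegaOne_small_quotient_aux hp _ rfl hR hO T

theorem commutator_le_of_forall_commute {R : Type*} [Group R] (N : Subgroup R) [N.Normal] (T : Set R)
    (htop : Subgroup.closure T = ⊤) (h : ∀ a ∈ T, ∀ b ∈ T, ⁅a, b⁆ ∈ N) : commutator R ≤ N := by
  rw [← QuotientGroup.ker_mk' N, ← Subgroup.map_eq_bot_iff, _root_.commutator, Subgroup.map_commutator,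
    Subgroup.commutator_eq_bot_iff_le_centralizer, Subgroup.le_centralizer_iff_isMulCommutative,
    ← htop, MonoidHom.map_closure]
  refine Subgroup.isMulCommutative_closure ?_
  rintro _ ⟨a, ha, rfl⟩ _ ⟨b, hb, rfl⟩
  rw [← commutatorElement_eq_one_iff_mul_comm, ← map_commutatorElement]
  exact (QuotientGroup.eq_one_iff _).mpr (h a ha b hb)

theorem metacyclic_aux (hp : p ≠ 2) : ∀ (m : ℕ) {R : Type*} [Group R] [Finite R],
    Nat.card R = m → IsPGroup p R → (powerClosure p 1 (⊤ : Subgroup R)).index ≤ p ^ 2 →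
      IsMetacyclic R := by
  intro m
  induction m using Nat.strong_induction_on with
  | _ m ih =>
  intro R _ _ hm hR hidx
  have hpp := (Fact.out : p.Prime)
  set Φ := frattini R with hΦ
  set P := powerClosure p 1 (⊤ : Subgroup R) with hP
  haveI : P.Normal := powerClosure_normal 1 _
  have hPΦ : P ≤ Φ := by
    rw [hP, powerClosure, Subgroup.closure_le]
    rintro _ ⟨x, -, rfl⟩
    rw [pow_one]
    exact Cfsg.Agent.PGroup.pow_mem_frattini hR x
  by_cases hcyc : IsCyclic R
  · refine ⟨⊤, inferInstance, Subgroup.topEquiv.isCyclic.mpr hcyc, ?_⟩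
    haveI : Subsingleton (R ⧸ (⊤ : Subgroup R)) := QuotientGroup.subsingleton_quotient_top
    infer_instance
  have hΦi : p ^ 2 ≤ Φ.index := frattini_index_ge_sq hR hcyc
  have hPeq : P = Φ := by
    refine Subgroup.eq_of_le_of_card_ge hPΦ ?_
    have h1 := Subgroup.card_mul_index Φ
    have h2 := Subgroup.card_mul_index P
    refine Nat.le_of_mul_le_mul_right ?_ (Nat.pos_of_ne_zero (Subgroup.index_ne_zero_of_finite (H := Φ)))
    rw [h1, ← h2]
    exact Nat.mul_le_mul_left _ (hidx.trans hΦi)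
  have hquot : ∀ (W : Subgroup R) [W.Normal], ¬ W ≤ Φ → IsCyclic (R ⧸ W) := by
    intro W _ hW
    refine Cfsg.Agent.PGroup.isCyclic_of_index_frattini_le (hR.to_quotient W) ?_
    have hle : P.map (QuotientGroup.mk' W) ≤ frattini (R ⧸ W) := by
      rw [hP, powerClosure_map, powerClosure, Subgroup.closure_le]
      rintro _ ⟨x, -, rfl⟩
      rw [pow_one]
      exact Cfsg.Agent.PGroup.pow_mem_frattini (hR.to_quotient W) x
    refine (Nat.le_of_dvd (Nat.pos_of_ne_zero Subgroup.index_ne_zero_of_finite)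
      (Subgroup.index_dvd_of_le hle)).trans ?_
    rw [Subgroup.index_map, QuotientGroup.ker_mk',
      MonoidHom.range_eq_top_of_surjective _ (QuotientGroup.mk'_surjective W), Subgroup.index_top, mul_one]
    have hlt : P < P ⊔ W := lt_of_le_of_ne le_sup_left fun h => hW (hPΦ.trans' (h ▸ le_sup_right))
    have h1 := card_mul_le_of_lt (hR.to_subgroup _) hlt
    have h2 := Subgroup.card_mul_index (P ⊔ W)
    have h3 := Subgroup.card_mul_index P
    refine Nat.le_of_mul_le_mul_left ?_ (Nat.mul_pos hpp.pos (Nat.card_pos (α := P)))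
    calc p * Nat.card P * (P ⊔ W).index ≤ Nat.card ↥(P ⊔ W) * (P ⊔ W).index := Nat.mul_le_mul_right _ h1
      _ = Nat.card P * P.index := by rw [h2, h3]
      _ ≤ Nat.card P * p ^ 2 := Nat.mul_le_mul_left _ hidx
      _ = p * Nat.card P * p := by ring
  have hfinish : ∀ (w : R), w ∉ Φ → commutator R ≤ Subgroup.zpowers w → IsMetacyclic R := by
    intro w hw hd
    haveI hn : (Subgroup.zpowers w).Normal := ⟨fun u hu g => by
      have h1 : ⁅g, u⁆ ∈ Subgroup.zpowers w :=
        hd (Subgroup.commutator_mem_commutator (Subgroup.mem_top g) (Subgroup.mem_top u))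
      rw [show g * u * g⁻¹ = ⁅g, u⁆ * u by simp [commutatorElement_def]]
      exact Subgroup.mul_mem _ h1 hu⟩
    exact ⟨_, hn, inferInstance, hquot _ fun h => hw (h (Subgroup.mem_zpowers w))⟩
  have hne : Φ ≠ ⊤ := by
    intro h
    rw [h, Subgroup.index_top] at hΦi
    have := hpp.two_le
    nlinarith
  by_cases hab : commutator R = ⊥
  · obtain ⟨w, -, hw⟩ := SetLike.exists_of_lt (lt_top_iff_ne_top.mpr hne)
    exact hfinish w hw (by rw [hab]; exact bot_le)
  obtain ⟨z, hz, hz1, hzp⟩ := Cfsg.Agent.PGroup.exists_mem_pow_eq_one hR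
    (Cfsg.Agent.PGroup.inf_center_ne_bot hR (N := commutator R) hab)
  set Z := Subgroup.zpowers z with hZdef
  have hZle : Z ≤ Subgroup.center R := Subgroup.zpowers_le.mpr hz.2
  haveI : Z.Normal := ⟨fun u hu g => by
    rw [Subgroup.mem_center_iff.mp (hZle hu) g, mul_inv_cancel_right]; exact hu⟩
  have hzo : orderOf z = p := orderOf_eq_prime hzp hz1
  have hlt : Nat.card (R ⧸ Z) < m := by
    rw [← hm, Subgroup.card_eq_card_quotient_mul_card_subgroup Z, Nat.card_zpowers, hzo]
    exact lt_mul_of_one_lt_right Nat.card_pos hpp.one_lt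
  have hidx' : (powerClosure p 1 (⊤ : Subgroup (R ⧸ Z))).index ≤ p ^ 2 := by
    rw [← Subgroup.map_top_of_surjective _ (QuotientGroup.mk'_surjective Z), ← powerClosure_map]
    exact (Nat.le_of_dvd (Nat.pos_of_ne_zero Subgroup.index_ne_zero_of_finite)
      (Subgroup.index_map_dvd _ (QuotientGroup.mk'_surjective Z))).trans hidx
  obtain ⟨N', hN'n, hN'c, hN'q⟩ := ih _ hlt rfl (hR.to_quotient Z) hidx'
  haveI := hN'n
  set N := N'.comap (QuotientGroup.mk' Z) with hN
  haveI : N.Normal := hN'n.comap _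
  have hNq : IsCyclic (R ⧸ N) := by
    haveI := hN'q
    refine isCyclic_of_surjective
      (QuotientGroup.lift N' (QuotientGroup.lift Z (QuotientGroup.mk' N) ?_) ?_) ?_
    · intro x hx
      rw [MonoidHom.mem_ker, QuotientGroup.mk'_apply, QuotientGroup.eq_one_iff, hN, Subgroup.mem_comap,
        show QuotientGroup.mk' Z x = 1 from (QuotientGroup.eq_one_iff x).mpr hx]
      exact one_mem N'
    · intro y hy
      obtain ⟨x, rfl⟩ := QuotientGroup.mk'_surjective Z y
      exact (QuotientGroup.eq_one_iff x).mpr hy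
    · intro y
      obtain ⟨x, rfl⟩ := QuotientGroup.mk'_surjective N y
      exact ⟨QuotientGroup.mk (QuotientGroup.mk x), rfl⟩
  by_cases hNc : IsCyclic N
  · exact ⟨N, inferInstance, hNc, hNq⟩
  -- `N = ⟨n⟩ × Z`
  obtain ⟨⟨n', hn'⟩, hgen'⟩ := hN'c.exists_generator
  obtain ⟨n, rfl⟩ := QuotientGroup.mk'_surjective Z n'
  have hZN : Z ≤ N := fun x hx => by
    rw [hN, Subgroup.mem_comap, show QuotientGroup.mk' Z x = 1 from (QuotientGroup.eq_one_iff x).mpr hx]
    exact one_mem N'
  have hnN : n ∈ N := hn'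
  have hNgen : ∀ x ∈ N, ∃ (i : ℤ), ∃ u ∈ Z, x = n ^ i * u := by
    intro x hx
    obtain ⟨i, hi⟩ := Subgroup.mem_zpowers_iff.mp (hgen' ⟨_, hx⟩)
    have hi' : QuotientGroup.mk' Z (n ^ i) = QuotientGroup.mk' Z x := by
      rw [map_zpow]; exact congrArg Subtype.val hi
    exact ⟨i, (n ^ i)⁻¹ * x, QuotientGroup.eq.mp hi', by simp⟩
  have hzn : z ∉ Subgroup.zpowers n := by
    intro h
    apply hNc
    have : N = Subgroup.zpowers n := by
      refine le_antisymm (fun x hx => ?_) (Subgroup.zpowers_le.mpr hnN)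
      obtain ⟨i, u, hu, rfl⟩ := hNgen x hx
      exact Subgroup.mul_mem _ (Subgroup.zpow_mem_zpowers n i) (Subgroup.zpowers_le.mpr h hu)
    rw [this]
    infer_instance
  have hNcomm : ∀ x ∈ N, Commute x n := by
    intro x hx
    obtain ⟨i, u, hu, rfl⟩ := hNgen x hx
    exact ((Commute.refl n).zpow_left i).mul_left
      (Subgroup.mem_center_iff.mp (hZle hu) n).symm
  obtain ⟨b', hb'⟩ := hNq.exists_generator
  obtain ⟨b, rfl⟩ := QuotientGroup.mk'_surjective N b'
  set c := ⁅b, n⁆ with hc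
  have hcN : c ∈ N := by
    rw [hc, commutatorElement_def]
    exact N.mul_mem ((inferInstance : N.Normal).conj_mem n hnN b) (N.inv_mem hnN)
  have htop : Subgroup.closure ({n, z, b} : Set R) = ⊤ := by
    rw [Subgroup.eq_top_iff']
    intro x
    obtain ⟨i, hi⟩ := Subgroup.mem_zpowers_iff.mp (hb' (QuotientGroup.mk' N x))
    have hx : (b ^ i)⁻¹ * x ∈ N := QuotientGroup.eq.mp (by rw [← map_zpow] at hi; exact hi)
    obtain ⟨j, u, hu, hxe⟩ := hNgen _ hx
    rw [show x = b ^ i * (n ^ j * u) by rw [← hxe, mul_inv_cancel_left]]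
    refine Subgroup.mul_mem _ (Subgroup.zpow_mem _ (Subgroup.subset_closure (by simp)) i)
      (Subgroup.mul_mem _ (Subgroup.zpow_mem _ (Subgroup.subset_closure (by simp)) j) ?_)
    exact Subgroup.zpowers_le.mpr (Subgroup.subset_closure (by simp)) hu
  set C := Subgroup.zpowers c with hC
  have hbC : ∀ x ∈ C, b * x * b⁻¹ ∈ C := by
    obtain ⟨i, u, hu, hiu⟩ := hNgen c hcN
    have hbn : b * n * b⁻¹ = c * n := by simp [hc, commutatorElement_def]
    have hcb : b * c * b⁻¹ = c ^ (i + 1) := by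
      calc b * c * b⁻¹ = (b * n * b⁻¹) ^ i * (b * u * b⁻¹) := by
            rw [hiu, conj_zpow]; group
        _ = c ^ i * n ^ i * u := by
            rw [hbn, (hNcomm c hcN).mul_zpow, Subgroup.mem_center_iff.mp (hZle hu) b,
              mul_inv_cancel_right]
        _ = c ^ i * c := by rw [mul_assoc, ← hiu]
        _ = _ := (zpow_add_one c i).symm
    intro x hx
    obtain ⟨k, rfl⟩ := Subgroup.mem_zpowers_iff.mp hx
    rw [← conj_zpow, hcb]
    exact Subgroup.zpow_mem _ (Subgroup.zpow_mem_zpowers c _) k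
  have hnormC : ∀ g : R, (∀ x ∈ C, g * x * g⁻¹ ∈ C) → g ∈ Subgroup.normalizer (C : Set R) := by
    intro g hg
    have e : C.map (MulAut.conj g).toMonoidHom = C :=
      Subgroup.eq_of_le_of_card_ge (by rintro _ ⟨x, hx, rfl⟩; exact hg x hx)
        (Subgroup.card_map_of_injective (MulAut.conj g).injective).ge
    rw [Subgroup.mem_normalizer_iff]
    intro x
    refine ⟨hg x, fun hx => ?_⟩
    rw [← e] at hx
    obtain ⟨y, hy, hyx⟩ := hx
    exact (MulAut.conj g).injective hyx ▸ hy
  haveI hCn : C.Normal := by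
    rw [← Subgroup.normalizer_eq_top_iff, eq_top_iff, ← htop, Subgroup.closure_le]
    rintro g (rfl | rfl | rfl)
    · refine hnormC g fun x hx => ?_
      rw [← (hNcomm x (Subgroup.zpowers_le.mpr hcN hx)).eq, mul_inv_cancel_right]
      exact hx
    · refine hnormC g fun x hx => ?_
      rw [← Subgroup.mem_center_iff.mp hz.2 x, mul_inv_cancel_right]
      exact hx
    · exact hnormC g hbC
  have hzc : ∀ g : R, ⁅z, g⁆ = 1 := fun g =>
    commutatorElement_eq_one_iff_mul_comm.mpr (Subgroup.mem_center_iff.mp hz.2 g).symm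
  have hder : commutator R ≤ C := by
    refine commutator_le_of_forall_commute C _ htop ?_
    rintro x (rfl | rfl | rfl) y (rfl | rfl | rfl)
    · simp
    · rw [← commutatorElement_inv, hzc, inv_one]; exact one_mem _
    · rw [← commutatorElement_inv]; exact Subgroup.inv_mem _ (Subgroup.mem_zpowers _)
    · rw [hzc]; exact one_mem _
    · simp
    · rw [hzc]; exact one_mem _
    · exact Subgroup.mem_zpowers _
    · rw [← commutatorElement_inv, hzc, inv_one]; exact one_mem _
    · simp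
  have hcp : c ^ p = 1 := by
    by_contra hne1
    apply hzn
    obtain ⟨k, hk⟩ := Subgroup.mem_zpowers_iff.mp (hder hz.1)
    obtain ⟨a, ha⟩ := IsPGroup.iff_orderOf.mp hR c
    have ha2 : 2 ≤ a := by
      by_contra h
      apply hne1
      rw [← orderOf_dvd_iff_pow_eq_one, ha]
      calc p ^ a ∣ p ^ 1 := Nat.pow_dvd_pow p (by omega)
        _ = p := pow_one p
    have h1 : ((p ^ a : ℕ) : ℤ) ∣ k * p := by
      rw [← ha, orderOf_dvd_iff_zpow_eq_one, zpow_mul, hk, zpow_natCast, hzp]
    obtain ⟨t, rfl⟩ : (p : ℤ) ∣ k := by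
      obtain ⟨s, hs⟩ := h1
      refine ⟨(p : ℤ) ^ (a - 2) * s, ?_⟩
      refine mul_right_cancel₀ (show (p : ℤ) ≠ 0 by exact_mod_cast hpp.ne_zero) ?_
      rw [hs]
      conv_lhs => rw [show a = (a - 2) + 2 by omega]
      push_cast
      ring
    obtain ⟨i, u, hu, hiu⟩ := hNgen c hcN
    have hup : u ^ p = 1 := by
      obtain ⟨s, rfl⟩ := Subgroup.mem_zpowers_iff.mp hu
      rw [← zpow_natCast, ← zpow_mul, mul_comm, zpow_mul, zpow_natCast, hzp, one_zpow]
    have hcn : c ^ p = n ^ (i * p) := by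
      rw [hiu, ((hNcomm u (hZN hu)).zpow_right i).symm.mul_pow, hup, mul_one, zpow_mul, zpow_natCast]
    rw [← hk, zpow_mul, zpow_natCast, hcn]
    exact Subgroup.zpow_mem _ (Subgroup.zpow_mem_zpowers n _) t
  have hZC : Z = C := by
    refine Subgroup.eq_of_le_of_card_ge (Subgroup.zpowers_le.mpr (hder hz.1)) ?_
    rw [hZdef, hC, Nat.card_zpowers, Nat.card_zpowers, hzo]
    exact Nat.le_of_dvd hpp.pos (orderOf_dvd_of_pow_eq_one hcp)
  have hcl : commutator R ≤ Subgroup.center R := (hder.trans hZC.ge).trans hZle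
  have hpow : ∀ a b : R, (a * b) ^ p = a ^ p * b ^ p := fun a b => by
    refine Cfsg.Agent.PGroup.mul_pow_prime_classTwo hcl hpp hp ?_
    obtain ⟨s, hs⟩ := Subgroup.mem_zpowers_iff.mp ((hder.trans hZC.ge)
      (Subgroup.commutator_mem_commutator (Subgroup.mem_top b) (Subgroup.mem_top a)))
    rw [← hs, ← zpow_natCast, ← zpow_mul, mul_comm, zpow_mul, zpow_natCast, hzp, one_zpow]
  have hΦpow : ∀ x ∈ Φ, ∃ u, u ^ p = x := by
    intro x hx
    rw [← hPeq, hP, powerClosure] at hx
    induction hx using Subgroup.closure_induction with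
    | mem y hy => obtain ⟨u, -, rfl⟩ := hy; exact ⟨u, by rw [pow_one]⟩
    | one => exact ⟨1, one_pow p⟩
    | mul u v _ _ hu hv =>
      obtain ⟨a, rfl⟩ := hu
      obtain ⟨b, rfl⟩ := hv
      exact ⟨a * b, hpow a b⟩
    | inv u _ hu =>
      obtain ⟨a, rfl⟩ := hu
      exact ⟨a⁻¹, inv_pow a p⟩
  obtain ⟨w, hwz, hwmax⟩ := Set.exists_max_image {x : R | z ∈ Subgroup.zpowers x} (fun x => orderOf x)
    (Set.toFinite _) ⟨z, Subgroup.mem_zpowers z⟩
  refine hfinish w (fun hw => ?_) (hder.trans (hZC.ge.trans (Subgroup.zpowers_le.mpr hwz)))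
  obtain ⟨u, rfl⟩ := hΦpow w hw
  have h1 : orderOf u ≤ orderOf (u ^ p) :=
    hwmax u (Subgroup.zpowers_le.mpr (Subgroup.pow_mem _ (Subgroup.mem_zpowers u) p) hwz)
  have hdvd : p ∣ orderOf u := by
    obtain ⟨a, ha⟩ := IsPGroup.iff_orderOf.mp hR u
    rcases Nat.eq_zero_or_pos a with h | h
    · exfalso
      rw [h, pow_zero, orderOf_eq_one_iff] at ha
      simp only [ha, one_pow, Set.mem_setOf_eq, Subgroup.zpowers_one_eq_bot, Subgroup.mem_bot] at hwz
      exact hz1 hwz
    · rw [ha]; exact dvd_pow_self p h.ne'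
  rw [orderOf_pow_of_dvd hpp.ne_zero hdvd] at h1
  exact absurd h1 (not_le.mpr (Nat.div_lt_self (orderOf_pos u) hpp.one_lt))

theorem metacyclic_of_omega {R : Type*} [Group R] [Finite R] (hp : 3 < p) (hR : IsPGroup p R)
    (hO : Nat.card ↥(omegaOne p (⊤ : Subgroup R)) ≤ p ^ 2) : IsMetacyclic R := by
  refine metacyclic_aux (by omega) _ rfl hR ?_
  haveI : (powerClosure p 1 (⊤ : Subgroup R)).Normal := powerClosure_normal 1 _
  have htop : omegaOne p (⊤ : Subgroup (R ⧸ powerClosure p 1 (⊤ : Subgroup R))) = ⊤ := by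
    rw [Subgroup.eq_top_iff']
    intro y
    obtain ⟨x, rfl⟩ := QuotientGroup.mk'_surjective _ y
    refine Subgroup.subset_closure ⟨Subgroup.mem_top _, ?_⟩
    rw [← map_pow]
    exact (QuotientGroup.eq_one_iff _).mpr
      (Subgroup.subset_closure ⟨x, Subgroup.mem_top x, by rw [pow_one]⟩)
  have h := omegaOne_small_quotient hp hR hO (powerClosure p 1 (⊤ : Subgroup R))
  rw [htop, Subgroup.card_top] at h
  rwa [Subgroup.index_eq_card]

end Cfsg.Agent.PLocalB
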