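import Cfsg.Agent.Lib.PGroup.CyclicMax
import Cfsg.Agent.Lib.PGroup.NormalRankTwo
import Cfsg.Agent.Lib.Thompson.Cores
import Cfsg.Prelude.Def_PLocal
import Cfsg.Prelude.Def_OddOrderLocal

/-!
`Ω₁` of a metacyclic `p`-group, `p` odd.
-/

set_option autoImplicit false
set_option linter.style.haveILetI false

namespace Cfsg.Agent.PLocalB

variable {R : Type*} [Group R] [Finite R] {p : ℕ} [Fact p.Prime]

theorem omegaOne_metacyclic (hp : p ≠ 2) (hR : IsPGroup p R) (hm : IsMetacyclic R)
    (hnc : ¬ IsCyclic R) :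
    IsElementaryAbelian p (omegaOne p (⊤ : Subgroup R)) ∧
      Nat.card ↥(omegaOne p (⊤ : Subgroup R)) = p ^ 2 := by
  obtain ⟨N, hN, hNc, hQc⟩ := hm
  haveI := hN
  haveI := hQc
  have hne : (⊤ : Subgroup (R ⧸ N)) ≠ ⊥ := by
    intro h
    apply hnc
    have hNtop : N = ⊤ := by
      rw [eq_top_iff]
      intro x _
      exact (QuotientGroup.eq_one_iff x).mp (Subgroup.mem_bot.mp (h ▸ Subgroup.mem_top (x : R ⧸ N)))
    subst hNtop
    exact Subgroup.topEquiv.isCyclic.mp hNc
  obtain ⟨z, -, hz1, hzp⟩ := Cfsg.Agent.PGroup.exists_mem_pow_eq_one (hR.to_quotient N) hne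
  set M := (Subgroup.zpowers z).comap (QuotientGroup.mk' N) with hM
  have hoz : orderOf z = p := orderOf_eq_prime hzp hz1
  -- all `p`-th roots of unity lie in `M`
  have hroot : ∀ x : R, x ^ p = 1 → x ∈ M := by
    intro x hx
    rw [hM, Subgroup.mem_comap]
    have h1 : (QuotientGroup.mk' N x) ^ p = 1 := by rw [← map_pow, hx, map_one]
    have h2 : Subgroup.zpowers (QuotientGroup.mk' N x) ≤ Subgroup.zpowers z := by
      classical
      haveI := Fintype.ofFinite (R ⧸ N)
      intro y hy
      obtain ⟨i, rfl⟩ := Subgroup.mem_zpowers_iff.mp hy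
      refine Subgroup.zpow_mem _ ?_ i
      by_contra hnot
      have hcard := IsCyclic.card_pow_eq_one_le (α := R ⧸ N) (Fact.out : p.Prime).pos
      have hsub : insert (QuotientGroup.mk' N x) (Subgroup.zpowers z : Set (R ⧸ N)).toFinset ⊆
          Finset.univ.filter (fun a : R ⧸ N => a ^ p = 1) := by
        intro a ha
        simp only [Finset.mem_insert, Set.mem_toFinset, SetLike.mem_coe] at ha
        refine Finset.mem_filter.mpr ⟨Finset.mem_univ _, ?_⟩
        rcases ha with rfl | ha
        · exact h1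
        · obtain ⟨j, rfl⟩ := Subgroup.mem_zpowers_iff.mp ha
          rw [← zpow_natCast, ← zpow_mul, mul_comm, zpow_mul, zpow_natCast, hzp, one_zpow]
      have h3 := Finset.card_le_card hsub
      rw [Finset.card_insert_of_notMem (by simpa using hnot), Set.toFinset_card,
        ← Nat.card_eq_fintype_card] at h3
      rw [show Nat.card ↥(Subgroup.zpowers z : Set (R ⧸ N)) = p from
        (Nat.card_zpowers z).trans hoz] at h3
      omega
    exact h2 (Subgroup.mem_zpowers _)
  have hNM : N ≤ M := fun x hx => by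
    rw [hM, Subgroup.mem_comap, show QuotientGroup.mk' N x = 1 from (QuotientGroup.eq_one_iff x).mpr hx]
    exact one_mem _
  have hcard : Nat.card M = p * Nat.card N := by
    rw [hM, Cfsg.Agent.Thompson.card_comap_quotient, Nat.card_zpowers, hoz]
  have hNi : (N.subgroupOf M).index = p := by
    have h := Subgroup.card_mul_index (N.subgroupOf M)
    rw [Nat.card_congr (Subgroup.subgroupOfEquivOfLe hNM).toEquiv, hcard, mul_comm p] at h
    exact Nat.eq_of_mul_eq_mul_left Nat.card_pos h
  have hNc' : IsCyclic (N.subgroupOf M) := (Subgroup.subgroupOfEquivOfLe hNM).isCyclic.mpr hNc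
  have hMnc : ¬ IsCyclic M := by
    intro hMc
    obtain ⟨B, -, -, hBp, hBc⟩ := Cfsg.Agent.PGroup.exists_normal_elementary_sq hR hp hnc
    have hBM : B ≤ M := fun b hb => hroot b (hBp b hb)
    haveI := hMc
    haveI hBcyc : IsCyclic B :=
      isCyclic_of_injective (Subgroup.inclusion hBM) (Subgroup.inclusion_injective hBM)
    obtain ⟨g, hg⟩ := hBcyc.exists_ofOrder_eq_natCard
    have h1 : orderOf g ∣ p := orderOf_dvd_of_pow_eq_one (Subtype.ext (by simpa using hBp g g.2))
    rw [hg, hBc] at h1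
    have h2 : p ^ 2 ≤ p := Nat.le_of_dvd (Fact.out : p.Prime).pos h1
    have h3 := (Fact.out : p.Prime).two_le
    nlinarith
  obtain ⟨h1, h2, h3⟩ := Cfsg.Agent.PGroup.omega_of_cyclic_maximal (hR.to_subgroup M) hp hMnc hNc' hNi
  have heq : omegaOne p (⊤ : Subgroup R) = (Subgroup.closure {x : M | x ^ p = 1}).map M.subtype := by
    rw [omegaOne, MonoidHom.map_closure]
    congr 1
    ext x
    constructor
    · rintro ⟨-, hx⟩
      exact ⟨⟨x, hroot x hx⟩, Subtype.ext (by simpa using hx), rfl⟩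
    · rintro ⟨y, hy, rfl⟩
      exact ⟨Subgroup.mem_top _, by simpa using congrArg Subtype.val hy⟩
  rw [heq]
  haveI := h2
  refine ⟨⟨inferInstance, ?_⟩, ?_⟩
  · rintro _ ⟨x, hx, rfl⟩
    rw [← map_pow, h1 x hx, map_one]
  · rw [Subgroup.card_map_of_injective M.subtype_injective, h3]

end Cfsg.Agent.PLocalB
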