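import Cfsg.Agent.Lib.PGroup.CyclicMax
import Cfsg.Agent.Lib.PGroup.NormalRankTwo
import Cfsg.Prelude.Def_Transfer
import Cfsg.Agent.Lib.Thompson.Cores

/-!
Normal elementary abelian subgroups of order `p ^ 2` inside a noncyclic normal subgroup.
-/

set_option autoImplicit false
set_option linter.style.haveILetI false

namespace Cfsg.Agent.PLocalB

variable {R : Type*} [Group R] [Finite R] {p : ℕ} [Fact p.Prime]

theorem map_closure_roots_normal (B : Subgroup R) [B.Normal] (n : ℕ) :
    ((Subgroup.closure {x : B | x ^ n = 1}).map B.subtype).Normal := by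
  haveI := Cfsg.Agent.PGroup.closure_pow_eq_one_characteristic (G := B) n
  infer_instance

theorem exists_normal_elementary_sq_le (hp : p ≠ 2) (hR : IsPGroup p R) (S : Subgroup R) [S.Normal]
    (hS : ¬ IsCyclic S) :
    ∃ A : Subgroup R, A ≤ S ∧ A.Normal ∧ IsElementaryAbelian p A ∧ Nat.card A = p ^ 2 := by
  classical
  obtain ⟨A, ⟨hAS, hAn, hAc⟩, hmax⟩ := Set.exists_max_image
    {A : Subgroup R | A ≤ S ∧ A.Normal ∧ IsCyclic A} (fun A => Nat.card A) (Set.toFinite _)
    ⟨⊥, bot_le, inferInstance, inferInstance⟩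
  haveI := hAn
  have hne : S.map (QuotientGroup.mk' A) ≠ ⊥ := by
    intro h
    rw [Subgroup.map_eq_bot_iff, QuotientGroup.ker_mk'] at h
    exact hS (le_antisymm hAS h ▸ hAc)
  obtain ⟨k, hk⟩ := Cfsg.Agent.PGroup.exists_card_eq_pow (hR.to_quotient A) (S.map (QuotientGroup.mk' A))
  have hk1 : 1 ≤ k := by
    rcases Nat.eq_zero_or_pos k with h | h
    · exact absurd (Subgroup.eq_bot_of_card_eq _ (by rw [hk, h, pow_zero])) hne
    · exact h
  haveI : (S.map (QuotientGroup.mk' A)).Normal :=
    Subgroup.Normal.map inferInstance _ (QuotientGroup.mk'_surjective A)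
  obtain ⟨K, hKS, hKn, hKc⟩ := Cfsg.Agent.PGroup.exists_normal_le_card (hR.to_quotient A) _ 1 hk hk1
  rw [pow_one] at hKc
  set B := K.comap (QuotientGroup.mk' A) with hB
  haveI : B.Normal := hKn.comap _
  have hAB : A ≤ B := fun x hx => by
    rw [hB, Subgroup.mem_comap, show QuotientGroup.mk' A x = 1 from (QuotientGroup.eq_one_iff x).mpr hx]
    exact one_mem K
  have hBS : B ≤ S := by
    intro x hx
    have : x ∈ (S.map (QuotientGroup.mk' A)).comap (QuotientGroup.mk' A) := hKS hx
    rwa [Subgroup.comap_map_eq, QuotientGroup.ker_mk', sup_of_le_left hAS] at this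
  have hcard : Nat.card B = Nat.card A * p := by
    rw [hB, ← hKc]
    rw [mul_comm]
    exact Cfsg.Agent.Thompson.card_comap_quotient A K
  have hAi : (A.subgroupOf B).index = p := by
    have h := Subgroup.card_mul_index (A.subgroupOf B)
    rw [Nat.card_congr (Subgroup.subgroupOfEquivOfLe hAB).toEquiv, hcard] at h
    exact Nat.eq_of_mul_eq_mul_left Nat.card_pos h
  have hBnc : ¬ IsCyclic B := by
    intro hc
    have h := hmax B ⟨hBS, inferInstance, hc⟩
    rw [hcard] at h
    have := Nat.lt_mul_iff_one_lt_right (Nat.card_pos (α := A)) |>.mpr (Fact.out : p.Prime).one_lt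
    omega
  have hAc' : IsCyclic (A.subgroupOf B) :=
    (Subgroup.subgroupOfEquivOfLe hAB).isCyclic.mpr hAc
  obtain ⟨h1, h2, h3⟩ := Cfsg.Agent.PGroup.omega_of_cyclic_maximal (hR.to_subgroup B) hp hBnc hAc' hAi
  refine ⟨(Subgroup.closure {x : B | x ^ p = 1}).map B.subtype, (Subgroup.map_subtype_le _).trans hBS,
    map_closure_roots_normal B p, ⟨inferInstance, ?_⟩, ?_⟩
  · rintro _ ⟨x, hx, rfl⟩
    rw [← map_pow, h1 x hx, map_one]
  · rw [Subgroup.card_map_of_injective B.subtype_injective, h3]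

end Cfsg.Agent.PLocalB
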