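import Cfsg.Agent.PLocalB.QuadIrreducible
import Cfsg.Agent.ConjFunctor.Basic
import Cfsg.Agent.Lib.Thompson.Cores
import Cfsg.Agent.Lib.PGroup.Basic
import Cfsg.Agent.PLocalB.PStable

/-!
A group acting on a `p`-group `B` in which a proper subgroup `M` contains a Sylow subgroup and the
normalizer of its quadratic part has a minimal subgroup generated by a quadratic pair. From it one
gets a natural-module section of `B` and a torus element of `M` acting on it.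
-/

set_option autoImplicit false
set_option linter.style.haveILetI false

open scoped commutatorElement

namespace Cfsg.Agent.PLocalB

open Cfsg.Agent.ConjFunctor

variable {G : Type*} [Group G]

/-- The elements of `nrm Y` centralizing the set `X` modulo `Y`. -/
def centMod (Y : Subgroup G) (X : Set G) : Subgroup G where
  carrier := {g | g ∈ nrm Y ∧ ∀ x ∈ X, ⁅g, x⁆ ∈ Y}
  one_mem' := ⟨one_mem _, fun x _ => by simp⟩
  mul_mem' := by
    rintro g h ⟨hg, hg'⟩ ⟨hh, hh'⟩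
    refine ⟨mul_mem hg hh, fun x hx => ?_⟩
    rw [show ⁅g * h, x⁆ = g * ⁅h, x⁆ * g⁻¹ * ⁅g, x⁆ by simp [commutatorElement_def, mul_assoc]]
    exact mul_mem (conj_mem_of_nrm hg (hh' x hx)) (hg' x hx)
  inv_mem' := by
    rintro g ⟨hg, hg'⟩
    refine ⟨inv_mem hg, fun x hx => ?_⟩
    rw [show ⁅g⁻¹, x⁆ = g⁻¹ * ⁅g, x⁆⁻¹ * g⁻¹⁻¹ by simp [commutatorElement_def, mul_assoc]]
    exact conj_mem_of_nrm (inv_mem hg) (inv_mem (hg' x hx))

theorem mem_centMod {Y : Subgroup G} {X : Set G} {g : G} :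
    g ∈ centMod Y X ↔ g ∈ nrm Y ∧ ∀ x ∈ X, ⁅g, x⁆ ∈ Y := Iff.rfl

/-- The elements acting quadratically on `B` modulo `Y₀`. -/
def quadSet (B Y₀ : Subgroup G) : Set G := {g | ∀ b ∈ B, ⁅g, ⁅g, b⁆⁆ ∈ Y₀}

theorem conj_mem_quadSet {B Y₀ : Subgroup G} {u g : G} (hB : u ∈ nrm B) (hY : u ∈ nrm Y₀)
    (hg : g ∈ quadSet B Y₀) : u * g * u⁻¹ ∈ quadSet B Y₀ := by
  intro b hb
  rw [show ⁅u * g * u⁻¹, ⁅u * g * u⁻¹, b⁆⁆ = u * ⁅g, ⁅g, u⁻¹ * b * u⁻¹⁻¹⁆⁆ * u⁻¹ by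
    simp [commutatorElement_def, mul_assoc]]
  exact conj_mem_of_nrm hY (hg _ (conj_mem_of_nrm (inv_mem hB) hb))

/-- The subgroup generated by the elements of `P` quadratic on `B` modulo `Y₀`. -/
def qgen (B Y₀ P : Subgroup G) : Subgroup G := Subgroup.closure {g | g ∈ P ∧ g ∈ quadSet B Y₀}

theorem qgen_le (B Y₀ P : Subgroup G) : qgen B Y₀ P ≤ P :=
  (Subgroup.closure_le _).2 fun _ hg => hg.1

theorem mem_qgen {B Y₀ P : Subgroup G} {g : G} (h : g ∈ P) (hq : g ∈ quadSet B Y₀) :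
    g ∈ qgen B Y₀ P := Subgroup.subset_closure ⟨h, hq⟩

theorem qgen_mono {B Y₀ P Q : Subgroup G} (h : P ≤ Q) : qgen B Y₀ P ≤ qgen B Y₀ Q :=
  Subgroup.closure_mono fun _ hg => ⟨h hg.1, hg.2⟩

theorem qgen_qgen (B Y₀ P : Subgroup G) : qgen B Y₀ (qgen B Y₀ P) = qgen B Y₀ P :=
  le_antisymm (qgen_le _ _ _) ((Subgroup.closure_le _).2 fun _ hg =>
    mem_qgen (mem_qgen hg.1 hg.2) hg.2)

theorem cnj_qgen_le {B Y₀ : Subgroup G} {u : G} (hB : u ∈ nrm B) (hY : u ∈ nrm Y₀) (P : Subgroup G) :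
    cnj u (qgen B Y₀ P) ≤ qgen B Y₀ (cnj u P) := by
  rw [qgen, cnj, MonoidHom.map_closure, Subgroup.closure_le]
  rintro _ ⟨g, hg, rfl⟩
  exact mem_qgen (conj_mem_cnj.2 hg.1) (conj_mem_quadSet hB hY hg.2)

theorem cnj_qgen {B Y₀ : Subgroup G} {u : G} (hB : u ∈ nrm B) (hY : u ∈ nrm Y₀) (P : Subgroup G) :
    cnj u (qgen B Y₀ P) = qgen B Y₀ (cnj u P) := by
  refine le_antisymm (cnj_qgen_le hB hY P) ?_
  have h := cnj_qgen_le (inv_mem hB) (inv_mem hY) (cnj u P)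
  rw [cnj_inv_cnj, cnj_le_iff, inv_inv] at h
  exact h

theorem mem_nrm_qgen {B Y₀ P : Subgroup G} {u : G} (hB : u ∈ nrm B) (hY : u ∈ nrm Y₀)
    (hu : u ∈ nrm P) : u ∈ nrm (qgen B Y₀ P) := by
  rw [mem_nrm_iff_cnj, cnj_qgen hB hY, mem_nrm_iff_cnj.1 hu]

/-- The output: a two dimensional section `Y⟨x₀, y₂⟩ / Y` of `B`, with `q` acting as a transvection
and `h` as `diag (n, n⁻¹)`. -/
structure SectionFrame (p : ℕ) (B Y₀ X M : Subgroup G) (n : ZMod p) where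
  /-- the bottom -/
  Y : Subgroup G
  /-- the transvection -/
  q : G
  /-- the torus element -/
  h : G
  /-- the fixed vector -/
  x₀ : G
  /-- the moved vector -/
  y₂ : G
  bot_le : Y₀ ≤ Y
  le_B : Y ≤ B
  q_mem : q ∈ M
  h_mem : h ∈ M
  q_nrm : q ∈ nrm Y
  h_nrm : h ∈ nrm Y
  B_nrm : B ≤ nrm Y
  x₀_X : x₀ ∈ X
  y₂_B : y₂ ∈ B
  x₀_not : x₀ ∉ Y
  x₀_pow : x₀ ^ p ∈ Y
  y₂_pow : y₂ ^ p ∈ Y
  comm : ⁅x₀, y₂⁆ ∈ Y
  q_x₀ : ⁅q, x₀⁆ ∈ Y
  q_y₂ : ⁅q, y₂⁆ * x₀⁻¹ ∈ Y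
  h_x₀ : h * x₀ * h⁻¹ * (x₀ ^ n.val)⁻¹ ∈ Y
  h_y₂ : h * y₂ * h⁻¹ * (y₂ ^ n⁻¹.val)⁻¹ ∈ Y

variable [Finite G] {p : ℕ} [Fact p.Prime] {B Y₀ X M K : Subgroup G}

/-- A `p`-group normalizing a section of `p`-power order fixes a nontrivial element of it. -/
theorem exists_fixed_section {Y Y' P : Subgroup G} (hY'p : IsPGroup p Y') (hP : IsPGroup p P)
    (hYY' : Y < Y') (hY'N : Y' ≤ nrm Y) (hPN : P ≤ nrm Y) (hPY' : P ≤ nrm Y') :
    ∃ y ∈ Y', y ∉ Y ∧ ∀ d ∈ P, ⁅d, y⁆ ∈ Y := by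
  set N := nrm Y
  set Z := Y' ⊔ P with hZ
  have hZN : Z ≤ N := sup_le hY'N hPN
  have hZp : IsPGroup p Z := hY'p.to_sup_of_normal_left' hP hPY'
  haveI : (Y.subgroupOf Z).Normal := Subgroup.normal_subgroupOf_of_le_normalizer hZN
  haveI : (Y'.subgroupOf Z).Normal :=
    Subgroup.normal_subgroupOf_of_le_normalizer (sup_le Subgroup.le_normalizer hPY')
  set f := QuotientGroup.mk' (Y.subgroupOf Z) with hf
  haveI : ((Y'.subgroupOf Z).map f).Normal :=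
    Subgroup.Normal.map inferInstance _ (QuotientGroup.mk'_surjective _)
  have hne : (Y'.subgroupOf Z).map f ≠ ⊥ := by
    rw [Ne, Subgroup.map_eq_bot_iff, hf, QuotientGroup.ker_mk']
    intro hle
    exact hYY'.not_ge fun y hy =>
      hle (Subgroup.mem_subgroupOf.2 hy : (⟨y, le_sup_left (b := P) hy⟩ : ↥Z) ∈ Y'.subgroupOf Z)
  have h1 := PGroup.inf_center_ne_bot (hZp.to_quotient (Y.subgroupOf Z)) hne
  obtain ⟨⟨c, ⟨y, hy, rfl⟩, hc⟩, hc1⟩ := Subgroup.ne_bot_iff_exists_ne_one.1 h1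
  refine ⟨y, hy, fun hyY => hc1 (Subtype.ext ((QuotientGroup.eq_one_iff y).2 hyY)),
    fun d hd => ?_⟩
  have h2 := Subgroup.mem_center_iff.1 hc (f ⟨d, le_sup_right (a := Y') hd⟩)
  have h3 : f ⁅(⟨d, le_sup_right (a := Y') hd⟩ : ↥Z), y⁆ = 1 := by
    rw [map_commutatorElement, commutatorElement_eq_one_iff_mul_comm]
    exact h2
  have h4 := (QuotientGroup.eq_one_iff (N := Y.subgroupOf Z) _).1 h3
  exact h4

/-- Being Sylow in a subgroup follows from the normalizer of the quadratic part lying in `M`. -/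
theorem isSylowIn_of_good {U P : Subgroup G} (hP : IsSylowIn p P (U ⊓ M)) (hUB : U ≤ nrm B)
    (hUY : U ≤ nrm Y₀) (hgood : U ⊓ nrm (qgen B Y₀ P) ≤ M) : IsSylowIn p P U := by
  obtain ⟨T, hT, hPT⟩ := exists_isSylowIn U hP.isPGroup (hP.le.trans inf_le_left)
  rcases eq_or_ne P T with rfl | hne
  · exact hT
  · have hlt := lt_inf_nrm hT.isPGroup hPT hne
    have hle : T ⊓ nrm P ≤ U ⊓ M := fun y hy =>
      ⟨hT.le hy.1, hgood ⟨hT.le hy.1, mem_nrm_qgen (hUB (hT.le hy.1)) (hUY (hT.le hy.1)) hy.2⟩⟩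
    exact absurd (hP.eq_of_le hT.isPGroup.to_inf_left hle hlt.le) hlt.ne'

/-- The hypothesis on a subgroup `U`. -/
def PairHyp (p : ℕ) (B Y₀ M U : Subgroup G) : Prop :=
  ¬ U ≤ M ∧ ∃ P, IsSylowIn p P U ∧ P ≤ M ∧ U ⊓ nrm (qgen B Y₀ P) ≤ M

set_option maxHeartbeats 1000000 in
/-- The minimal configuration. -/
theorem frame_of_minimal (hp : p ≠ 2) (hBp : IsPGroup p B) (hY₀B : Y₀ ≤ B) (hBY₀ : B ≤ nrm Y₀)
    (hKB : K ≤ nrm B) (hKY : K ≤ nrm Y₀) (hXB : X ≤ B) (hMX : M ≤ nrm X)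
    (hfin : ∀ g ∈ K, g ∈ centMod Y₀ (X : Set G) → g ∈ M) {n : ZMod p} (hn : n ≠ 0)
    {U D P : Subgroup G} {q v : G} (hUK : U ≤ K) (hP : IsSylowIn p P U) (hPM : P ≤ M)
    (hDP : D ≤ P) (hDn : U ≤ nrm D) (hqP : q ∈ P) (hq : q ∈ quadSet B Y₀) (hqD : q ∉ D)
    (hDgen : qgen B Y₀ D = D)
    (hgood : ∀ E : Subgroup G, E ≤ U ⊓ M → IsPGroup p E → qgen B Y₀ E = E → D < E → U ⊓ nrm E ≤ M)
    (hmax : ∀ U₁ : Subgroup G, U₁ ≤ U → D ≤ U₁ → q ∈ U₁ → U₁ ≠ U → U₁ ≤ M)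
    (hv : v ∈ U) (hvq : v ∈ quadSet B Y₀)
    (hgen : Subgroup.closure ((D : Set G) ∪ {q, v}) = U) (hUM : ¬ U ≤ M) :
    Nonempty (SectionFrame p B Y₀ X M n) := by
  classical
  have hUB : U ≤ nrm B := hUK.trans hKB
  have hUY : U ≤ nrm Y₀ := hUK.trans hKY
  have hqU : q ∈ U := hP.le hqP
  have hqM : q ∈ M := hPM hqP
  have hDU : D ≤ U := hDP.trans hP.le
  -- the `p`-residual
  set L : Subgroup G := (pResidual p ↥U).map U.subtype with hL
  have hLU : L ≤ U := Subgroup.map_subtype_le _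
  have hLgen : ∀ Z : Subgroup G, (∀ g ∈ U, (orderOf g).Coprime p → g ∈ Z) → L ≤ Z := by
    intro Z hZ
    rw [hL, Subgroup.map_le_iff_le_comap, pResidual, Subgroup.closure_le]
    intro g hg
    exact hZ g g.2 (by rw [Subgroup.orderOf_coe]; exact hg)
  have hLmem : ∀ g ∈ U, (orderOf g).Coprime p → g ∈ L := fun g hg ho =>
    ⟨⟨g, hg⟩, Thompson.mem_pResidual_of_coprime (by rwa [← Subgroup.orderOf_coe]), rfl⟩
  have hLn : U ≤ nrm L := by
    intro u hu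
    refine mem_nrm_of_forall fun l hl => ?_
    obtain ⟨l', hl', rfl⟩ := hl
    exact ⟨⟨u, hu⟩ * l' * ⟨u, hu⟩⁻¹, (inferInstance : (pResidual p ↥U).Normal).conj_mem _ hl' _, rfl⟩
  have hLnot : ¬ L ≤ M := by
    intro hle
    apply hUM
    obtain ⟨PU, hPU⟩ := hP.exists_sylow
    have htop : pResidual p ↥U ⊔ (PU : Subgroup ↥U) = ⊤ := by
      rw [← Subgroup.index_eq_one]
      obtain ⟨j, hj⟩ := IsPGroup.iff_card.1 (Thompson.isPGroup_quotient_pResidual (G := ↥U) (p := p))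
      have h1 : (pResidual p ↥U ⊔ (PU : Subgroup ↥U)).index ∣ p ^ j :=
        hj ▸ Subgroup.index_dvd_of_le le_sup_left
      obtain ⟨i, -, hi⟩ := (Nat.dvd_prime_pow Fact.out).1 h1
      rcases i with _ | i
      · simpa using hi
      · exact absurd ((dvd_pow_self p (Nat.succ_ne_zero i)).trans
          (hi ▸ Subgroup.index_dvd_of_le le_sup_right)) PU.not_dvd_index
    calc U = (⊤ : Subgroup ↥U).map U.subtype := by rw [← MonoidHom.range_eq_map, Subgroup.range_subtype]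
      _ ≤ M := by rw [← htop, Subgroup.map_sup, hPU]; exact sup_le hle hPM
  suffices key : ∀ m : ℕ, ∀ Y : Subgroup G, Y₀ ≤ Y → Y ≤ B → U ≤ nrm Y → B ≤ nrm Y →
      Nat.card B ≤ Nat.card Y + m →
      Nonempty (SectionFrame p B Y₀ X M n) ∨ L ≤ centMod Y (X : Set G) by
    rcases key _ Y₀ le_rfl hY₀B hUY hBY₀ le_add_self with h | h
    · exact h
    · exact absurd (fun l hl => hfin l (hUK (hLU hl)) (h hl)) hLnot
  intro m
  induction m using Nat.strong_induction_on with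
  | _ m ih =>
  intro Y hY₀Y hYB hUYn hBYn hcard
  rcases eq_or_lt_of_le hYB with hYeq | hYlt
  · right
    subst hYeq
    exact fun l hl => ⟨hUYn (hLU hl), fun x hx => mul_mem (conj_mem_of_nrm (hUYn (hLU hl)) (hXB hx))
      (inv_mem (hXB hx))⟩
  -- a minimal step above `Y`
  obtain ⟨Y', ⟨hYY', hY'B, hUY', hBY'⟩, hmin⟩ := Set.exists_min_image
    {Z : Subgroup G | Y < Z ∧ Z ≤ B ∧ U ≤ nrm Z ∧ B ≤ nrm Z} (fun Z => Nat.card Z) (Set.toFinite _)
    ⟨B, hYlt, le_rfl, hUB, Subgroup.le_normalizer⟩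
  have hY'N : Y' ≤ nrm Y := hY'B.trans hBYn
  have hY'p : IsPGroup p Y' := hBp.to_le hY'B
  have hYY'le := hYY'.le
  have hminimal : ∀ Z : Subgroup G, Y ≤ Z → Z ≤ Y' → U ≤ nrm Z → B ≤ nrm Z → Z = Y ∨ Z = Y' := by
    intro Z h1 h2 h3 h4
    rcases eq_or_lt_of_le h1 with h | h
    · exact Or.inl h.symm
    · exact Or.inr (Subgroup.eq_of_le_of_card_ge h2 (hmin Z ⟨h, h2.trans hY'B, h3, h4⟩))
  -- fixed parts
  let fixPart : Subgroup G → Subgroup G := fun E =>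
    { carrier := {y | y ∈ Y' ∧ ∀ d ∈ E, ⁅d, y⁆ ∈ Y}
      one_mem' := ⟨one_mem _, fun d _ => by simp⟩
      mul_mem' := by
        rintro y z ⟨hy, hy'⟩ ⟨hz, hz'⟩
        refine ⟨mul_mem hy hz, fun d hd => ?_⟩
        rw [show ⁅d, y * z⁆ = ⁅d, y⁆ * (y * ⁅d, z⁆ * y⁻¹) by simp [commutatorElement_def, mul_assoc]]
        exact mul_mem (hy' d hd) (conj_mem_of_nrm (hY'N hy) (hz' d hd))
      inv_mem' := by
        rintro y ⟨hy, hy'⟩
        refine ⟨inv_mem hy, fun d hd => ?_⟩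
        rw [show ⁅d, y⁻¹⁆ = y⁻¹ * ⁅d, y⁆⁻¹ * y⁻¹⁻¹ by simp [commutatorElement_def, mul_assoc]]
        exact conj_mem_of_nrm (inv_mem (hY'N hy)) (inv_mem (hy' d hd)) }
  have hfix : ∀ E : Subgroup G, IsPGroup p E → E ≤ nrm Y → E ≤ nrm Y' → U ≤ nrm E →
      B ≤ nrm (fixPart E) → ∀ y ∈ Y', ∀ d ∈ E, ⁅d, y⁆ ∈ Y := by
    intro E hEp hE1 hE2 hE3 hE4
    have hle : Y ≤ fixPart E := fun y hy => ⟨hYY'le hy, fun d hd =>
      mul_mem (conj_mem_of_nrm (hE1 hd) hy) (inv_mem hy)⟩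
    have hU : U ≤ nrm (fixPart E) := by
      intro u hu
      refine mem_nrm_of_forall fun y hy => ⟨conj_mem_of_nrm (hUY' hu) hy.1, fun d hd => ?_⟩
      rw [show ⁅d, u * y * u⁻¹⁆ = u * ⁅u⁻¹ * d * u⁻¹⁻¹, y⁆ * u⁻¹ by
        simp [commutatorElement_def, mul_assoc]]
      exact conj_mem_of_nrm (hUYn hu) (hy.2 _ (conj_mem_of_nrm (inv_mem (hE3 hu)) hd))
    rcases hminimal (fixPart E) hle (fun y hy => hy.1) hU hE4 with h | h
    · obtain ⟨y, hy, hyY, hy'⟩ := exists_fixed_section hY'p hEp hYY' hY'N hE1 hE2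
      exact absurd (h ▸ (⟨hy, hy'⟩ : y ∈ fixPart E)) hyY
    · exact fun y hy => (h.symm ▸ hy : y ∈ fixPart E).2
  have hBcent : ∀ y ∈ Y', ∀ b ∈ B, ⁅b, y⁆ ∈ Y := by
    refine hfix B hBp hBYn hBY' hUB fun b hb => mem_nrm_of_forall fun y hy =>
      ⟨conj_mem_of_nrm (hBY' hb) hy.1, fun d hd => ?_⟩
    rw [show ⁅d, b * y * b⁻¹⁆ = b * ⁅b⁻¹ * d * b⁻¹⁻¹, y⁆ * b⁻¹ by
      simp [commutatorElement_def, mul_assoc]]
    exact conj_mem_of_nrm (hBYn hb) (hy.2 _ (mul_mem (mul_mem (inv_mem hb) hd) (by simpa using hb)))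
  -- any subgroup between `Y` and `Y'` is normalized by `B`
  have hBbetween : ∀ Z : Subgroup G, Y ≤ Z → Z ≤ Y' → B ≤ nrm Z := by
    intro Z h1 h2 b hb
    refine mem_nrm_of_forall fun z hz => ?_
    rw [show b * z * b⁻¹ = ⁅b, z⁆ * z by simp [commutatorElement_def, mul_assoc]]
    exact mul_mem (h1 (hBcent z (h2 hz) b hb)) hz
  have hDcent : ∀ y ∈ Y', ∀ d ∈ D, ⁅d, y⁆ ∈ Y := by
    refine hfix D (hP.isPGroup.to_le hDP) (hDU.trans hUYn) (hDU.trans hUY') hDn (hBbetween _ ?_ fun y hy => hy.1)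
    exact fun y hy => ⟨hYY'le hy, fun d hd =>
      mul_mem (conj_mem_of_nrm (hUYn (hDU hd)) hy) (inv_mem hy)⟩
  -- the module
  set π := QuotientGroup.mk' (Y.subgroupOf (nrm Y)) with hπ
  set Vg : Subgroup (↥(nrm Y) ⧸ Y.subgroupOf (nrm Y)) := (Y'.subgroupOf (nrm Y)).map π with hVg
  have hπcomm : ∀ a b : ↥(nrm Y), ⁅(a : G), (b : G)⁆ ∈ Y → π a * π b = π b * π a := by
    intro a b h
    rw [← commutatorElement_eq_one_iff_mul_comm, ← map_commutatorElement]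
    exact (QuotientGroup.eq_one_iff _).2 h
  have hVcomm : ∀ a b : ↥Vg, a * b = b * a := by
    rintro ⟨_, a, ha, rfl⟩ ⟨_, b, hb, rfl⟩
    exact Subtype.ext (hπcomm a b (hBcent b hb a (hY'B ha)))
  letI : CommGroup ↥Vg := { (inferInstance : Group ↥Vg) with mul_comm := hVcomm }
  obtain ⟨mkV, hmkval⟩ : ∃ f : ∀ y : G, y ∈ Y' → Additive ↥Vg, ∀ y hy,
      f y hy = Additive.ofMul (⟨π ⟨y, hY'N hy⟩, ⟨⟨y, hY'N hy⟩, hy, rfl⟩⟩ : ↥Vg) :=
    ⟨_, fun _ _ => rfl⟩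
  have hmk0 : ∀ y hy, mkV y hy = 0 ↔ y ∈ Y := by
    intro y hy
    rw [hmkval]
    refine (Subtype.ext_iff).trans ?_
    exact QuotientGroup.eq_one_iff _
  have hmkmul : ∀ y hy z hz, mkV (y * z) (mul_mem hy hz) = mkV y hy + mkV z hz :=
    fun y hy z hz => by
      rw [hmkval, hmkval, hmkval]
      exact Subtype.ext (show π _ = π _ * π _ by rw [← map_mul]; rfl)
  have hmkpow : ∀ y hy (k : ℕ), mkV (y ^ k) (pow_mem hy k) = k • mkV y hy :=
    fun y hy k => by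
      rw [hmkval, hmkval]
      exact Subtype.ext (show π _ = π _ ^ k by rw [← map_pow]; rfl)
  have hmkeq : ∀ a ha b hb, a = b → mkV a ha = mkV b hb := fun a ha b hb h => by subst h; rfl
  have hmksurj : ∀ w : Additive ↥Vg, ∃ y hy, mkV y hy = w := by
    rintro ⟨_, a, ha, rfl⟩
    exact ⟨a, ha, hmkval _ _⟩
  have hmkinv : ∀ y hy, mkV y⁻¹ (inv_mem hy) = - mkV y hy :=
    fun y hy => by
      rw [hmkval, hmkval]
      exact Subtype.ext (show π _ = (π _)⁻¹ by rw [← map_inv]; rfl)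
  -- exponent `p`
  have hexp : ∀ y ∈ Y', y ^ p ∈ Y := by
    let Z : Subgroup G :=
      { carrier := {y | y ∈ Y' ∧ y ^ p ∈ Y}
        one_mem' := ⟨one_mem _, by simp⟩
        mul_mem' := by
          rintro y z ⟨hy, hy'⟩ ⟨hz, hz'⟩
          refine ⟨mul_mem hy hz, (hmk0 _ (pow_mem (mul_mem hy hz) p)).1 ?_⟩
          rw [hmkpow _ (mul_mem hy hz), hmkmul _ hy _ hz, smul_add, ← hmkpow _ hy, ← hmkpow _ hz,
            (hmk0 _ (pow_mem hy p)).2 hy', (hmk0 _ (pow_mem hz p)).2 hz', add_zero]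
        inv_mem' := by
          rintro y ⟨hy, hy'⟩
          exact ⟨inv_mem hy, by rw [inv_pow]; exact inv_mem hy'⟩ }
    have hU : U ≤ nrm Z := fun u hu => mem_nrm_of_forall fun y hy =>
      ⟨conj_mem_of_nrm (hUY' hu) hy.1, by rw [conj_pow]; exact conj_mem_of_nrm (hUYn hu) hy.2⟩
    have hle : Y ≤ Z := fun y hy => ⟨hYY'le hy, pow_mem hy p⟩
    rcases hminimal Z hle (fun y hy => hy.1) hU (hBbetween Z hle fun y hy => hy.1) with h | h
    · obtain ⟨y, hy, hyY⟩ := SetLike.exists_of_lt hYY'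
      have hex : ∃ i, y ^ p ^ i ∈ Y := by
        obtain ⟨i, hi⟩ := hY'p ⟨y, hy⟩
        exact ⟨i, by rw [show y ^ p ^ i = 1 from congrArg Subtype.val hi]; exact one_mem _⟩
      have hspec := Nat.find_spec hex
      rcases hi : Nat.find hex with _ | i
      · rw [hi, pow_zero, pow_one] at hspec; exact absurd hspec hyY
      · rw [hi, pow_succ, pow_mul] at hspec
        have : y ^ p ^ i ∈ Z := ⟨pow_mem hy _, hspec⟩
        rw [h] at this
        exact absurd this (Nat.find_min hex (hi ▸ Nat.lt_succ_self i))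
    · exact fun y hy => (h.symm ▸ hy : y ∈ Z).2
  have hVexp : ∀ w : Additive ↥Vg, p • w = 0 := by
    intro w
    obtain ⟨y, hy, rfl⟩ := hmksurj w
    rw [← hmkpow y hy p, hmk0 _ (pow_mem hy p)]
    exact hexp y hy
  haveI : Module (ZMod p) (Additive ↥Vg) := AddCommGroup.zmodModule hVexp
  have hconj : ∀ (u : U) (w : ↥Vg),
      π ⟨u, hUYn u.2⟩ * w * (π ⟨u, hUYn u.2⟩)⁻¹ ∈ Vg := by
    rintro u ⟨_, a, ha, rfl⟩
    exact ⟨⟨u, hUYn u.2⟩ * a * ⟨u, hUYn u.2⟩⁻¹, conj_mem_of_nrm (hUY' u.2) ha, by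
      rw [map_mul, map_mul, map_inv]⟩
  let αf : U → Module.End (ZMod p) (Additive ↥Vg) := fun u =>
    (AddMonoidHom.mk' (fun w : Additive ↥Vg => Additive.ofMul (⟨_, hconj u w.toMul⟩ : ↥Vg))
      (fun a b => Subtype.ext (show π _ * (_ * _) * (π _)⁻¹ =
        (π _ * _ * (π _)⁻¹) * (π _ * _ * (π _)⁻¹) by group))).toZModLinearMap p
  let α : U →* Module.End (ZMod p) (Additive ↥Vg) :=
    { toFun := αf
      map_one' := (LinearMap.ext fun w => Subtype.ext (show π 1 * _ * (π 1)⁻¹ = _ by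
        rw [map_one, one_mul, inv_one, mul_one]; rfl) : αf 1 = LinearMap.id)
      map_mul' := fun u u' => LinearMap.ext fun w => Subtype.ext (by
        show π (⟨u, hUYn u.2⟩ * ⟨u', hUYn u'.2⟩ : ↥(nrm Y)) * _ *
            (π (⟨u, hUYn u.2⟩ * ⟨u', hUYn u'.2⟩ : ↥(nrm Y)))⁻¹ =
          π ⟨u, hUYn u.2⟩ * (π ⟨u', hUYn u'.2⟩ * _ * (π ⟨u', hUYn u'.2⟩)⁻¹) * (π ⟨u, hUYn u.2⟩)⁻¹
        rw [map_mul]; group) }
  have hα : ∀ (u : U) y hy, α u (mkV y hy) =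
      mkV ((u : G) * y * (u : G)⁻¹) (conj_mem_of_nrm (hUY' u.2) hy) := by
    intro u y hy
    rw [hmkval, hmkval]
    refine Subtype.ext ?_
    show π ⟨u, _⟩ * π ⟨y, _⟩ * (π ⟨u, _⟩)⁻¹ = π ⟨(u : G) * y * (u : G)⁻¹, _⟩
    rw [← map_inv, ← map_mul, ← map_mul]
    rfl
  have hcomm' : ∀ {u : G}, u ∈ U → ∀ y ∈ Y', ⁅u, y⁆ ∈ Y' := fun {u} hu y hy =>
    mul_mem (conj_mem_of_nrm (hUY' hu) hy) (inv_mem hy)
  have hαsub : ∀ (u : U) y hy, α u (mkV y hy) - mkV y hy = mkV ⁅(u : G), y⁆ (hcomm' u.2 y hy) := by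
    intro u y hy
    rw [hα u y hy, sub_eq_iff_eq_add, ← hmkmul _ (hcomm' u.2 y hy) _ hy]
    exact hmkeq _ _ _ _ (by simp [commutatorElement_def, mul_assoc])
  have hαquad : ∀ u : U, (u : G) ∈ quadSet B Y₀ → (α u - (1 : Module.End (ZMod p) (Additive ↥Vg))) *
      (α u - (1 : Module.End (ZMod p) (Additive ↥Vg))) = 0 := by
    intro u hu
    refine LinearMap.ext fun w => ?_
    obtain ⟨y, hy, rfl⟩ := hmksurj w
    show α u (α u (mkV y hy) - mkV y hy) - (α u (mkV y hy) - mkV y hy) = 0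
    rw [hαsub, hαsub, hmk0]
    exact hY₀Y (hu y (hY'B hy))
  have hαD : ∀ d : U, (d : G) ∈ D → α d = 1 := by
    intro d hd
    refine LinearMap.ext fun w => ?_
    obtain ⟨y, hy, rfl⟩ := hmksurj w
    rw [Module.End.one_apply, ← sub_eq_zero, hαsub, hmk0]
    exact hDcent y hy d hd
  let qU : U := ⟨q, hqU⟩
  let vU : U := ⟨v, hv⟩
  -- the induction hypothesis above `Y`
  have hle'B : Nat.card Y' ≤ Nat.card B := Subgroup.card_le_of_le hY'B
  have hlt : Nat.card Y < Nat.card Y' := (Subgroup.card_le_of_le hYY'le).lt_of_ne fun h =>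
    hYY'.ne (Subgroup.eq_of_le_of_card_ge hYY'le h.ge)
  rcases ih (Nat.card B - Nat.card Y') (by omega) Y' (hY₀Y.trans hYY'le) hY'B hUY' hBY' (by omega) with
    h | hIH
  · exact Or.inl h
  -- trivial action
  by_cases hnt : α qU = 1 ∧ α vU = 1
  · right
    have hall : ∀ u : U, α u = 1 := by
      let Z : Subgroup G :=
        { carrier := {g | ∃ hg : g ∈ U, α ⟨g, hg⟩ = 1}
          one_mem' := ⟨one_mem _, map_one α⟩
          mul_mem' := by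
            rintro a b ⟨ha, ha'⟩ ⟨hb, hb'⟩
            exact ⟨mul_mem ha hb, by
              rw [show (⟨a * b, mul_mem ha hb⟩ : U) = ⟨a, ha⟩ * ⟨b, hb⟩ from rfl, map_mul, ha', hb',
                one_mul]⟩
          inv_mem' := by
            rintro a ⟨ha, ha'⟩
            refine ⟨inv_mem ha, ?_⟩
            have : α (⟨a, ha⟩⁻¹ : U) * α ⟨a, ha⟩ = 1 := by rw [← map_mul, inv_mul_cancel, map_one]
            rwa [ha', mul_one] at this }
      have hZ : Subgroup.closure ((D : Set G) ∪ {q, v}) ≤ Z := by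
        rw [Subgroup.closure_le]
        rintro g (hg | rfl | rfl)
        · exact ⟨hDU hg, hαD _ hg⟩
        · exact ⟨hqU, hnt.1⟩
        · exact ⟨hv, hnt.2⟩
      intro u
      obtain ⟨_, h⟩ := hZ (hgen.ge u.2)
      exact h
    refine hLgen _ fun c hc hco => ⟨hUYn hc, fun x hx => ?_⟩
    have hd : ⁅c, x⁆ ∈ Y' := (hIH (hLmem c hc hco)).2 x hx
    have hfixd : ∀ y (hy : y ∈ Y'), mkV (c * y * c⁻¹) (conj_mem_of_nrm (hUY' hc) hy) = mkV y hy := by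
      intro y hy
      rw [← hα ⟨c, hc⟩ y hy, hall, Module.End.one_apply]
    have hiter : ∀ i : ℕ, ∃ hy : ⁅c ^ i, x⁆ ∈ Y', mkV ⁅c ^ i, x⁆ hy = i • mkV ⁅c, x⁆ hd := by
      intro i
      induction i with
      | zero => exact ⟨by simp, by rw [zero_smul, hmk0]; simp⟩
      | succ i ih =>
        obtain ⟨hy, he⟩ := ih
        have e : ⁅c ^ (i + 1), x⁆ = c * ⁅c ^ i, x⁆ * c⁻¹ * ⁅c, x⁆ := by
          rw [pow_succ']; simp [commutatorElement_def, mul_assoc]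
        have hm := mul_mem (conj_mem_of_nrm (hUY' hc) hy) hd
        refine ⟨e ▸ hm, ?_⟩
        have e2 : mkV ⁅c ^ (i + 1), x⁆ (e ▸ hm) = mkV (c * ⁅c ^ i, x⁆ * c⁻¹ * ⁅c, x⁆) hm := by
          congr 1
        rw [e2, hmkmul _ (conj_mem_of_nrm (hUY' hc) hy) _ hd, hfixd _ hy, he, succ_nsmul]
    obtain ⟨hy, he⟩ := hiter (orderOf c)
    rw [(hmk0 _ hy).2 (by rw [pow_orderOf_eq_one]; simp)] at he
    rw [← hmk0 _ hd]
    have hne : ((orderOf c : ℕ) : ZMod p) ≠ 0 := by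
      rw [Ne, ZMod.natCast_eq_zero_iff]
      exact (Fact.out : p.Prime).coprime_iff_not_dvd.1 hco.symm
    refine (smul_eq_zero.1 (?_ : ((orderOf c : ℕ) : ZMod p) • mkV ⁅c, x⁆ hd = 0)).resolve_left hne
    rw [Nat.cast_smul_eq_nsmul, ← he]
  -- a natural module
  have hirr : ∀ W : Submodule (ZMod p) (Additive ↥Vg), (∀ w ∈ W, α qU w ∈ W) →
      (∀ w ∈ W, α vU w ∈ W) → W = ⊥ ∨ W = ⊤ := by
    intro W h1 h2
    let Z : Subgroup G :=
      { carrier := {y | ∃ hy : y ∈ Y', mkV y hy ∈ W}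
        one_mem' := ⟨one_mem _, by rw [(hmk0 _ _).2 (one_mem _)]; exact W.zero_mem⟩
        mul_mem' := by
          rintro a b ⟨ha, ha'⟩ ⟨hb, hb'⟩
          exact ⟨mul_mem ha hb, by rw [hmkmul _ ha _ hb]; exact W.add_mem ha' hb'⟩
        inv_mem' := by
          rintro a ⟨ha, ha'⟩
          exact ⟨inv_mem ha, by rw [hmkinv _ ha]; exact W.neg_mem ha'⟩ }
    have hle : Y ≤ Z := fun y hy => ⟨hYY'le hy, by rw [(hmk0 _ _).2 hy]; exact W.zero_mem⟩
    have hle' : Z ≤ Y' := fun y hy => hy.1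
    have hU : U ≤ nrm Z := by
      conv_lhs => rw [← hgen]
      rw [Subgroup.closure_le]
      rintro g (hg | rfl | rfl) <;> refine mem_nrm_of_forall fun y hy => ?_
      · refine ⟨conj_mem_of_nrm (hUY' (hDU hg)) hy.1, ?_⟩
        rw [← hα ⟨g, hDU hg⟩ y hy.1, hαD _ hg, Module.End.one_apply]
        exact hy.2
      · refine ⟨conj_mem_of_nrm (hUY' hqU) hy.1, ?_⟩
        rw [← hα qU y hy.1]
        exact h1 _ hy.2
      · refine ⟨conj_mem_of_nrm (hUY' hv) hy.1, ?_⟩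
        rw [← hα vU y hy.1]
        exact h2 _ hy.2
    rcases hminimal Z hle hle' hU (hBbetween Z hle hle') with h | h
    · left
      rw [eq_bot_iff]
      intro w hw
      obtain ⟨y, hy, rfl⟩ := hmksurj w
      rw [Submodule.mem_bot, hmk0, ← h]
      exact ⟨hy, hw⟩
    · right
      rw [eq_top_iff]
      intro w _
      obtain ⟨y, hy, rfl⟩ := hmksurj w
      exact (h.symm ▸ hy : y ∈ Z).2
  haveI : Finite (Additive ↥Vg) := inferInstanceAs (Finite ↥Vg)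
  obtain ⟨hxne, hfixq, ⟨z, hz, hαz⟩, htor⟩ := quad_irreducible hp α qU vU (hαquad qU hq)
    (hαquad vU hvq) hirr (not_and_or.1 hnt)
  -- the preimage of `⟨q⟩`
  set A := α.toHomUnits with hA
  set Kq : Subgroup G := ((Subgroup.zpowers (A qU)).comap A).map U.subtype with hKq
  have hKqU : Kq ≤ U := Subgroup.map_subtype_le _
  have hKqmem : ∀ u : U, A u ∈ Subgroup.zpowers (A qU) → (u : G) ∈ Kq := fun u hu => ⟨u, hu, rfl⟩
  have hDKq : D ≤ Kq := fun d hd => hKqmem ⟨d, hDU hd⟩ (by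
    rw [show A ⟨d, hDU hd⟩ = 1 from Units.ext (hαD _ hd)]; exact one_mem _)
  have hqKq : q ∈ Kq := hKqmem qU (Subgroup.mem_zpowers _)
  have hKqne : Kq ≠ U := by
    intro h
    obtain ⟨u, hu, hue⟩ : v ∈ Kq := h ▸ hv
    obtain rfl : u = vU := Subtype.ext hue
    -- the fixed space of `q` would be invariant
    let W : Submodule (ZMod p) (Additive ↥Vg) := LinearMap.ker (α qU - 1)
    have hWfix : ∀ w ∈ W, α qU w = w := fun w hw => sub_eq_zero.1 hw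
    have hcommqv : Commute (α vU) (α qU) := by
      obtain ⟨j, hj⟩ := Subgroup.mem_zpowers_iff.1 hu
      have : Commute (A vU) (A qU) := hj ▸ (Commute.refl (A qU)).zpow_left j
      exact congrArg Units.val this.eq
    rcases hirr W (fun w hw => by rw [hWfix w hw]; exact hw) (fun w hw => by
        show (α qU - 1) (α vU w) = 0
        rw [LinearMap.sub_apply, Module.End.one_apply, ← Module.End.mul_apply, ← hcommqv.eq,
          Module.End.mul_apply, hWfix w hw, sub_self]) with hW | hW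
    · obtain ⟨w, hw⟩ : ∃ w, α qU w - w ≠ 0 := by
        by_contra hh
        push Not at hh
        exact hxne (LinearMap.ext fun w => sub_eq_zero.1 (hh w))
      have : α qU w - w ∈ W := LinearMap.congr_fun (hαquad qU hq) w
      rw [hW, Submodule.mem_bot] at this
      exact hw this
    · exact hxne (LinearMap.ext fun w => hWfix w (hW.symm ▸ Submodule.mem_top))
  have hKqM : Kq ≤ M := hmax Kq hKqU hDKq hqKq hKqne
  obtain ⟨E₀, hE₀, hPE₀⟩ := exists_isSylowIn (p := p) Kq (Q := P ⊓ Kq) hP.isPGroup.to_inf_left inf_le_right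
  have hkerM : ∀ u : U, α u = 1 → (u : G) ∈ M := fun u hu => hKqM (hKqmem u (by
    rw [show A u = 1 from Units.ext hu]; exact one_mem _))
  have hnormM : ∀ u : U, (∃ i : ℕ, α u * α qU = α qU ^ i * α u) → (u : G) ∈ M := by
    rintro u ⟨i, hi⟩
    have hi' : A u * A qU * (A u)⁻¹ = A qU ^ i := by
      rw [mul_inv_eq_iff_eq_mul]
      refine Units.ext ?_
      rw [Units.val_mul, Units.val_mul, Units.val_pow_eq_pow_val]
      exact hi
    have hn' : (u : G) ∈ nrm Kq := by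
      refine mem_nrm_of_forall ?_
      rintro _ ⟨w, hw, rfl⟩
      refine ⟨u * w * u⁻¹, ?_, rfl⟩
      obtain ⟨j, hj⟩ := Subgroup.mem_zpowers_iff.1 hw
      rw [SetLike.mem_coe, Subgroup.mem_comap, map_mul, map_mul, map_inv, ← hj, ← conj_zpow, hi']
      exact zpow_mem (pow_mem (Subgroup.mem_zpowers _) i) j
    obtain ⟨c, hc, s, hs, he⟩ := exists_mul_of_frattini hE₀ hn'
    have hsU : s ∈ U := by
      have h' : c⁻¹ * (u : G) ∈ U := mul_mem (inv_mem (hKqU hc)) u.2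
      rwa [he, inv_mul_cancel_left] at h'
    have hlt' : D < qgen B Y₀ E₀ := by
      have hDE : D ≤ E₀ := (le_inf hDP hDKq).trans hPE₀
      refine SetLike.lt_iff_le_and_exists.2 ⟨?_, q, mem_qgen (hPE₀ ⟨hqP, hqKq⟩) hq, hqD⟩
      exact hDgen.ge.trans (qgen_mono hDE)
    have hsM := hgood (qgen B Y₀ E₀) ((qgen_le _ _ _).trans (le_inf (hE₀.le.trans hKqU)
        (hE₀.le.trans hKqM))) (hE₀.isPGroup.to_le (qgen_le _ _ _)) (qgen_qgen _ _ _) hlt'
      ⟨hsU, mem_nrm_qgen (hUB hsU) (hUY hsU) hs⟩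
    rw [he]
    exact mul_mem (hKqM hc) hsM
  by_cases hvis : ∃ x ∈ X, ∃ hx : x ∈ Y', x ∉ Y
  · -- `X` is visible: the frame
    left
    obtain ⟨x₀, hx₀X, hx₀', hx₀Y, hx₀fix⟩ :
        ∃ x₀ ∈ X, ∃ hx : x₀ ∈ Y', x₀ ∉ Y ∧ α qU (mkV x₀ hx) = mkV x₀ hx := by
      obtain ⟨x, hxX, hx, hxY⟩ := hvis
      by_cases hc : ⁅q, x⁆ ∈ Y
      · refine ⟨x, hxX, hx, hxY, ?_⟩
        rw [← sub_eq_zero, hαsub, hmk0]; exact hc
      · refine ⟨⁅q, x⁆, mul_mem (conj_mem_of_nrm (hMX hqM) hxX) (inv_mem hxX), hcomm' hqU x hx,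
          hc, ?_⟩
        rw [← sub_eq_zero, hαsub, hmk0]
        exact hY₀Y (hq x (hY'B hx))
    obtain ⟨hu, hhu, hscal, hnormal, hmoved⟩ := htor n hn
    obtain ⟨w', hw', hw'h⟩ := hmoved _ hx₀fix
    obtain ⟨y₂, hy₂, rfl⟩ := hmksurj w'
    have hsm : ∀ (r : ZMod p) y hy, r • mkV y hy = mkV (y ^ r.val) (pow_mem hy _) := fun r y hy => by
      rw [hmkpow, ← Nat.cast_smul_eq_nsmul (ZMod p), ZMod.natCast_zmod_val]
    have heq : ∀ a ha b hb, mkV a ha = mkV b hb → a * b⁻¹ ∈ Y := fun a ha b hb hab => by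
      rw [← hmk0 _ (mul_mem ha (inv_mem hb)), hmkmul _ ha _ (inv_mem hb), hmkinv _ hb, hab,
        add_neg_cancel]
    exact ⟨{
      Y := Y
      q := q
      h := hu
      x₀ := x₀
      y₂ := y₂
      bot_le := hY₀Y
      le_B := hYB
      q_mem := hqM
      h_mem := hnormM hu hnormal
      q_nrm := hUYn hqU
      h_nrm := hUYn hu.2
      B_nrm := hBYn
      x₀_X := hx₀X
      y₂_B := hY'B hy₂
      x₀_not := hx₀Y
      x₀_pow := hexp _ hx₀'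
      y₂_pow := hexp _ hy₂
      comm := hBcent y₂ hy₂ x₀ (hY'B hx₀')
      q_x₀ := by rw [← hmk0 _ (hcomm' hqU x₀ hx₀'), ← hαsub qU x₀ hx₀', hx₀fix, sub_self]
      q_y₂ := heq _ (hcomm' hqU y₂ hy₂) _ hx₀' (by rw [← hαsub qU y₂ hy₂]; exact hw')
      h_x₀ := heq _ (conj_mem_of_nrm (hUY' hu.2) hx₀') _ (pow_mem hx₀' _) (by
        rw [← hα hu x₀ hx₀', hscal _ hx₀fix, hsm _ x₀ hx₀'])
      h_y₂ := heq _ (conj_mem_of_nrm (hUY' hu.2) hy₂) _ (pow_mem hy₂ _) (by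
        rw [← hα hu y₂ hy₂, hw'h, hsm _ y₂ hy₂]) }⟩
  -- the involution forces `L` to centralize `X` modulo `Y`
  push Not at hvis
  right
  obtain ⟨z₁, z₂, hz1, hz2, hzz, hz1p, hz2p⟩ := exists_p_pprime_mul (p := p) z
  have negmul : ∀ a : Module.End (ZMod p) (Additive ↥Vg), (-1) * a = -a := fun a =>
    LinearMap.ext fun w => rfl
  have mulneg : ∀ a : Module.End (ZMod p) (Additive ↥Vg), a * (-1) = -a := fun a =>
    LinearMap.ext fun w => a.map_neg w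
  have negneg : ∀ a : Module.End (ZMod p) (Additive ↥Vg), - -a = a := fun a =>
    LinearMap.ext fun w => neg_neg (a w)
  have hz1α : α z₁ = 1 := by
    obtain ⟨j, hj⟩ : ∃ j : ℕ, z ^ j = z₁ := by
      have := (isOfFinOrder_of_finite z).mem_powers_iff_mem_zpowers.2 hz1
      exact Submonoid.mem_powers_iff _ _ |>.1 this
    obtain ⟨i, hi⟩ := hz1p ⟨z₁, Subgroup.mem_zpowers _⟩
    have hzi : α z₁ ^ p ^ i = 1 := by
      rw [← map_pow, show z₁ ^ p ^ i = 1 from congrArg Subtype.val hi, map_one]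
    have hpar : ∀ k : ℕ, α z ^ (2 * k) = 1 := fun k => by
      rw [pow_mul, sq, hαz, negmul, negneg, one_pow]
    rcases Nat.even_or_odd' j with ⟨k, rfl | rfl⟩
    · rw [← hj, map_pow, hpar]
    · have h1 : α z₁ = -1 := by rw [← hj, map_pow, pow_succ, hpar, one_mul, hαz]
      obtain ⟨l, hl⟩ := ((Fact.out : p.Prime).odd_of_ne_two hp).pow (n := i)
      rw [h1, ← hαz, hl, pow_succ, hpar, one_mul, hαz] at hzi
      rw [h1]; exact hzi
  have hz2α : α z₂ = -1 := by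
    have := congrArg α hzz
    rwa [map_mul, hz1α, one_mul, hαz] at this
  have hz2L : (z₂ : G) ∈ L := hLmem _ z₂.2 (by
    rw [Subgroup.orderOf_coe, ← Nat.card_zpowers]; exact hz2p)
  have hz2M : (z₂ : G) ∈ M := hnormM z₂ ⟨1, by rw [hz2α, pow_one, negmul, mulneg]⟩
  have hLM : ∀ g ∈ L, g ∈ M → ∀ x ∈ X, ⁅g, x⁆ ∈ Y := fun g hgL hgM x hx =>
    hvis _ (mul_mem (conj_mem_of_nrm (hMX hgM) hx) (inv_mem hx)) ((hIH hgL).2 x hx)
  intro l hl
  refine ⟨hUYn (hLU hl), fun x hx => ?_⟩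
  have hd : ⁅l, x⁆ ∈ Y' := (hIH hl).2 x hx
  have hxN : x ∈ nrm Y := hBYn (hXB hx)
  let lU : U := ⟨l, hLU hl⟩
  let nU : U := z₂ * lU * z₂⁻¹ * lU⁻¹
  have hnL : (nU : G) ∈ L :=
    mul_mem (mul_mem (mul_mem hz2L hl) (inv_mem hz2L)) (inv_mem hl)
  have hnα : α nU = 1 := by
    have hinv : α z₂⁻¹ = -1 := by
      have : α z₂ * α z₂⁻¹ = 1 := by rw [← map_mul, mul_inv_cancel, map_one]
      rw [hz2α, negmul] at this
      rw [← negneg (α z₂⁻¹), this]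
    show α (z₂ * lU * z₂⁻¹ * lU⁻¹) = 1
    rw [map_mul, map_mul, map_mul, hz2α, hinv, negmul, mulneg, negneg, ← map_mul,
      mul_inv_cancel, map_one]
  have hnM : (nU : G) ∈ M := hkerM nU hnα
  -- compute in `N(Y)/Y`
  set d := mkV ⁅l, x⁆ hd with hddef
  have hkill : ∀ {g : G} (hg : g ∈ nrm Y), ⁅g, x⁆ ∈ Y →
      π ⟨g, hg⟩ * π ⟨x, hxN⟩ * (π ⟨g, hg⟩)⁻¹ = π ⟨x, hxN⟩ := fun {g} hg h => by
    rw [mul_inv_eq_iff_eq_mul]
    exact hπcomm ⟨g, hg⟩ ⟨x, hxN⟩ h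
  set zb := π ⟨z₂, hUYn z₂.2⟩
  set lb := π ⟨l, hUYn (hLU hl)⟩
  set xb := π ⟨x, hxN⟩
  set nb := π ⟨nU, hUYn nU.2⟩
  set db := π ⟨⁅l, x⁆, hY'N hd⟩
  have e1 : lb * xb * lb⁻¹ = db * xb := by
    simp only [lb, xb, db, ← map_inv, ← map_mul]
    congr 1
    exact Subtype.ext (by simp [commutatorElement_def, mul_assoc])
  have e2 : nb = zb * lb * zb⁻¹ * lb⁻¹ := by
    simp only [nb, zb, lb, ← map_inv, ← map_mul]
    rfl
  have e3 : zb * xb * zb⁻¹ = xb := hkill _ (hLM _ hz2L hz2M x hx)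
  have e4 : nb * xb * nb⁻¹ = xb := hkill _ (hLM _ hnL hnM x hx)
  have e5 : zb * db * zb⁻¹ = db⁻¹ := by
    have := congrArg (fun w : Additive ↥Vg => ((w.toMul : ↥Vg) : ↥(nrm Y) ⧸ Y.subgroupOf (nrm Y)))
      (LinearMap.congr_fun hz2α d)
    simp only [hddef, hmkval] at this
    exact this
  have e6 : nb * db * nb⁻¹ = db := by
    have := congrArg (fun w : Additive ↥Vg => ((w.toMul : ↥Vg) : ↥(nrm Y) ⧸ Y.subgroupOf (nrm Y)))
      (LinearMap.congr_fun hnα d)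
    simp only [hddef, hmkval] at this
    exact this
  have e7 : db⁻¹ * xb = db * xb :=
    calc db⁻¹ * xb = (zb * db * zb⁻¹) * (zb * xb * zb⁻¹) := by rw [e5, e3]
      _ = zb * (lb * xb * lb⁻¹) * zb⁻¹ := by rw [e1]; group
      _ = (zb * lb * zb⁻¹ * lb⁻¹) * (lb * (zb * xb * zb⁻¹) * lb⁻¹) * (zb * lb * zb⁻¹ * lb⁻¹)⁻¹ := by
          group
      _ = nb * (db * xb) * nb⁻¹ := by rw [e3, e1, e2]
      _ = (nb * db * nb⁻¹) * (nb * xb * nb⁻¹) := by group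
      _ = db * xb := by rw [e6, e4]
  have e8 : d + d = 0 := by
    rw [hddef, hmkval]
    exact Subtype.ext (by
    show db * db = 1
    conv_lhs => arg 1; rw [← mul_right_cancel e7]
    exact inv_mul_cancel db)
  rw [← hmk0 _ hd]
  refine (smul_eq_zero.1 (?_ : (2 : ZMod p) • d = 0)).resolve_left (two_ne_zero_char hp)
  rw [two_smul]; exact e8

/-- **The pair lemma.** -/
theorem exists_frame (hp : p ≠ 2) (hBp : IsPGroup p B) (hY₀B : Y₀ ≤ B) (hBY₀ : B ≤ nrm Y₀)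
    (hKB : K ≤ nrm B) (hKY : K ≤ nrm Y₀) (hXB : X ≤ B) (hMX : M ≤ nrm X)
    (hfin : ∀ g ∈ K, g ∈ centMod Y₀ (X : Set G) → g ∈ M) {n : ZMod p} (hn : n ≠ 0)
    {U : Subgroup G} (hUK : U ≤ K) (hU : PairHyp p B Y₀ M U) :
    Nonempty (SectionFrame p B Y₀ X M n) := by
  induction hc : Nat.card U using Nat.strong_induction_on generalizing U with
  | _ c ih =>
  subst hc
  by_contra hno
  obtain ⟨hUM, P, hP, hPM, hPgood⟩ := hU
  have hUB : U ≤ nrm B := hUK.trans hKB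
  have hUY : U ≤ nrm Y₀ := hUK.trans hKY
  have hrec : ∀ U₁ : Subgroup G, U₁ ≤ U → U₁ ≠ U → ∀ P₁, IsSylowIn p P₁ (U₁ ⊓ M) →
      U₁ ⊓ nrm (qgen B Y₀ P₁) ≤ M → U₁ ≤ M := by
    intro U₁ h1 h2 P₁ h3 h4
    by_contra h5
    refine hno (ih (Nat.card U₁) ?_ (h1.trans hUK) ⟨h5, P₁,
      isSylowIn_of_good h3 (h1.trans hUB) (h1.trans hUY) h4, h3.le.trans inf_le_right, h4⟩ rfl)
    exact (Subgroup.card_le_of_le h1).lt_of_ne fun h => h2 (Subgroup.eq_of_le_of_card_ge h1 h.ge)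
  -- a maximal bad quadratically generated subgroup
  obtain ⟨D, ⟨hDM, hDp, hDgen, hDbad⟩, hDmax⟩ := Set.exists_max_image
    {D : Subgroup G | D ≤ U ⊓ M ∧ IsPGroup p D ∧ qgen B Y₀ D = D ∧ ¬ U ⊓ nrm D ≤ M}
    (fun D => Nat.card D) (Set.toFinite _) ⟨⊥, bot_le, IsPGroup.of_bot,
      le_antisymm (qgen_le _ _ _) bot_le, fun h => hUM (by
        refine le_trans (le_inf le_rfl ?_) h
        rw [show nrm (⊥ : Subgroup G) = ⊤ from nrm_eq_top _]; exact le_top)⟩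
  have hgood : ∀ E : Subgroup G, E ≤ U ⊓ M → IsPGroup p E → qgen B Y₀ E = E → D < E →
      U ⊓ nrm E ≤ M := by
    intro E h1 h2 h3 h4
    by_contra h5
    exact h4.ne (Subgroup.eq_of_le_of_card_ge h4.le (hDmax E ⟨h1, h2, h3, h5⟩))
  -- `U` normalizes `D`
  have hDn : U ≤ nrm D := by
    by_contra h
    set U₁ := U ⊓ nrm D with hU₁
    have hne : U₁ ≠ U := fun e => h (e ▸ inf_le_right)
    have hD1 : D ≤ U₁ ⊓ M :=
      le_inf (le_inf (hDM.trans inf_le_left) Subgroup.le_normalizer) (hDM.trans inf_le_right)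
    obtain ⟨P₁, hP₁, hDP₁⟩ := exists_isSylowIn (U₁ ⊓ M) hDp hD1
    have hle : D ≤ qgen B Y₀ P₁ := hDgen.ge.trans (qgen_mono hDP₁)
    rcases eq_or_lt_of_le hle with he | hlt
    · -- then `D` is conjugate to the quadratic part of `P`
      obtain ⟨T, hT, hP₁T⟩ := exists_isSylowIn (U ⊓ M) hP₁.isPGroup
        (hP₁.le.trans (inf_le_inf_right _ inf_le_left))
      have hPeq : P₁ = T := by
        by_contra hne'
        have hlt := lt_inf_nrm hT.isPGroup hP₁T hne'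
        have : T ⊓ nrm P₁ ≤ U₁ ⊓ M := fun y hy => by
          have hyU := (hT.le hy.1).1
          refine ⟨⟨hyU, ?_⟩, (hT.le hy.1).2⟩
          rw [he]
          exact mem_nrm_qgen (hUB hyU) (hUY hyU) hy.2
        exact hlt.ne' (hP₁.eq_of_le hT.isPGroup.to_inf_left this hlt.le)
      obtain ⟨g, hg, hge⟩ := (hPeq ▸ hT : IsSylowIn p P₁ (U ⊓ M)).exists_cnj_eq
        (hP.mono (le_inf hP.le hPM) inf_le_left)
      apply hDbad
      show U ⊓ nrm D ≤ M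
      rw [he, ← hge, ← cnj_qgen (hUB hg.1) (hUY hg.1)]
      intro u hu
      rw [← cnj_nrm] at hu
      obtain ⟨w, hw, rfl⟩ := hu.2
      have hwU : w ∈ U := by
        have := U.mul_mem (U.mul_mem (U.inv_mem hg.1) hu.1) hg.1
        simpa [mul_assoc] using this
      exact M.mul_mem (M.mul_mem hg.2 (hPgood ⟨hwU, hw⟩)) (M.inv_mem hg.2)
    · refine hDbad (hrec U₁ inf_le_left hne P₁ hP₁ ?_)
      exact (inf_le_inf_right _ inf_le_left).trans (hgood _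
        ((qgen_le _ _ _).trans (hP₁.le.trans (inf_le_inf_right _ inf_le_left)))
        (hP₁.isPGroup.to_le (qgen_le _ _ _)) (qgen_qgen _ _ _) hlt)
  have hDP : D ≤ P := by
    obtain ⟨x, hx, hxle⟩ := hP.exists_cnj_le hDp (hDM.trans inf_le_left)
    rwa [mem_nrm_iff_cnj.1 (hDn hx)] at hxle
  -- a quadratic element outside `D`
  obtain ⟨q, hqP, hq, hqD⟩ : ∃ q ∈ P, q ∈ quadSet B Y₀ ∧ q ∉ D := by
    by_contra h
    push Not at h
    have : qgen B Y₀ P = D := le_antisymm ((Subgroup.closure_le _).2 fun g hg => h g hg.1 hg.2)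
      (hDgen.ge.trans (qgen_mono hDP))
    refine hUM fun u hu => hPgood ⟨hu, ?_⟩
    rw [this]; exact hDn hu
  have hmax : ∀ U₁ : Subgroup G, U₁ ≤ U → D ≤ U₁ → q ∈ U₁ → U₁ ≠ U → U₁ ≤ M := by
    intro U₁ h1 h2 h3 h4
    obtain ⟨P₁, hP₁, hle⟩ := exists_isSylowIn (U₁ ⊓ M) (Q := P ⊓ (U₁ ⊓ M)) hP.isPGroup.to_inf_left
      inf_le_right
    refine hrec U₁ h1 h4 P₁ hP₁ ((inf_le_inf_right _ h1).trans (hgood _
      ((qgen_le _ _ _).trans (hP₁.le.trans (inf_le_inf_right _ h1)))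
      (hP₁.isPGroup.to_le (qgen_le _ _ _)) (qgen_qgen _ _ _) ?_))
    have hDle : D ≤ P₁ := (le_inf hDP (le_inf h2 (hDP.trans hPM))).trans hle
    exact SetLike.lt_iff_le_and_exists.2 ⟨hDgen.ge.trans (qgen_mono hDle), q,
      mem_qgen (hle ⟨hqP, h3, hPM hqP⟩) hq, hqD⟩
  have hqU : q ∈ U := hP.le hqP
  -- a conjugate of `q` outside `M`
  obtain ⟨g, hg, hgv⟩ : ∃ g ∈ U, g * q * g⁻¹ ∉ M := by
    by_contra h
    push Not at h
    set N := Subgroup.closure ((D : Set G) ∪ {y | ∃ g ∈ U, g * q * g⁻¹ = y}) with hN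
    have hNle : N ≤ U ⊓ M := by
      rw [hN, Subgroup.closure_le]
      rintro y (hy | ⟨g, hg, rfl⟩)
      · exact hDM hy
      · exact ⟨U.mul_mem (U.mul_mem hg hqU) (U.inv_mem hg), h g hg⟩
    have hNn : U ≤ nrm N := by
      intro u hu
      have hmap : cnj u N ≤ N := by
        rw [hN, cnj, MonoidHom.map_closure, Subgroup.closure_le]
        rintro _ ⟨y, hy | ⟨g, hg, rfl⟩, rfl⟩
        · exact Subgroup.subset_closure (Or.inl (conj_mem_of_nrm (hDn hu) hy))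
        · exact Subgroup.subset_closure (Or.inr ⟨u * g, mul_mem hu hg, by simp [mul_assoc]⟩)
      exact mem_nrm_of_forall fun y hy => hmap (conj_mem_cnj.2 hy)
    have hS := isSylowIn_inf_of_normal hP (hNle.trans inf_le_left) hNn
    refine hUM fun u hu => ?_
    obtain ⟨c, hc, s, hs, rfl⟩ := exists_mul_of_frattini hS (hNn hu)
    have hsU : s ∈ U := by
      have := U.mul_mem (U.inv_mem (hNle hc).1) hu
      rwa [inv_mul_cancel_left] at this
    refine mul_mem (hNle hc).2 (hgood (qgen B Y₀ (P ⊓ N)) ((qgen_le _ _ _).trans (inf_le_right.trans hNle))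
      (hP.isPGroup.to_inf_left.to_le (qgen_le _ _ _)) (qgen_qgen _ _ _) ?_
      ⟨hsU, mem_nrm_qgen (hUB hsU) (hUY hsU) hs⟩)
    refine SetLike.lt_iff_le_and_exists.2 ⟨hDgen.ge.trans (qgen_mono (le_inf hDP ?_)), q,
      mem_qgen ⟨hqP, Subgroup.subset_closure (Or.inr ⟨1, one_mem _, by simp⟩)⟩ hq, hqD⟩
    exact fun d hd => Subgroup.subset_closure (Or.inl hd)
  set v := g * q * g⁻¹ with hv
  have hvU : v ∈ U := mul_mem (mul_mem hg hqU) (inv_mem hg)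
  have hvq : v ∈ quadSet B Y₀ := conj_mem_quadSet (hUB hg) (hUY hg) hq
  have hgen : Subgroup.closure ((D : Set G) ∪ {q, v}) = U := by
    have hle : Subgroup.closure ((D : Set G) ∪ {q, v}) ≤ U := by
      rw [Subgroup.closure_le]
      rintro y (hy | rfl | rfl)
      · exact (hDM hy).1
      · exact hqU
      · exact hvU
    by_contra hne
    exact hgv (hmax _ hle (fun d hd => Subgroup.subset_closure (Or.inl hd))
      (Subgroup.subset_closure (Or.inr (Or.inl rfl))) hne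
      (Subgroup.subset_closure (Or.inr (Or.inr rfl))))
  exact hno (frame_of_minimal hp hBp hY₀B hBY₀ hKB hKY hXB hMX hfin hn hUK hP hPM hDP hDn hqP hq hqD
    hDgen hgood hmax hvU hvq hgen hUM)

end Cfsg.Agent.PLocalB
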