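import Cfsg.Agent.PLocalB.SL2Dickson
import Mathlib.FieldTheory.IsAlgClosed.AlgebraicClosure

/-!
An irreducible module for a group generated by two quadratic elements is a natural module over a
finite field. As consequences the fixed space of either generator is its commutator space, and the
group contains a torus element acting on that space by a prescribed scalar.
-/

set_option autoImplicit false
set_option linter.style.haveILetI false

open scoped MatrixGroups

namespace Cfsg.Agent.PLocalB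

/-- A finite subgroup of `SL(2, k)` containing `upper 1` and moving its line contains a triangular
element with any prescribed eigenvalue from the prime field, and contains `-1`. -/
theorem exists_triangular_of_upper {p : ℕ} [Fact p.Prime] {k : Type*} [Field k] [CharP k p]
    [IsAlgClosed k] (hp : p ≠ 2) (G : Subgroup SL(2, k)) [Finite G]
    (hx : upper (1 : k) ∈ G) (hmove : ∃ g ∈ G, g 1 0 ≠ 0) {n : ZMod p} (hn : n ≠ 0) :
    (-1 : SL(2, k)) ∈ G ∧
      ∃ g ∈ G, g 1 0 = 0 ∧ g 0 0 = ZMod.castHom dvd_rfl k n := by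
  obtain ⟨t, ht⟩ := containsPrimeSL_of_upper hp G hx hmove
  have hin : ∀ M : SL(2, ZMod p), t⁻¹ * primeEmb p k M * t ∈ G := ht
  have hm1 : primeEmb p k (-1 : SL(2, ZMod p)) = -1 := by
    ext i j
    rw [primeEmb_apply]
    fin_cases i <;> fin_cases j <;> simp [Matrix.SpecialLinearGroup.coe_neg]
  refine ⟨by simpa [hm1] using hin (-1), ?_⟩
  have hupow : ∀ a : k, (upper a) ^ p = 1 := fun a => by
    rw [upper_pow, CharP.cast_eq_zero, zero_mul, upper_zero]
  -- a `p`-subgroup containing `upper 1` is unitriangular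
  let x₀ : G := ⟨upper 1, hx⟩
  have hx₀ : IsPGroup p ↥(Subgroup.zpowers x₀) := by
    refine IsPGroup.of_card_dvd_pow (n := 1) ?_
    rw [Nat.card_zpowers, pow_one]
    exact orderOf_dvd_of_pow_eq_one (Subtype.ext (by simpa [x₀] using hupow 1))
  obtain ⟨P, hP⟩ := hx₀.exists_le_sylow
  have hx₀P : x₀ ∈ (P : Subgroup G) := hP (Subgroup.mem_zpowers _)
  have hcomm : ∀ (b : k) (g : SL(2, k)), b ≠ 0 → g * upper b = upper b * g →
      g 1 0 = 0 ∧ g 0 0 * g 0 0 = 1 := by
    intro b g hb h
    have h00 := congrArg (fun m : SL(2, k) => m 0 0) h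
    have h01 := congrArg (fun m : SL(2, k) => m 0 1) h
    simp [Matrix.mul_apply, Fin.sum_univ_two] at h00 h01
    have hd := det_entries g
    have h10 : g 1 0 = 0 := by
      rcases h00 with h | h
      · exact absurd h hb
      · exact h
    refine ⟨h10, ?_⟩
    have h11 : b * g 0 0 = b * g 1 1 := by linear_combination h01
    rw [h10, mul_left_cancel₀ hb h11.symm] at hd
    linear_combination hd
  have hord : ∀ g : P, ∀ b : k, b ≠ 0 → ((g : G) : SL(2, k)) * upper b = upper b * ((g : G) : SL(2, k)) →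
      ∃ a, ((g : G) : SL(2, k)) = upper a := by
    intro g b hb h
    obtain ⟨h10, h2⟩ := hcomm b _ hb h
    refine ⟨_, eq_upper_of_entries _ h10 ?_⟩
    obtain ⟨j, hj⟩ := P.2 g
    have hpow : ∀ i : ℕ, (((g : G) : SL(2, k)) ^ i) 1 0 = 0 ∧
        (((g : G) : SL(2, k)) ^ i) 0 0 = (((g : G) : SL(2, k)) 0 0) ^ i := by
      intro i
      induction i with
      | zero => simp
      | succ i ih =>
        simp [Matrix.mul_apply, Fin.sum_univ_two, h10, pow_succ] at ih ⊢
        simp [ih.1, ih.2]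
    have hj' : ((g : G) : SL(2, k)) ^ (p ^ j) = 1 := by
      simpa using congrArg (fun w : P => ((w : G) : SL(2, k))) hj
    have h3 := (hpow (p ^ j)).2
    rw [hj'] at h3
    have h4 : (((g : G) : SL(2, k)) 0 0 - 1) ^ (p ^ j) = 0 := by
      rw [sub_pow_char_pow, one_pow, ← h3]
      simp
    exact sub_eq_zero.mp (pow_eq_zero_iff (pow_ne_zero _ (Fact.out : p.Prime).ne_zero) |>.mp h4)
  haveI : Nontrivial ↥(P : Subgroup G) := ⟨⟨⟨x₀, hx₀P⟩, 1, fun h => by
    have := congrArg (fun w : ↥(P : Subgroup G) => ((w : G) : SL(2, k)) 0 1) h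
    simp [x₀] at this⟩⟩
  obtain ⟨c, hc⟩ := @exists_ne _ P.2.center_nontrivial 1
  obtain ⟨b, hb⟩ := hord c.1 1 one_ne_zero
    (congrArg (fun w : ↥(P : Subgroup G) => ((w : G) : SL(2, k)))
      (Subgroup.mem_center_iff.mp c.2 ⟨x₀, hx₀P⟩)).symm
  have hb0 : b ≠ 0 := fun h0 => hc (Subtype.ext (Subtype.ext (Subtype.ext (by
    rw [hb, h0, upper_zero]; simp))))
  have hall : ∀ g : P, ∃ a, ((g : G) : SL(2, k)) = upper a := by
    intro g
    refine hord g b hb0 ?_
    rw [← hb]
    exact congrArg (fun w : ↥(P : Subgroup G) => ((w : G) : SL(2, k))) (Subgroup.mem_center_iff.mp c.2 g)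
  -- move an element of the prime field group into `P`
  let u₀ : G := ⟨t⁻¹ * primeEmb p k (upper 1) * t, hin _⟩
  have hu₀ : IsPGroup p ↥(Subgroup.zpowers u₀) := by
    refine IsPGroup.of_card_dvd_pow (n := 1) ?_
    rw [Nat.card_zpowers, pow_one]
    refine orderOf_dvd_of_pow_eq_one (Subtype.ext ?_)
    rw [SubmonoidClass.coe_pow, OneMemClass.coe_one]
    show (t⁻¹ * primeEmb p k (upper 1) * t) ^ p = 1
    rw [show t⁻¹ * primeEmb p k (upper 1) * t = t⁻¹ * primeEmb p k (upper 1) * t⁻¹⁻¹ by rw [inv_inv],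
      conj_pow, primeEmb_upper_one, hupow, mul_one, mul_inv_cancel]
  obtain ⟨P', hP'⟩ := hu₀.exists_le_sylow
  obtain ⟨g, hg⟩ := MulAction.exists_smul_eq G P' P
  have hgu : g * u₀ * g⁻¹ ∈ (P : Subgroup G) := by
    rw [← hg]
    exact Subgroup.smul_mem_pointwise_smul _ (MulAut.conj g) _ (hP' (Subgroup.mem_zpowers _))
  obtain ⟨a, ha⟩ := hall ⟨_, hgu⟩
  set τ : SL(2, k) := (g : SL(2, k)) * t⁻¹ with hτ
  have hτu : τ * upper 1 = upper a * τ := by
    have : (g : SL(2, k)) * (t⁻¹ * primeEmb p k (upper 1) * t) * (g : SL(2, k))⁻¹ = upper a := ha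
    rw [← this, primeEmb_upper_one, hτ]
    group
  have ha0 : a ≠ 0 := by
    intro h0
    rw [h0, upper_zero, one_mul, mul_eq_left] at hτu
    have := congrArg (fun m : SL(2, k) => m 0 1) hτu
    simp at this
  have hτ10 : τ 1 0 = 0 := by
    have h00 := congrArg (fun m : SL(2, k) => m 0 0) hτu
    simp [Matrix.mul_apply, Fin.sum_univ_two] at h00
    rcases h00 with h | h
    · exact absurd h ha0
    · exact h
  let dn : SL(2, ZMod p) := diagOne n hn
  refine ⟨(g : SL(2, k)) * (t⁻¹ * primeEmb p k dn * t) * (g : SL(2, k))⁻¹,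
    mul_mem (mul_mem g.2 (hin dn)) (inv_mem g.2), ?_⟩
  rw [show (g : SL(2, k)) * (t⁻¹ * primeEmb p k dn * t) * (g : SL(2, k))⁻¹ =
    τ * primeEmb p k dn * τ⁻¹ by rw [hτ]; group]
  have d00 : primeEmb p k dn 0 0 = ZMod.castHom dvd_rfl k n := by rw [primeEmb_apply]; rfl
  have d10 : primeEmb p k dn 1 0 = 0 := by rw [primeEmb_apply]; exact map_zero _
  have hd := det_entries τ
  rw [hτ10, mul_zero, sub_zero] at hd
  constructor
  · simp [Matrix.mul_apply, Fin.sum_univ_two, Matrix.SpecialLinearGroup.coe_inv,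
      Matrix.adjugate_fin_two, hτ10, d10]
  · simp [Matrix.mul_apply, Fin.sum_univ_two, Matrix.SpecialLinearGroup.coe_inv,
      Matrix.adjugate_fin_two, hτ10, d10, d00]
    linear_combination (ZMod.cast n : k) * hd

/-- The conclusion about an irreducible quadratic pair. -/
theorem quad_irreducible {p : ℕ} [Fact p.Prime] (hp : p ≠ 2) {V : Type*} [AddCommGroup V]
    [Finite V] [Module (ZMod p) V] {U : Type*} [Group U]
    (α : U →* Module.End (ZMod p) V) (x y : U)
    (hx : (α x - 1) * (α x - 1) = 0) (hy : (α y - 1) * (α y - 1) = 0)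
    (hirr : ∀ W : Submodule (ZMod p) V, (∀ w ∈ W, α x w ∈ W) → (∀ w ∈ W, α y w ∈ W) →
      W = ⊥ ∨ W = ⊤)
    (hnt : α x ≠ 1 ∨ α y ≠ 1) :
    α x ≠ 1 ∧ (∀ v, α x v = v ↔ ∃ w, α x w - w = v) ∧
      (∃ z ∈ Subgroup.closure ({x, y} : Set U), α z = -1) ∧
      ∀ n : ZMod p, n ≠ 0 → ∃ h ∈ Subgroup.closure ({x, y} : Set U),
        (∀ v, α x v = v → α h v = n • v) ∧
        (∃ m : ℕ, α h * α x = α x ^ m * α h) ∧
        ∀ w, α x w = w → ∃ w', α x w' - w' = w ∧ α h w' = n⁻¹ • w' := by
  classical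
  set a := α x - 1 with ha
  set b := α y - 1 with hb
  have hax : ∀ v, a v = α x v - v := fun v => rfl
  have hby : ∀ v, b v = α y v - v := fun v => rfl
  have hinv : ∀ W : Submodule (ZMod p) V, (∀ w ∈ W, a w ∈ W) → (∀ w ∈ W, b w ∈ W) →
      W = ⊥ ∨ W = ⊤ := by
    intro W h1 h2
    refine hirr W (fun w hw => ?_) (fun w hw => ?_)
    · simpa [hax] using W.add_mem (h1 w hw) hw
    · simpa [hby] using W.add_mem (h2 w hw) hw
  have hmul : ∀ (r s : Module.End (ZMod p) V) (v : V), (r * s) v = r (s v) := fun _ _ _ => rfl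
  set c := a * b + b * a with hc
  have hca : Commute a c := by
    show a * c = c * a
    rw [hc, mul_add, add_mul, ← mul_assoc, hx, zero_mul, mul_assoc b, hx, mul_zero,
      zero_add, add_zero, mul_assoc]
  have hcb : Commute b c := by
    show b * c = c * b
    rw [hc, mul_add, add_mul, ← mul_assoc b b, hy, zero_mul, mul_assoc a b b, hy, mul_zero,
      zero_add, add_zero, mul_assoc]
  have hc0 : c ≠ 0 := by
    intro h0
    have hab : a * b = -(b * a) := eq_neg_of_add_eq_zero_left h0
    let W : Submodule (ZMod p) V := LinearMap.ker a ⊓ LinearMap.ker b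
    have hz : ∀ v ∈ LinearMap.ker a, b v ∈ W := fun v hv => by
      refine ⟨?_, ?_⟩
      · show a (b v) = 0
        rw [← hmul, hab, LinearMap.neg_apply, hmul, LinearMap.mem_ker.mp hv, map_zero, neg_zero]
      · show b (b v) = 0
        rw [← hmul, hy, LinearMap.zero_apply]
    rcases hinv W (fun w hw => by rw [LinearMap.mem_ker.mp hw.1]; exact W.zero_mem)
      (fun w hw => by rw [LinearMap.mem_ker.mp hw.2]; exact W.zero_mem) with h | h
    · -- then `a` is injective and `a * a = 0`
      have hainj : ∀ v, a v = 0 → v = 0 := by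
        intro v hv
        have hbv : b v = 0 := by
          have := hz v hv
          rwa [h, Submodule.mem_bot] at this
        have : v ∈ W := ⟨hv, hbv⟩
        rwa [h, Submodule.mem_bot] at this
      have hzero : ∀ v : V, v = 0 := fun v => hainj v (hainj (a v) (by
        rw [← hmul, hx, LinearMap.zero_apply]))
      rcases hnt with e | e <;> refine e (LinearMap.ext fun v => ?_) <;> simp [hzero v]
    · rcases hnt with e | e
      · exact e (sub_eq_zero.mp (LinearMap.ext fun v => (h.symm ▸ Submodule.mem_top : v ∈ W).1))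
      · exact e (sub_eq_zero.mp (LinearMap.ext fun v => (h.symm ▸ Submodule.mem_top : v ∈ W).2))
  -- the field generated by `c`
  let F := Algebra.adjoin (ZMod p) ({c} : Set (Module.End (ZMod p) V))
  have hFa : ∀ r ∈ F, Commute a r := fun r hr =>
    Algebra.commute_of_mem_adjoin_singleton_of_commute hr hca
  have hFb : ∀ r ∈ F, Commute b r := fun r hr =>
    Algebra.commute_of_mem_adjoin_singleton_of_commute hr hcb
  haveI : Finite (Module.End (ZMod p) V) := DFunLike.finite _
  haveI : Finite ↥F := Subtype.finite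
  haveI : Nontrivial V := by
    by_contra h
    rw [not_nontrivial_iff_subsingleton] at h
    exact hc0 (LinearMap.ext fun v => Subsingleton.elim _ _)
  have hzd : ∀ r ∈ F, r ≠ 0 → ∀ v, r v = 0 → v = 0 := by
    intro r hr hr0 v hv
    have hcomm : ∀ {g : Module.End (ZMod p) V}, Commute g r → ∀ w ∈ LinearMap.ker r,
        g w ∈ LinearMap.ker r := fun {g} hg w hw => by
      rw [LinearMap.mem_ker, ← hmul, ← hg.eq, hmul, LinearMap.mem_ker.mp hw, map_zero]
    rcases hinv (LinearMap.ker r) (hcomm (hFa r hr)) (hcomm (hFb r hr)) with h | h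
    · have : v ∈ LinearMap.ker r := hv
      rwa [h, Submodule.mem_bot] at this
    · exact absurd (LinearMap.ker_eq_top.mp h) hr0
  letI : CommRing ↥F :=
    { (inferInstance : Ring ↥F) with
      mul_comm := fun r s => Subtype.ext
        (Algebra.commute_of_mem_adjoin_singleton_of_commute s.2
          (Algebra.commute_of_mem_adjoin_singleton_of_commute r.2 (Commute.refl c)).symm).eq }
  haveI : NoZeroDivisors ↥F := ⟨fun {r s} h => by
    by_contra hne
    push Not at hne
    refine hne.2 (Subtype.ext (LinearMap.ext fun v => ?_))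
    refine hzd r r.2 (fun h0 => hne.1 (Subtype.ext h0)) _ ?_
    exact LinearMap.congr_fun (congrArg Subtype.val h) v⟩
  haveI : IsDomain ↥F := NoZeroDivisors.to_isDomain _
  letI : Field ↥F := (Finite.isDomain_to_isField ↥F).toField
  haveI : CharP ↥F p := charP_of_injective_algebraMap (algebraMap (ZMod p) ↥F).injective p
  let ι : ↥F → Module.End (ZMod p) V := fun r => (r : Module.End (ZMod p) V)
  let μ : ↥F := ⟨c, Algebra.self_mem_adjoin_singleton _ _⟩
  have hμ : μ ≠ 0 := fun h => hc0 (congrArg Subtype.val h)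
  let m : Module.End (ZMod p) V := ι μ⁻¹
  have hmc : m * c = 1 := congrArg Subtype.val (inv_mul_cancel₀ hμ)
  have hma : a * m = m * a := (hFa m (μ⁻¹).2).eq
  have hmb : b * m = m * b := (hFb m (μ⁻¹).2).eq
  set b' := m * b with hb'
  set e := a * b' with he
  set f := b' * a with hf
  have hab' : a * b' = m * (a * b) := by rw [hb', ← mul_assoc, hma, mul_assoc]
  have hef : e + f = 1 := by
    rw [he, hf, hab', hb', mul_assoc, ← mul_add, ← hc, hmc]
  have hbb : b' * b' = 0 := by
    rw [hb', mul_assoc, ← mul_assoc b, hmb, mul_assoc m b b, hy, mul_zero, mul_zero]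
  have haba : a * b' * a = a := by
    have := congrArg (· * a) hef
    rw [he, hf] at this
    simp only [add_mul, one_mul, mul_assoc b', hx, mul_zero, add_zero] at this
    exact this
  have hbab : b' * a * b' = b' := by
    have := congrArg (b' * ·) hef
    rw [he, hf] at this
    simp only [mul_add, mul_one, ← mul_assoc, hbb, zero_mul, add_zero] at this
    exact this
  have hea : e * a = a := haba
  have hae : a * e = 0 := by rw [he, ← mul_assoc, hx, zero_mul]
  have haf : a * f = a := by rw [hf, ← mul_assoc]; exact haba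
  have hfa : f * a = 0 := by rw [hf, mul_assoc, hx, mul_zero]
  have heb : e * b' = 0 := by rw [he, mul_assoc, hbb, mul_zero]
  have hbe : b' * e = b' := by rw [he, ← mul_assoc]; exact hbab
  have hfb : f * b' = b' := hbab
  have hbf : b' * f = 0 := by rw [hf, ← mul_assoc, hbb, zero_mul]
  have hee : e * e = e := by
    conv_lhs => rw [he, ← mul_assoc, ← he, hea]
  have hff : f * f = f := by
    conv_lhs => rw [hf, ← mul_assoc, ← hf, hfb]
  have hef0 : e * f = 0 := by rw [hf, ← mul_assoc, heb, zero_mul]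
  have hfe : f * e = 0 := by rw [he, ← mul_assoc, hfa, zero_mul]
  have hcm : ∀ r : ↥F, Commute e (ι r) ∧ Commute f (ι r) ∧ Commute a (ι r) ∧ Commute b' (ι r) := by
    intro r
    have h1 : Commute a (ι r) := hFa _ r.2
    have h2 : Commute b' (ι r) :=
      Commute.mul_left (congrArg Subtype.val (mul_comm μ⁻¹ r)) (hFb _ r.2)
    exact ⟨h1.mul_left h2, h2.mul_left h1, h1, h2⟩
  let Φ : SL(2, ↥F) → Module.End (ZMod p) V := fun M =>
    ι (M 0 0) * e + ι (M 1 1) * f + ι (M 0 1) * a + ι (M 1 0) * b'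
  have hΦmul : ∀ M N, Φ (M * N) = Φ M * Φ N := by
    intro M N
    have move : ∀ (r s : ↥F) (g g' : Module.End (ZMod p) V), Commute g (ι s) →
        ι r * g * (ι s * g') = ι (r * s) * (g * g') := by
      intro r s g g' hg
      show ι r * g * (ι s * g') = ι r * ι s * (g * g')
      rw [mul_assoc, ← mul_assoc g, hg.eq, mul_assoc (ι s), ← mul_assoc]
    simp only [Φ, Matrix.SpecialLinearGroup.coe_mul, Matrix.mul_apply, Fin.sum_univ_two, mul_add,
      add_mul, move _ _ _ _ (hcm _).1, move _ _ _ _ (hcm _).2.1, move _ _ _ _ (hcm _).2.2.1,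
      move _ _ _ _ (hcm _).2.2.2, hee, hef0, hea, heb, hfe, hff, hfa, hfb, hae, haf,
      hbe, hbf, hx, hbb, mul_zero, add_zero, zero_add]
    simp only [show a * b' = e from rfl, show b' * a = f from rfl,
      show ∀ r s : ↥F, ι (r + s) = ι r + ι s from fun _ _ => rfl, add_mul]
    abel
  have hι0 : ι 0 = 0 := rfl
  have hι1 : ι 1 = 1 := rfl
  have hΦ1 : Φ 1 = 1 := by simpa [Φ, hι0, hι1] using hef
  have hΦx : Φ (upper 1) = α x := by
    simp [Φ, hι0, hι1, hef, ha]
  have hΦy : Φ (lower μ) = α y := by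
    have : ι μ * b' = b := by
      rw [hb', ← mul_assoc, show ι μ * m = 1 from congrArg Subtype.val (mul_inv_cancel₀ hμ), one_mul]
    simp [Φ, hι0, hι1, hef, this, hb]
  -- the matrices realized by the group
  let M₀ : Subgroup SL(2, ↥F) :=
    { carrier := {M | ∃ u ∈ Subgroup.closure ({x, y} : Set U), α u = Φ M}
      one_mem' := ⟨1, one_mem _, by rw [map_one, hΦ1]⟩
      mul_mem' := by
        rintro M N ⟨u, hu, he⟩ ⟨v, hv, he'⟩
        exact ⟨u * v, mul_mem hu hv, by rw [map_mul, he, he', hΦmul]⟩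
      inv_mem' := by
        rintro M ⟨u, hu, he⟩
        refine ⟨u⁻¹, inv_mem hu, left_inv_eq_right_inv (a := α u) ?_ ?_⟩
        · rw [← map_mul, inv_mul_cancel, map_one]
        · rw [he, ← hΦmul, mul_inv_cancel, hΦ1] }
  have hxM : upper (1 : ↥F) ∈ M₀ := ⟨x, Subgroup.subset_closure (Or.inl rfl), hΦx.symm⟩
  have hyM : lower μ ∈ M₀ := ⟨y, Subgroup.subset_closure (Or.inr rfl), hΦy.symm⟩
  let k := AlgebraicClosure ↥F
  let emb : SL(2, ↥F) →* SL(2, k) := Matrix.SpecialLinearGroup.map (algebraMap ↥F k)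
  haveI : CharP k p := charP_of_injective_algebraMap (algebraMap ↥F k).injective p
  haveI : Finite SL(2, ↥F) := Subtype.finite
  haveI : Finite ↥(M₀.map emb) :=
    Finite.of_surjective _ (emb.subgroupMap_surjective M₀)
  have hemb : ∀ M i j, emb M i j = algebraMap ↥F k (M i j) := fun _ _ _ => rfl
  have hup : upper (1 : k) ∈ M₀.map emb :=
    ⟨upper 1, hxM, by ext i j; rw [hemb]; fin_cases i <;> fin_cases j <;> simp⟩
  have hmv : ∃ g ∈ M₀.map emb, g 1 0 ≠ 0 := ⟨emb (lower μ), ⟨_, hyM, rfl⟩, by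
    rw [hemb]; simpa using hμ⟩
  have ha0 : α x ≠ 1 := by
    intro h
    apply hc0
    rw [hc, ha, h, sub_self, zero_mul, mul_zero, add_zero]
  have hfix : ∀ v, α x v = v ↔ ∃ w, α x w - w = v := by
    intro v
    constructor
    · intro hv
      refine ⟨b' v, ?_⟩
      rw [← hax]
      have h1 : e v + f v = v := by rw [← LinearMap.add_apply, hef]; rfl
      rw [show f v = b' (a v) from rfl, hax, hv, sub_self, map_zero, add_zero] at h1
      exact h1
    · rintro ⟨w, rfl⟩
      rw [← hax, ← sub_eq_zero, ← hax, ← hmul, hx, LinearMap.zero_apply]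
  refine ⟨ha0, hfix, ?_, fun n hn => ?_⟩
  · obtain ⟨M, hM, hMe⟩ := (exists_triangular_of_upper hp _ hup hmv one_ne_zero).1
    have hM1 : M = -1 := by
      refine Subtype.ext (Matrix.ext fun i j => (algebraMap ↥F k).injective ?_)
      rw [← hemb, hMe]
      fin_cases i <;> fin_cases j <;> simp [Matrix.SpecialLinearGroup.coe_neg]
    obtain ⟨u, hu, hue⟩ := hM
    refine ⟨u, hu, hue.trans ?_⟩
    rw [hM1]
    simp only [Φ, Matrix.SpecialLinearGroup.coe_neg, Matrix.SpecialLinearGroup.coe_one,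
      Matrix.neg_apply, Matrix.one_apply_eq, Matrix.one_apply_ne (show (0 : Fin 2) ≠ 1 by decide),
      Matrix.one_apply_ne (show (1 : Fin 2) ≠ 0 by decide), neg_zero, hι0, zero_mul, add_zero,
      show ι (-1) = -1 from rfl, neg_one_mul, ← neg_add, hef]
  -- the triangular element
  set N : ↥F := algebraMap (ZMod p) ↥F n with hN
  have hN0 : N ≠ 0 := (map_ne_zero _).mpr hn
  obtain ⟨M, hM, hM10, hM00, hM01⟩ : ∃ M ∈ M₀, M 1 0 = 0 ∧ M 0 0 = N ∧ (N = N⁻¹ → M 0 1 = 0) := by
    obtain ⟨hneg, g, hg, hg10, hg00⟩ := exists_triangular_of_upper hp _ hup hmv hn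
    by_cases hnn : N = N⁻¹
    · have h1 : N * N = 1 := by
        nth_rewrite 1 [hnn]
        exact inv_mul_cancel₀ hN0
      rcases mul_self_eq_one_iff.mp h1 with h | h
      · exact ⟨1, one_mem _, by simp, by simp [h], fun _ => by simp⟩
      · obtain ⟨M, hM, hMe⟩ := hneg
        have hM1 : M = -1 := by
          refine Subtype.ext (Matrix.ext fun i j => (algebraMap ↥F k).injective ?_)
          rw [← hemb, hMe]
          fin_cases i <;> fin_cases j <;> simp [Matrix.SpecialLinearGroup.coe_neg]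
        exact ⟨M, hM, by simp [hM1, Matrix.SpecialLinearGroup.coe_neg],
          by simp [hM1, h, Matrix.SpecialLinearGroup.coe_neg],
          fun _ => by simp [hM1, Matrix.SpecialLinearGroup.coe_neg]⟩
    · obtain ⟨M, hM, rfl⟩ := hg
      refine ⟨M, hM, (algebraMap ↥F k).injective ?_, (algebraMap ↥F k).injective ?_,
        fun h => absurd h hnn⟩
      · rw [← hemb, hg10, map_zero]
      · rw [← hemb, hg00, hN, ← IsScalarTower.algebraMap_apply]
        exact RingHom.congr_fun (RingHom.ext_zmod _ _) n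
  have hM11 : M 1 1 = N⁻¹ := by
    have hd := det_entries M
    rw [hM10, hM00, mul_zero, sub_zero] at hd
    exact eq_inv_of_mul_eq_one_right hd
  obtain ⟨h, hh, hhM⟩ := hM
  refine ⟨h, hh, ?_, ⟨(n * n).val, ?_⟩, fun w hw => ?_⟩
  all_goals have hιn : ∀ r : ZMod p, ∀ v : V, ι (algebraMap (ZMod p) ↥F r) v = r • v := fun r v =>
    Module.algebraMap_end_apply (ZMod p) (ZMod p) V r v
  · intro v hv
    obtain ⟨w, rfl⟩ := (hfix v).mp hv
    rw [← hax, hhM, ← hmul]
    simp only [Φ, hM00, hM11, hM10, hι0, zero_mul, add_zero, add_mul, mul_assoc, hea, hfa, hx,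
      mul_zero]
    exact hιn n (a w)
  · have hpow : ∀ i : ℕ, Φ (upper 1 ^ i) = α x ^ i := by
      intro i
      induction i with
      | zero => simpa using hΦ1
      | succ i ih => rw [pow_succ, pow_succ, hΦmul, ih, hΦx]
    rw [← hpow, hhM, ← hΦx, ← hΦmul, ← hΦmul]
    congr 1
    rw [upper_pow, mul_one]
    have hval : (((n * n).val : ℕ) : ↥F) = N * N := by
      rw [← map_natCast (algebraMap (ZMod p) ↥F), ZMod.natCast_zmod_val, map_mul]
    apply Subtype.ext
    ext i j
    fin_cases i <;> fin_cases j <;>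
      simp [Matrix.mul_apply, Fin.sum_univ_two, hM00, hM11, hM10, hval]
    all_goals exact add_comm _ _
  · set γ : ↥F := M 0 1 / (N⁻¹ - N) with hγ
    have hγ' : M 0 1 + N * γ = N⁻¹ * γ := by
      rcases eq_or_ne N N⁻¹ with h | h
      · rw [hγ, hM01 h, zero_div]; simp
      · have hne : N⁻¹ - N ≠ 0 := sub_ne_zero.mpr (Ne.symm h)
        have : γ * (N⁻¹ - N) = M 0 1 := div_mul_cancel₀ _ hne
        linear_combination -this
    obtain ⟨v, hv⟩ := (hfix w).mp hw
    rw [← hax] at hv
    subst hv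
    refine ⟨b' (a v) + ι γ (a v), ?_, ?_⟩
    · rw [← hax, map_add, ← hmul a (ι γ), (hcm γ).2.2.1.eq, hmul (ι γ) a, ← hmul a a, hx,
        LinearMap.zero_apply, map_zero, add_zero, ← hmul, ← hmul, haba]
    · rw [← hιn, map_inv₀, ← hN, map_add, map_add, ← hmul (α h), ← hmul (α h), ← hmul (ι N⁻¹),
        ← hmul (ι N⁻¹), hhM]
      simp only [← hmul, ← LinearMap.add_apply]
      refine LinearMap.congr_fun ?_ v
      have e1 : Φ M * b' * a = ι (M 0 1) * a + ι N⁻¹ * (b' * a) := by
        simp only [Φ, hM00, hM11, hM10, hι0, zero_mul, add_zero, add_mul, mul_assoc]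
        simp only [← mul_assoc e, ← mul_assoc f, ← mul_assoc a, heb, hfb, haba, zero_mul,
          mul_zero, zero_add]
        exact add_comm _ _
      have e2 : Φ M * ι γ * a = ι (N * γ) * a := by
        simp only [Φ, hM00, hM11, hM10, hι0, zero_mul, add_zero, add_mul, mul_assoc]
        simp only [← mul_assoc e, ← mul_assoc f, ← mul_assoc a, (hcm γ).1.eq, (hcm γ).2.1.eq,
          (hcm γ).2.2.1.eq, mul_assoc, hea, hfa, hx, mul_zero, add_zero]
        rw [← mul_assoc]
        rfl
      rw [e1, e2, mul_assoc (ι N⁻¹) b', show ι N⁻¹ * ι γ = ι (N⁻¹ * γ) from rfl,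
        ← hγ', show ι (M 0 1 + N * γ) = ι (M 0 1) + ι (N * γ) from rfl, add_mul]
      abel

end Cfsg.Agent.PLocalB
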