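import Cfsg.Agent.PLocalB.QuadPair
import Cfsg.Agent.Lib.Involution.BaerSuzuki
import Cfsg.Agent.Lib.Thompson.Cores
import Cfsg.Agent.Lib.Perm.QuaternionClassTwo
import Cfsg.Agent.Lib.Dickson.Main
import Cfsg.Agent.ClMax99.PSLSub
import Cfsg.Agent.Twisted.Groups.G2
import Cfsg.Agent.ZStar.Quaternion
import Cfsg.Agent.S1073
import Cfsg.Agent.S1069

/-!
`SL(2, p)` is a section neither of `PSL₂` over a field of odd order nor of a Ree group: a quaternion
group would be a section of a Sylow 2-subgroup.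
-/

set_option autoImplicit false
set_option linter.style.haveILetI false
set_option linter.unusedSectionVars false

open scoped MatrixGroups
open Matrix

attribute [local instance] Cfsg.Agent.PLocalB.lineAction Cfsg.Agent.Dickson.pslLine

namespace Cfsg.Agent.PLocalB.QuatSec

variable {p : ℕ} [Fact p.Prime]

theorem neg_one_ne_one (hp : p ≠ 2) : (-1 : SL(2, ZMod p)) ≠ 1 := by
  intro h
  have h' := congrArg (fun M : SL(2, ZMod p) => (M : Matrix (Fin 2) (Fin 2) (ZMod p)) 0 0) h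
  simp at h'
  have : ((2 : ℕ) : ZMod p) = 0 := by push_cast; linear_combination -h'
  rw [ZMod.natCast_eq_zero_iff] at this
  exact hp ((Nat.prime_dvd_prime_iff_eq Fact.out Nat.prime_two).mp this)

/-- The quaternion group inside `SL(2, p)`. -/
theorem exists_quat_in_sl (hp : p ≠ 2) : ∃ ψ : QuaternionGroup 2 →* SL(2, ZMod p),
    Function.Injective ψ ∧ IsPGroup 2 ψ.range ∧
    ψ (.a 1) * ψ (.a 1) ≠ 1 ∧ ψ (.xa 0) * ψ (.xa 0) ≠ 1 ∧
    ψ (.a 1) * ψ (.xa 0) ≠ ψ (.xa 0) * ψ (.a 1) := by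
  obtain ⟨c, d, hcd⟩ := ZMod.sq_add_sq p (-1 : ZMod p)
  obtain ⟨x, hx⟩ : ∃ x : SL(2, ZMod p), (x : Matrix (Fin 2) (Fin 2) (ZMod p)) = !![0, -1; 1, 0] :=
    ⟨⟨!![0, -1; 1, 0], by simp [Matrix.det_fin_two]⟩, rfl⟩
  obtain ⟨y, hy⟩ : ∃ y : SL(2, ZMod p), (y : Matrix (Fin 2) (Fin 2) (ZMod p)) = !![c, d; d, -c] :=
    ⟨⟨!![c, d; d, -c], by simp [Matrix.det_fin_two]; linear_combination -hcd⟩, rfl⟩
  have hxx : x * x = -1 := by
    apply Subtype.ext
    ext i j
    fin_cases i <;> fin_cases j <;> simp [hx, Matrix.SpecialLinearGroup.coe_mul, Matrix.mul_apply, Fin.sum_univ_two]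
  have hyy : y * y = -1 := by
    apply Subtype.ext
    ext i j
    fin_cases i <;> fin_cases j <;>
      simp [hy, Matrix.SpecialLinearGroup.coe_mul, Matrix.mul_apply, Fin.sum_univ_two] <;>
      first | linear_combination hcd | ring
  have hyx : y * x = -(x * y) := by
    apply Subtype.ext
    ext i j
    fin_cases i <;> fin_cases j <;> simp [hx, hy, Matrix.SpecialLinearGroup.coe_mul, Matrix.mul_apply, Fin.sum_univ_two]
  obtain ⟨ψ, hI, hJ⟩ := Perm.ClassTwo.exists_quaternion_hom x y (hxx.trans hyy.symm)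
    (by rw [hyy]; simp)
    (by rw [mul_assoc, hyx, mul_neg, ← mul_assoc, hxx]; simp)
  have hne := neg_one_ne_one (p := p) hp
  refine ⟨ψ, ?_, ?_, by rw [hI, hxx]; exact hne, by rw [hJ, hyy]; exact hne, ?_⟩
  · have key : ∀ g : QuaternionGroup 2, g = 1 ∨ g = .a 2 ∨ g * g = .a 2 := by decide
    have h2 : ψ (.a 2) = -1 := by
      rw [show (QuaternionGroup.a 2 : QuaternionGroup 2) = .a 1 * .a 1 by decide, map_mul, hI, hxx]
    rw [injective_iff_map_eq_one]
    intro g hg
    rcases key g with h | h | h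
    · exact h
    · rw [h, h2] at hg; exact absurd hg hne
    · have := congrArg ψ h
      rw [map_mul, hg, one_mul, h2] at this
      exact absurd this.symm hne
  · refine IsPGroup.of_surjective ?_ ψ.rangeRestrict ψ.rangeRestrict_surjective
    intro g
    refine ⟨2, ?_⟩
    revert g
    decide
  · rw [hI, hJ, hyx]
    intro h
    have h3 : x * y * (x * y)⁻¹ = -(x * y) * (x * y)⁻¹ := by rw [← h]
    rw [mul_inv_cancel, neg_mul, mul_inv_cancel] at h3
    exact hne h3.symm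

/-- A section `SL(2, p)` gives a 2-subgroup covering a quaternion group. -/
theorem exists_cover {Q : Type*} [Group Q] [Finite Q] {L : Subgroup Q} (π : L →* SL(2, ZMod p))
    (hπ : Function.Surjective π) (ψ : QuaternionGroup 2 →* SL(2, ZMod p))
    (hψ : IsPGroup 2 ψ.range) :
    ∃ (R : Subgroup Q) (φ : R →* SL(2, ZMod p)), IsPGroup 2 R ∧ ψ.range ≤ φ.range := by
  haveI : Fact (Nat.Prime 2) := ⟨Nat.prime_two⟩
  let K₀ : Subgroup L := ψ.range.comap π
  obtain ⟨S⟩ := (inferInstance : Nonempty (Sylow 2 K₀))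
  let f : K₀ →* ψ.range := π.subgroupComap ψ.range
  have hf : Function.Surjective f := π.subgroupComap_surjective_of_surjective ψ.range hπ
  haveI : Finite ψ.range := Finite.of_surjective f hf
  have htop : ((S.mapSurjective hf : Sylow 2 ψ.range) : Subgroup ψ.range) = ⊤ :=
    ((S.mapSurjective hf).is_maximal' (hψ.to_subgroup ⊤) le_top).symm
  rw [Sylow.coe_mapSurjective] at htop
  let i : K₀ →* Q := L.subtype.comp K₀.subtype
  have hi : Function.Injective i := L.subtype_injective.comp K₀.subtype_injective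
  let e : S ≃* (S : Subgroup K₀).map i := Subgroup.equivMapOfInjective _ _ hi
  refine ⟨(S : Subgroup K₀).map i,
    ((ψ.range.subtype.comp f).comp (S : Subgroup K₀).subtype).comp e.symm.toMonoidHom,
    S.2.map i, fun z hz => ?_⟩
  obtain ⟨k, hk, hkz⟩ := (htop ▸ Subgroup.mem_top (⟨z, hz⟩ : ψ.range) :
    (⟨z, hz⟩ : ψ.range) ∈ (S : Subgroup K₀).map f)
  refine ⟨e ⟨k, hk⟩, ?_⟩
  show ((f (e.symm (e ⟨k, hk⟩) : K₀)) : SL(2, ZMod p)) = z
  rw [e.symm_apply_apply, hkz]

/-- Two non-commuting images with square not one do not come from a cyclic, dihedral or abelian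
group. -/
theorem not_dihedral {R M : Type*} [Group R] [Group M] {n : ℕ} (e : R ≃* DihedralGroup n)
    (φ : R →* M) {u v : R} (hu : φ u * φ u ≠ 1) (hv : φ v * φ v ≠ 1) :
    φ u * φ v = φ v * φ u := by
  have key : ∀ w : R, φ w * φ w ≠ 1 → ∃ i, e w = .r i := by
    intro w hw
    rcases h : e w with i | i
    · exact ⟨i, rfl⟩
    · refine absurd ?_ hw
      have : e (w * w) = 1 := by rw [map_mul, h, DihedralGroup.sr_mul_sr, sub_self]; rfl
      rw [← map_mul, e.injective (this.trans e.map_one.symm), map_one]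
  obtain ⟨i, hi⟩ := key u hu
  obtain ⟨j, hj⟩ := key v hv
  have : e (u * v) = e (v * u) := by
    rw [map_mul, map_mul, hi, hj, DihedralGroup.r_mul_r, DihedralGroup.r_mul_r, add_comm]
  rw [← map_mul, ← map_mul, e.injective this]

theorem eq_one_of_prime_pow {a b k l c : ℕ} (ha : a.Prime) (hb : b.Prime) (hab : a ≠ b)
    (h : c ∣ a ^ k) (h' : c ∣ b ^ l) : c = 1 :=
  Nat.eq_one_of_dvd_coprimes (((Nat.coprime_primes ha hb).2 hab).pow k l) h h'

/-- No quaternion group is covered by a 2-subgroup of `PSL₂(F)`, `|F|` odd. -/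
theorem psl_no_section {F : Type*} [Field F] [Fintype F] (hp : p ≠ 2) (hodd : Odd (Fintype.card F))
    (L : Subgroup (Matrix.ProjectiveSpecialLinearGroup (Fin 2) F)) (π : L →* SL(2, ZMod p)) :
    ¬ Function.Surjective π := by
  classical
  haveI : Fact (Nat.Prime 2) := ⟨Nat.prime_two⟩
  intro hπ
  obtain ⟨ψ, -, hψ2, hI, hJ, hIJ⟩ := exists_quat_in_sl (p := p) hp
  obtain ⟨R, φ, hR, hle⟩ := exists_cover π hπ ψ hψ2
  obtain ⟨u, hu⟩ := hle ⟨.a 1, rfl⟩
  obtain ⟨v, hv⟩ := hle ⟨.xa 0, rfl⟩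
  rw [← hu] at hI hIJ
  rw [← hv] at hJ hIJ
  obtain ⟨r, hr⟩ := CharP.exists F
  obtain ⟨⟨m, hm⟩, hrp, hcardF⟩ := FiniteField.card F r
  haveI : Fact r.Prime := ⟨hrp⟩
  simp only [PNat.mk_coe] at hcardF
  have hr2 : r ≠ 2 := by
    rintro rfl
    rw [hcardF] at hodd
    exact Nat.not_odd_iff_even.2 (even_two.pow_of_ne_zero hm.ne') hodd
  obtain ⟨k, hk⟩ := hR.exists_card_eq
  rcases Dickson.kind r R with ⟨-, -, hc, -⟩ | ⟨t, ht⟩ | ⟨n, -, -, ⟨e⟩⟩ | ⟨⟨e⟩⟩ | ⟨⟨e⟩⟩ | ⟨⟨e⟩⟩ |
      ⟨T, hT, -, hiso⟩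
  · haveI := hc
    exact hIJ (by rw [← map_mul, ← map_mul, IsCyclic.commGroup.mul_comm u v])
  · -- Borel: commutators are unipotent
    obtain ⟨P, hP⟩ := Dickson.exists_sylow_upp (F := F) r
    obtain ⟨A, hA, hA0⟩ := Dickson.exists_upper_rep (ht u u.2)
    obtain ⟨B, hB, hB0⟩ := Dickson.exists_upper_rep (ht v v.2)
    set c := (u : Matrix.ProjectiveSpecialLinearGroup (Fin 2) F) * v *
      (u : Matrix.ProjectiveSpecialLinearGroup (Fin 2) F)⁻¹ *
      (v : Matrix.ProjectiveSpecialLinearGroup (Fin 2) F)⁻¹ with hc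
    have hcU : t * c * t⁻¹ ∈ (P : Subgroup (Matrix.ProjectiveSpecialLinearGroup (Fin 2) F)) := by
      have e1 : t * c * t⁻¹ = QuotientGroup.mk (A * B * A⁻¹ * B⁻¹) := by
        rw [QuotientGroup.mk_mul, QuotientGroup.mk_mul, QuotientGroup.mk_mul, QuotientGroup.mk_inv,
          QuotientGroup.mk_inv, hA, hB, hc]
        group
      have hdA := Dickson.upper_diag hA0
      have hdB := Dickson.upper_diag hB0
      have h10 : (A * B * A⁻¹ * B⁻¹) 1 0 = 0 := by
        simp [Matrix.SpecialLinearGroup.coe_mul, Matrix.SpecialLinearGroup.coe_inv, Matrix.adjugate_fin_two,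
          Matrix.mul_apply, Fin.sum_univ_two, hA0, hB0]
      have h00 : (A * B * A⁻¹ * B⁻¹) 0 0 = 1 := by
        simp [Matrix.SpecialLinearGroup.coe_mul, Matrix.SpecialLinearGroup.coe_inv, Matrix.adjugate_fin_two,
          Matrix.mul_apply, Fin.sum_univ_two, hA0, hB0]
        linear_combination (B 0 0 * B 1 1) * hdA + hdB
      obtain ⟨b, hb⟩ := Dickson.isUni_infty_iff_upp.1 ((Dickson.isUni_infty_iff h10).2 (by rw [h00, one_pow]))
      rw [hP, e1, hb]
      exact ⟨_, rfl⟩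
    have hcR : c ∈ R := R.mul_mem (R.mul_mem (R.mul_mem u.2 v.2) (R.inv_mem u.2)) (R.inv_mem v.2)
    obtain ⟨i, hi⟩ := IsPGroup.iff_orderOf.1 P.2 ⟨_, hcU⟩
    obtain ⟨j, hj⟩ := IsPGroup.iff_orderOf.1 hR ⟨_, hcR⟩
    rw [Subgroup.orderOf_mk] at hi hj
    rw [← MulAut.conj_apply, MulEquiv.orderOf_eq] at hi
    have h1 : c = 1 := orderOf_eq_one_iff.1
      (eq_one_of_prime_pow hrp Nat.prime_two hr2 hi.dvd hj.dvd)
    refine hIJ ?_
    have h2 : u * v = v * u := Subtype.ext (by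
      show (u : Matrix.ProjectiveSpecialLinearGroup (Fin 2) F) * v = v * u
      rwa [hc, mul_inv_eq_one, mul_inv_eq_iff_eq_mul] at h1)
    rw [← map_mul, ← map_mul, h2]
  · exact hIJ (not_dihedral e φ hI hJ)
  · have h := Nat.card_congr e.toEquiv
    rw [hk, nat_card_alternatingGroup, Nat.card_fin] at h
    have : (3 : ℕ) ∣ 2 ^ k := h ▸ by decide
    exact absurd (Nat.prime_three.dvd_of_dvd_pow this) (by decide)
  · have h := Nat.card_congr e.toEquiv
    rw [hk, Nat.card_perm, Nat.card_fin] at h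
    have : (3 : ℕ) ∣ 2 ^ k := h ▸ by decide
    exact absurd (Nat.prime_three.dvd_of_dvd_pow this) (by decide)
  · have h := Nat.card_congr e.toEquiv
    rw [hk, nat_card_alternatingGroup, Nat.card_fin] at h
    have : (3 : ℕ) ∣ 2 ^ k := h ▸ by decide
    exact absurd (Nat.prime_three.dvd_of_dvd_pow this) (by decide)
  · have hd : Nat.card (Matrix.ProjectiveSpecialLinearGroup (Fin 2) T) ∣ 2 ^ k := by
      rcases hiso with ⟨⟨e⟩⟩ | ⟨⟨e⟩⟩
      · rw [← hk, Nat.card_congr e.toEquiv]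
      · rw [← hk, Nat.card_congr e.toEquiv]
        exact Subgroup.card_dvd_of_injective _ Matrix.ProjectiveSpecialLinearGroup.toPGL_injective
    have h1 := LinearGroup.gcd_mul_card_PSL_two (F := T)
    have hTr : ∃ l, Nat.card T ∣ r ^ l := by
      obtain ⟨a, ha1, ha⟩ := Dickson.exists_pow_card T
      refine ⟨m, ?_⟩
      rw [← hcardF, ← ha]
      exact dvd_pow_self _ (by omega)
    obtain ⟨l, hl⟩ := hTr
    have hdvd : Nat.card T ∣ 2 ^ (k + 1) := by
      have h2 : Nat.card T ∣ Nat.gcd 2 (Nat.card T - 1) *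
          Nat.card (Matrix.ProjectiveSpecialLinearGroup (Fin 2) T) := h1 ▸ dvd_mul_right _ _
      rw [pow_succ']
      exact h2.trans (mul_dvd_mul (Nat.gcd_dvd_left _ _) hd)
    have := eq_one_of_prime_pow hrp Nat.prime_two hr2 hl hdvd
    omega

theorem pow_three_mod_sixteen (m : ℕ) : 3 ^ (2 * m + 1) % 16 = 3 ∨ 3 ^ (2 * m + 1) % 16 = 11 := by
  induction m with
  | zero => left; rfl
  | succ m ih => rw [show 2 * (m + 1) + 1 = 2 * m + 1 + 2 by ring, pow_add]; omega

/-- No quaternion group is covered by a 2-subgroup of a Ree group. -/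
theorem ree_no_section {Q : Type*} [Group Q] [Finite Q] (hp : p ≠ 2) (hQ : Cfsg.Lie.IsoRee Q)
    (L : Subgroup Q) (π : L →* SL(2, ZMod p)) : ¬ Function.Surjective π := by
  classical
  haveI : Fact (Nat.Prime 2) := ⟨Nat.prime_two⟩
  intro hπ
  obtain ⟨K, iK, fK, m, hm, hK, ⟨e⟩⟩ := hQ
  haveI hsimple : IsSimpleGroup Q := by
    haveI := (S1073.result hm hK).1
    exact e.isSimpleGroup
  obtain ⟨ψ, hψ, hψ2, hI, -, -⟩ := exists_quat_in_sl (p := p) hp
  obtain ⟨R, φ, hR, hle⟩ := exists_cover π hπ ψ hψ2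
  have h16 : ¬ 16 ∣ Nat.card Q := by
    rw [Nat.card_congr e.toEquiv, S1069.result hK, Nat.dvd_iff_mod_eq_zero]
    rcases pow_three_mod_sixteen m with h | h <;>
    · generalize 3 ^ (2 * m + 1) = q at h ⊢
      have h' : (q - 1) % 16 = q % 16 - 1 := by omega
      rw [Nat.mul_mod, Nat.mul_mod (q ^ 3), Nat.add_mod, Nat.pow_mod, h', h]
      decide
  obtain ⟨P, hP⟩ := hR.exists_le_sylow
  obtain ⟨k, hk⟩ := P.2.exists_card_eq
  have hk3 : k ≤ 3 := by
    by_contra h
    exact h16 ((pow_dvd_pow 2 (show 4 ≤ k by omega)).trans (hk ▸ Subgroup.card_subgroup_dvd_card _))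
  have h8 : 8 ≤ Nat.card φ.range := by
    calc 8 = Nat.card (QuaternionGroup 2) := by rw [Nat.card_eq_fintype_card]; rfl
      _ = Nat.card ψ.range := Nat.card_congr (MonoidHom.ofInjective hψ).toEquiv
      _ ≤ Nat.card φ.range := Subgroup.card_le_of_le hle
  have hRP : Nat.card R ≤ Nat.card (P : Subgroup Q) := Subgroup.card_le_of_le hP
  have hP8 : Nat.card (P : Subgroup Q) ≤ 8 := hk ▸ Nat.pow_le_pow_right two_pos hk3
  have hφR : Nat.card φ.range ≤ Nat.card R := Finite.card_range_le φ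
  have hψφ : ψ.range = φ.range := Subgroup.eq_of_le_of_card_ge hle (by
    rw [← Nat.card_congr (MonoidHom.ofInjective hψ).toEquiv, Nat.card_eq_fintype_card (α := QuaternionGroup 2)]
    show _ ≤ 8
    omega)
  have hφinj : Function.Injective φ := by
    have h : Function.Injective φ.rangeRestrict :=
      ((Nat.bijective_iff_surjective_and_card _).2 ⟨φ.rangeRestrict_surjective, by omega⟩).1
    exact fun a b hab => h (Subtype.ext hab)
  have hRP' : R = (P : Subgroup Q) := Subgroup.eq_of_le_of_card_ge hP (by omega)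
  let eP : (P : Subgroup Q) ≃* QuaternionGroup 2 :=
    ((MulEquiv.subgroupCongr hRP'.symm).trans (MonoidHom.ofInjective hφinj)).trans
      ((MulEquiv.subgroupCongr hψφ.symm).trans (MonoidHom.ofInjective hψ).symm)
  let z : (P : Subgroup Q) := eP.symm (.a 2)
  have hz : orderOf (z : Q) = 2 := by
    rw [Subgroup.orderOf_coe, MulEquiv.orderOf_eq]
    exact orderOf_eq_prime (by decide) (by decide)
  obtain ⟨N, hN, hNtop, hzN⟩ := ZStar.exists_normal_of_quaternion P eP z.2 hz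
  rcases hN.eq_bot_or_eq_top with h | h
  · rw [h, Subgroup.mem_bot] at hzN
    rw [hzN, orderOf_one] at hz
    omega
  · exact hNtop h

end Cfsg.Agent.PLocalB.QuatSec
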