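import Cfsg.Agent.OddLocal43.RankTwo

/-!
Primes dividing the order of the automorphism group of a `p`-group of rank at most two, `p` odd.
-/

set_option autoImplicit false
set_option linter.style.haveILetI false

namespace Cfsg.Agent.PLocalB

open Cfsg.Agent.OddLocal43

theorem prime_dvd_aut_rank_two {R : Type*} [Group R] [Finite R] {p : ℕ} [Fact p.Prime] (hp : p ≠ 2)
    (hR : IsPGroup p R) (hrk : Cfsg.PRankLE p 2 R) (q : ℕ) (hq : q.Prime) (hqp : q ≠ p)
    (hdvd : q ∣ Nat.card (MulAut R)) : q ∣ p ^ 2 - 1 ∧ q < p := by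
  have hpp := (Fact.out : p.Prime)
  have hsq : p ^ 2 - 1 = (p + 1) * (p - 1) := by simpa using Nat.sq_sub_sq p 1
  by_cases hq2 : q = 2
  · subst hq2
    refine ⟨?_, lt_of_le_of_ne hpp.two_le (Ne.symm hp)⟩
    rw [hsq]
    refine dvd_mul_of_dvd_right ?_ _
    have := hpp.eq_two_or_odd.resolve_left hp
    omega
  haveI : Fact q.Prime := ⟨hq⟩
  obtain ⟨a, ha⟩ := exists_prime_orderOf_dvd_card' q hdvd
  let G := R ⋊[(Subgroup.zpowers a).subtype] ↥(Subgroup.zpowers a)
  haveI : Finite G := Finite.of_equiv _ SemidirectProduct.equivProd.symm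
  let ι : R →* G := SemidirectProduct.inl
  set R' : Subgroup G := ι.range with hR'
  have hR'p : IsPGroup p R' := hR.of_equiv (MonoidHom.ofInjective SemidirectProduct.inl_injective)
  have hrk' : Cfsg.PRankLE p 2 R' :=
    prankLE_of_injective ((MonoidHom.ofInjective
      (f := ι) SemidirectProduct.inl_injective).symm.toMonoidHom)
      (MulEquiv.injective _) hrk
  obtain ⟨ψ, hψ⟩ := exists_rank_two_rep hp hR'p hrk'
  set b : G := SemidirectProduct.inr ⟨a, Subgroup.mem_zpowers a⟩ with hb
  haveI : R'.Normal := by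
    rw [hR', show ι.range = _ from SemidirectProduct.range_inl_eq_ker_rightHom]; infer_instance
  have hbN : b ∈ Subgroup.normalizer (R' : Set G) := by
    rw [Subgroup.normalizer_eq_top R']; trivial
  have hob : orderOf b = q := by
    rw [hb, orderOf_injective _ SemidirectProduct.inr_injective, Subgroup.orderOf_mk, ha]
  have hord : orderOf (ψ ⟨b, hbN⟩) = q := by
    rcases hq.eq_one_or_self_of_dvd _ ((orderOf_map_dvd ψ ⟨b, hbN⟩).trans
      (by rw [Subgroup.orderOf_mk, hob])) with h | h
    swap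
    · exact h
    exfalso
    rw [orderOf_eq_one_iff] at h
    have hc := hψ ⟨b, hbN⟩ h (by
      change (orderOf b).Coprime p
      rw [hob]; exact (Nat.coprime_primes hq hpp).mpr hqp)
    have ha1 : a = 1 := by
      apply MulEquiv.ext
      intro r
      have h1 := Subgroup.mem_centralizer_iff.mp hc (ι r) ⟨r, rfl⟩
      have h2 : (SemidirectProduct.inl ((Subgroup.zpowers a).subtype ⟨a, Subgroup.mem_zpowers a⟩ r) : G) =
          SemidirectProduct.inl r := by
        rw [SemidirectProduct.inl_aut]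
        change b * ι r * SemidirectProduct.inr _ = _
        rw [show b * ι r = ι r * b from h1.symm, mul_assoc, hb, ← map_mul, mul_inv_cancel, map_one, mul_one]
      exact SemidirectProduct.inl_injective h2
    rw [ha1, orderOf_one] at ha
    exact hq.one_lt.ne ha
  have hdvdGL : q ∣ Nat.card (GL (Fin 2) (ZMod p)) := hord ▸ orderOf_dvd_natCard _
  refine ⟨?_, lt_of_le_of_ne (le_of_dvd_card_GL_two hp hq hq2 hdvdGL) hqp⟩
  rw [Matrix.card_GL_field (𝔽 := ZMod p) (n := 2), Fin.prod_univ_two, ZMod.card] at hdvdGL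
  simp only [Fin.val_zero, pow_zero, Fin.val_one, pow_one] at hdvdGL
  rcases hq.dvd_mul.mp hdvdGL with h | h
  · exact h
  · rw [show p ^ 2 - p = p * (p - 1) by rw [pow_two, Nat.mul_sub, mul_one]] at h
    rcases hq.dvd_mul.mp h with h | h
    · exact absurd ((Nat.prime_dvd_prime_iff_eq hq hpp).mp h) hqp
    · rw [hsq]; exact dvd_mul_of_dvd_right h _

end Cfsg.Agent.PLocalB
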