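import Mathlib
import Cfsg.Prelude.Def_PLocal
import Cfsg.Agent.PLocalB.CenterThompson

/-!
The replacement property of the abelian subgroups of largest order of a normal subgroup.
-/

set_option autoImplicit false
set_option linter.style.haveILetI false

namespace Cfsg.Agent.PLocalB

variable {S : Type*} [Group S]

theorem AbFamily.replacement_property [Finite S] (F : AbFamily S) {p : ℕ} [Fact p.Prime]
    (hS : IsPGroup p S) (hp : p ≠ 2) (D B : Subgroup S) [D.Normal] [B.Normal]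
    (h : ∃ U, F.IsMax D U ∧ ⁅B, B⁆ ≤ U ∧ ¬ B ≤ U) :
    ∃ A, F.IsMax D A ∧ ⁅B, B⁆ ≤ A ∧ ¬ B ≤ A ∧ B ≤ Subgroup.normalizer (A : Set S) := by
  obtain ⟨A, ⟨hA, hBA, hnle⟩, hmax⟩ := Set.exists_max_image
    {U | F.IsMax D U ∧ ⁅B, B⁆ ≤ U ∧ ¬ B ≤ U} (fun U => Nat.card ↥(U ⊓ B)) (Set.toFinite _) h
  refine ⟨A, hA, hBA, hnle, ?_⟩
  by_contra hnot
  obtain ⟨A', -, hcard, hA'c, hle, hB', hlt1, hlt2, -, -, hexp⟩ := replacement_in (p := p)
    (⊤ : Subgroup S) B A (hS.to_subgroup _) le_top (by rw [Subgroup.normalizer_eq_top B])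
    (fun h2 => absurd h2 hp) le_top (F.comm A hA.2.1) hBA hnot
  have hA'D : A' ≤ D :=
    hle.trans (sup_le hA.1 ((Subgroup.commutator_mono le_rfl hA.1).trans (Subgroup.commutator_le_right B D)))
  have h1 := hmax A' ⟨⟨hA'D, F.of_exponent A A' hA.2.1 hA'c (hexp hp),
    fun E h1 h2 => hcard ▸ hA.2.2 E h1 h2⟩, hB', fun hle' => hlt2.ne (inf_eq_right.mpr hle')⟩
  exact hlt1.ne (Subgroup.eq_of_le_of_card_ge hlt1.le h1)

end Cfsg.Agent.PLocalB
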